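import Mathlib
import Cfsg.Prelude.Def_LieRecognition
import Cfsg.Agent.Lib.FT.Wielandt

/-!
Project D (Suzuki's theorem on doubly transitive groups), Peterfalvi Part II, Ch. I §1, §2 Prop. 1.
Purely group-theoretic form of hypothesis (A1): `RO H Q t`.  Conjugation is on the right:
`x^a = a⁻¹ * x * a`.
-/

set_option autoImplicit false

namespace CfsgLib.Suz
open Subgroup

variable {G : Type*} [Group G]

/-- `D = H ∩ H^t`. -/
def Dg (H : Subgroup G) (t : G) : Subgroup G := H ⊓ H.comap (MulAut.conj t).toMonoidHom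

/-- `K` (as a set): the elements of `D` inverted by `t`. -/
def Kset (H : Subgroup G) (t : G) : Set G := {k | k ∈ Dg H t ∧ t * k * t = k⁻¹}

/-- `V = C_D(t)`. -/
def Vg (H : Subgroup G) (t : G) : Subgroup G := Dg H t ⊓ centralizer {t}

/-- `Q₀ = Ω₁(Q)`. -/
def Q0g (Q : Subgroup G) : Subgroup G := closure {x | x ∈ Q ∧ x * x = 1}

/-- `W = C_D(Q₀)`. -/
def Wg (H Q : Subgroup G) (t : G) : Subgroup G := Dg H t ⊓ centralizer (Q0g Q : Set G)

/-- `K` as a subgroup (it is equal to `Kset` when the action is faithful of 2-rank at least 2). -/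
def Kg (H : Subgroup G) (t : G) : Subgroup G := closure (Kset H t)

/-- Hypothesis (A1). -/
structure RO (H Q : Subgroup G) (t : G) : Prop where
  tt : t * t = 1
  t_notMem : t ∉ H
  le : Q ≤ H
  norm : ∀ h ∈ H, ∀ x ∈ Q, h⁻¹ * x * h ∈ Q
  inf : ∀ x ∈ Q, t * x * t ∈ H → x = 1
  dec : ∀ h ∈ H, ∃ x ∈ Q, ∃ d ∈ Dg H t, h = x * d
  canon : ∀ g, g ∉ H → ∃ h ∈ H, ∃ y ∈ Q, g = h * t * y
  even : Even (Nat.card Q)
  odd : Odd (Nat.card (Dg H t))

/-- `Q` has at least two involutions (hypothesis (A3)). -/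
def Rank2 (Q : Subgroup G) : Prop :=
  ∃ x ∈ Q, ∃ y ∈ Q, x ≠ 1 ∧ y ≠ 1 ∧ x ≠ y ∧ x * x = 1 ∧ y * y = 1

/-- The distinguished involution `s` and the structure equation `t s t = r⁻¹ t r`. -/
structure Dist (Q : Subgroup G) (t s r : G) : Prop where
  s_mem : s ∈ Q
  s_ne : s ≠ 1
  ss : s * s = 1
  r_mem : r ∈ Q
  eq : t * s * t = r⁻¹ * t * r

theorem eq_of_sq_eq_of_odd {a b : G} {m : ℕ} (hm : Odd m) (ha : a ^ m = 1) (hb : b ^ m = 1)
    (h : a * a = b * b) : a = b := by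
  obtain ⟨j, rfl⟩ := hm
  have e : ∀ c : G, c ^ (2 * j + 1) = 1 → c = (c * c) ^ (j + 1) := by
    intro c hc
    rw [← pow_two, ← pow_mul, show 2 * (j + 1) = (2 * j + 1) + 1 by ring, pow_succ, hc, one_mul]
  rw [e a ha, e b hb, h]

theorem exists_sq_eq_of_odd {a : G} {m : ℕ} (hm : Odd m) (ha : a ^ m = 1) :
    ∃ j : ℕ, a ^ j * a ^ j = a := by
  obtain ⟨j, rfl⟩ := hm
  refine ⟨j + 1, ?_⟩
  rw [← pow_add, show j + 1 + (j + 1) = (2 * j + 1) + 1 by ring, pow_succ, ha, one_mul]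

theorem inv_eq_of_mul_self {u : G} (hu : u * u = 1) : u⁻¹ = u := inv_eq_of_mul_eq_one_right hu

theorem conj_pow_of_inv {u x : G} (hu : u * u = 1) (h : u * x * u = x⁻¹) (j : ℕ) :
    u * x ^ j * u = (x ^ j)⁻¹ := by
  have hi := inv_eq_of_mul_self hu
  have : u * x ^ j * u = (u * x * u⁻¹) ^ j := by rw [conj_pow, hi]
  rw [this, hi, h, inv_pow]

/-- two involutions whose product has odd order are conjugate by a power of the product -/
theorem exists_conj_of_odd {u v : G} (hu : u * u = 1) (hv : v * v = 1) {m : ℕ} (hm : Odd m)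
    (h : (u * v) ^ m = 1) : ∃ j : ℕ, ((u * v) ^ j)⁻¹ * u * (u * v) ^ j = v := by
  obtain ⟨j, hj⟩ := exists_sq_eq_of_odd hm h
  refine ⟨j, ?_⟩
  have h1 : u * (u * v) * u = (u * v)⁻¹ := by
    rw [mul_inv_rev, inv_eq_of_mul_self hu, inv_eq_of_mul_self hv, ← mul_assoc, hu, one_mul]
  have h2 := conj_pow_of_inv hu h1 j
  calc ((u * v) ^ j)⁻¹ * u * (u * v) ^ j = u * (u * v) ^ j * (u * u) * (u * v) ^ j := by
        rw [← h2]; simp only [mul_assoc]
    _ = u * ((u * v) ^ j * (u * v) ^ j) := by rw [hu]; simp only [mul_assoc, one_mul]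
    _ = v := by rw [hj, ← mul_assoc, hu, one_mul]

/-- if the product of two involutions has even order there is an involution commuting with both -/
theorem exists_comm_of_even [Finite G] {u v : G} (hu : u * u = 1) (hv : v * v = 1)
    (h : Even (orderOf (u * v))) : ∃ z : G, z ≠ 1 ∧ z * z = 1 ∧ z * u = u * z ∧ z * v = v * z := by
  obtain ⟨j, hj⟩ := h
  have hpos : 0 < orderOf (u * v) := orderOf_pos _
  have hzz : (u * v) ^ j * (u * v) ^ j = 1 := by rw [← pow_add, ← hj, pow_orderOf_eq_one]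
  have h1 : u * (u * v) * u = (u * v)⁻¹ := by
    rw [mul_inv_rev, inv_eq_of_mul_self hu, inv_eq_of_mul_self hv, ← mul_assoc, hu, one_mul]
  have h1' : v * (u * v) * v = (u * v)⁻¹ := by
    rw [mul_inv_rev, inv_eq_of_mul_self hu, inv_eq_of_mul_self hv, mul_assoc, mul_assoc, hv, mul_one]
  have h2 := conj_pow_of_inv hu h1 j
  have h3 := conj_pow_of_inv hv h1' j
  rw [inv_eq_of_mul_self hzz] at h2 h3
  refine ⟨(u * v) ^ j, pow_ne_one_of_lt_orderOf (by omega) (by omega), hzz, ?_, ?_⟩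
  · calc (u * v) ^ j * u = (u * u) * (u * v) ^ j * u := by rw [hu, one_mul]
      _ = u * (u * (u * v) ^ j * u) := by simp only [mul_assoc]
      _ = _ := by rw [h2]
  · calc (u * v) ^ j * v = (v * v) * (u * v) ^ j * v := by rw [hv, one_mul]
      _ = v * (v * (u * v) ^ j * v) := by simp only [mul_assoc]
      _ = _ := by rw [h3]

theorem exists_invol_pow [Finite G] {g : G} (h : Even (orderOf g)) :
    ∃ j : ℕ, g ^ j ≠ 1 ∧ g ^ j * g ^ j = 1 := by
  obtain ⟨j, hj⟩ := h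
  have hpos : 0 < orderOf g := orderOf_pos _
  exact ⟨j, pow_ne_one_of_lt_orderOf (by omega) (by omega), by
    rw [← pow_add, ← hj, pow_orderOf_eq_one]⟩

theorem exists_invol_of_even [Finite G] {A : Subgroup G} (h : Even (Nat.card A)) :
    ∃ u ∈ A, u ≠ 1 ∧ u * u = 1 := by
  haveI : Fact (Nat.Prime 2) := ⟨Nat.prime_two⟩
  obtain ⟨u, hu⟩ := exists_prime_orderOf_dvd_card' (G := A) 2 (even_iff_two_dvd.1 h)
  refine ⟨u, u.2, ?_, ?_⟩
  · intro h1
    have : u = 1 := Subtype.ext h1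
    rw [this, orderOf_one] at hu; omega
  · have := pow_orderOf_eq_one u
    rw [hu, pow_two] at this
    exact congrArg Subtype.val this

theorem even_card_of_invol [Finite G] {A : Subgroup G} {u : G} (hu : u ∈ A) (h1 : u ≠ 1)
    (h2 : u * u = 1) : Even (Nat.card A) := by
  have : orderOf u = 2 := orderOf_eq_prime (by rw [pow_two, h2]) h1
  rw [even_iff_two_dvd, ← this]
  exact A.orderOf_dvd_natCard hu

theorem eq_one_of_odd_card [Finite G] {A : Subgroup G} (hA : Odd (Nat.card A)) {u : G} (hu : u ∈ A)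
    (h2 : u * u = 1) : u = 1 := by
  by_contra h1
  exact (Nat.not_even_iff_odd.2 hA) (even_card_of_invol hu h1 h2)

theorem pow_card_of_mem {A : Subgroup G} {a : G} (ha : a ∈ A) : a ^ Nat.card A = 1 := by
  have := pow_card_eq_one' (G := A) (x := ⟨a, ha⟩)
  exact congrArg Subtype.val this

theorem mem_Vg_iff {H : Subgroup G} {t v : G} : v ∈ Vg H t ↔ v ∈ Dg H t ∧ t * v = v * t := by
  simp [Vg, mem_centralizer_singleton_iff, eq_comm]

theorem Vg_le_Dg {H : Subgroup G} {t : G} : Vg H t ≤ Dg H t := inf_le_left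
theorem Dg_le {H : Subgroup G} {t : G} : Dg H t ≤ H := inf_le_left
theorem Wg_le_Dg {H Q : Subgroup G} {t : G} : Wg H Q t ≤ Dg H t := inf_le_left
theorem Q0g_le {Q : Subgroup G} : Q0g Q ≤ Q := (closure_le _).2 fun _ h => h.1
theorem mem_Q0g_of {Q : Subgroup G} {x : G} (hx : x ∈ Q) (h : x * x = 1) : x ∈ Q0g Q :=
  subset_closure ⟨hx, h⟩
theorem Kg_le_Dg {H : Subgroup G} {t : G} : Kg H t ≤ Dg H t := (closure_le _).2 fun _ h => h.1

namespace RO
variable {H Q : Subgroup G} {t : G} (R : RO H Q t)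
include R

theorem t_inv : t⁻¹ = t := inv_eq_of_mul_self R.tt

theorem tt' (x : G) : t * (t * x) = x := by rw [← mul_assoc, R.tt, one_mul]
theorem tt'' (x : G) : x * t * t = x := by rw [mul_assoc, R.tt, mul_one]

theorem t_ne : t ≠ 1 := fun h => R.t_notMem (h ▸ H.one_mem)

theorem mem_D {d : G} : d ∈ Dg H t ↔ d ∈ H ∧ t * d * t ∈ H := by
  simp [Dg, R.t_inv]

theorem conj_t_mem_D {d : G} (hd : d ∈ Dg H t) : t * d * t ∈ Dg H t := by
  rw [R.mem_D] at hd ⊢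
  refine ⟨hd.2, ?_⟩
  rw [show t * (t * d * t) * t = (t * t) * d * (t * t) by simp only [mul_assoc], R.tt]
  simpa using hd.1

theorem norm' {h x : G} (hh : h ∈ H) (hx : x ∈ Q) : h * x * h⁻¹ ∈ Q := by
  simpa using R.norm h⁻¹ (H.inv_mem hh) x hx

theorem le_normalizer : H ≤ normalizer (Q : Set G) := by
  intro h hh
  rw [mem_normalizer_iff]
  intro x
  refine ⟨fun hx => R.norm' hh hx, fun hx => ?_⟩
  simpa [mul_assoc] using R.norm h hh _ hx

theorem eq_one_of_mem_D {x : G} (hx : x ∈ Q) (hd : x ∈ Dg H t) : x = 1 :=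
  R.inf x hx (R.mem_D.1 hd).2

theorem Q_inf_D : Q ⊓ Dg H t = ⊥ :=
  (eq_bot_iff_forall _).2 fun _ hx => R.eq_one_of_mem_D hx.1 hx.2

theorem notMem_canon {h y : G} (hh : h ∈ H) (hy : y ∈ H) : h * t * y ∉ H := by
  intro hm
  apply R.t_notMem
  have := H.mul_mem (H.mul_mem (H.inv_mem hh) hm) (H.inv_mem hy)
  simpa [mul_assoc] using this

theorem txt_notMem {x : G} (hx : x ∈ Q) (h1 : x ≠ 1) : t * x * t ∉ H := fun h => h1 (R.inf x hx h)

theorem canon_unique {h h' y y' : G} (hh : h ∈ H) (hh' : h' ∈ H) (hy : y ∈ Q) (hy' : y' ∈ Q)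
    (e : h * t * y = h' * t * y') : h = h' ∧ y = y' := by
  have h1 : t * (y * y'⁻¹) * t = h⁻¹ * h' := by
    calc t * (y * y'⁻¹) * t = h⁻¹ * (h * t * y) * y'⁻¹ * t := by group
      _ = h⁻¹ * h' * (t * t) := by rw [e]; group
      _ = _ := by rw [R.tt, mul_one]
  have h2 : y * y'⁻¹ = 1 := R.inf _ (Q.mul_mem hy (Q.inv_mem hy'))
    (h1 ▸ H.mul_mem (H.inv_mem hh) hh')
  have h3 : y = y' := mul_inv_eq_one.1 h2
  subst h3
  exact ⟨mul_right_cancel (mul_right_cancel e), rfl⟩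

theorem dec_unique {x x' d d' : G} (hx : x ∈ Q) (hx' : x' ∈ Q) (hd : d ∈ Dg H t)
    (hd' : d' ∈ Dg H t) (e : x * d = x' * d') : x = x' ∧ d = d' := by
  have h1 : x'⁻¹ * x = d' * d⁻¹ := by
    calc x'⁻¹ * x = x'⁻¹ * (x * d) * d⁻¹ := by group
      _ = _ := by rw [e]; group
  have h2 : x'⁻¹ * x = 1 := R.eq_one_of_mem_D (Q.mul_mem (Q.inv_mem hx') hx)
    (h1 ▸ (Dg H t).mul_mem hd' ((Dg H t).inv_mem hd))
  have h3 : x' = x := inv_mul_eq_one.1 h2
  subst h3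
  exact ⟨rfl, mul_left_cancel e⟩

theorem canon3 {g : G} (hg : g ∉ H) : ∃ x ∈ Q, ∃ d ∈ Dg H t, ∃ y ∈ Q, g = x * d * t * y := by
  obtain ⟨h, hh, y, hy, rfl⟩ := R.canon g hg
  obtain ⟨x, hx, d, hd, rfl⟩ := R.dec h hh
  exact ⟨x, hx, d, hd, y, hy, rfl⟩

theorem canon3_unique {x x' d d' y y' : G} (hx : x ∈ Q) (hx' : x' ∈ Q) (hd : d ∈ Dg H t)
    (hd' : d' ∈ Dg H t) (hy : y ∈ Q) (hy' : y' ∈ Q) (e : x * d * t * y = x' * d' * t * y') :
    x = x' ∧ d = d' ∧ y = y' := by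
  obtain ⟨h1, h2⟩ := R.canon_unique (H.mul_mem (R.le hx) (Dg_le hd))
    (H.mul_mem (R.le hx') (Dg_le hd')) hy hy' e
  obtain ⟨h3, h4⟩ := R.dec_unique hx hx' hd hd' h1
  exact ⟨h3, h4, h2⟩

/-- `Q` is a TI-subgroup in the strong sense -/
theorem mem_H_of_conj {x g : G} (hx : x ∈ Q) (h1 : x ≠ 1) (h : g⁻¹ * x * g ∈ H) : g ∈ H := by
  by_contra hg
  obtain ⟨a, ha, y, hy, rfl⟩ := R.canon g hg
  have h2 : t * (a⁻¹ * x * a) * t ∈ H := by
    have := H.mul_mem (H.mul_mem (R.le hy) h) (H.inv_mem (R.le hy))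
    simpa [mul_assoc, R.t_inv] using this
  have := R.inf _ (R.norm a ha x hx) h2
  apply h1
  calc x = a * (a⁻¹ * x * a) * a⁻¹ := by group
    _ = 1 := by rw [this]; group

theorem mem_H_of_conj' {x g : G} (hx : x ∈ Q) (h1 : x ≠ 1) (h : g * x * g⁻¹ ∈ H) : g ∈ H := by
  have := R.mem_H_of_conj (g := g⁻¹) hx h1 (by simpa using h)
  simpa using this

theorem mem_H_of_comm {x g : G} (hx : x ∈ Q) (h1 : x ≠ 1) (h : x * g = g * x) : g ∈ H :=
  R.mem_H_of_conj hx h1 (by rw [mul_assoc, h]; simpa using R.le hx)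

theorem conj_mem_Q {x g : G} (hx : x ∈ Q) (h : g⁻¹ * x * g ∈ H) : g⁻¹ * x * g ∈ Q := by
  by_cases h1 : x = 1
  · simp [h1]
  · exact R.norm g (R.mem_H_of_conj hx h1 h) x hx

theorem pow_card_D_mem {h : G} (hh : h ∈ H) : h ^ Nat.card (Dg H t) ∈ Q := by
  obtain ⟨x, hx, d, hd, rfl⟩ := R.dec h hh
  have key : ∀ n : ℕ, ∃ y ∈ Q, (x * d) ^ n = y * d ^ n := by
    intro n
    induction n with
    | zero => exact ⟨1, Q.one_mem, by simp⟩
    | succ n ih =>
      obtain ⟨y, hy, e⟩ := ih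
      refine ⟨y * (d ^ n * x * (d ^ n)⁻¹), Q.mul_mem hy (R.norm' (H.pow_mem (Dg_le hd) n) hx), ?_⟩
      rw [pow_succ, e, pow_succ]; group
  obtain ⟨y, hy, e⟩ := key (Nat.card (Dg H t))
  rw [e, pow_card_of_mem hd, mul_one]; exact hy

theorem mem_Q_of_coprime {h : G} (hh : h ∈ H) {m : ℕ} (hm : h ^ m = 1)
    (hc : m.Coprime (Nat.card (Dg H t))) : h ∈ Q := by
  have h1 := R.pow_card_D_mem hh
  by_cases hm0 : m = 0
  · subst hm0
    have : Nat.card (Dg H t) = 1 := by simpa using hc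
    simpa [this] using h1
  have hfin : IsOfFinOrder h := isOfFinOrder_iff_pow_eq_one.2 ⟨m, Nat.pos_of_ne_zero hm0, hm⟩
  have hc' : (Nat.card (Dg H t)).Coprime (orderOf h) :=
    (Nat.Coprime.coprime_dvd_left (orderOf_dvd_of_pow_eq_one hm) hc).symm
  obtain ⟨j, hj⟩ := exists_pow_eq_self_of_coprime hc'
  rw [← hj]; exact Q.pow_mem h1 j

theorem mem_Q_of_invol {u : G} (hu : u ∈ H) (h2 : u * u = 1) : u ∈ Q :=
  R.mem_Q_of_coprime hu (m := 2) (by rw [pow_two, h2]) (Nat.coprime_two_left.2 R.odd)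

theorem mem_Q_of_two_pow {u : G} (hu : u ∈ H) {j : ℕ} (h2 : u ^ 2 ^ j = 1) : u ∈ Q :=
  R.mem_Q_of_coprime hu h2 (Nat.Coprime.pow_left j (Nat.coprime_two_left.2 R.odd))

theorem D_pow {d : G} (hd : d ∈ Dg H t) : d ^ Nat.card (Dg H t) = 1 := pow_card_of_mem hd

theorem D_eq_of_sq {a b : G} (ha : a ∈ Dg H t) (hb : b ∈ Dg H t) (h : a * a = b * b) : a = b :=
  eq_of_sq_eq_of_odd R.odd (R.D_pow ha) (R.D_pow hb) h

theorem K_one : (1 : G) ∈ Kset H t := ⟨(Dg H t).one_mem, by simp [R.tt]⟩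

theorem K_inv {k : G} (hk : k ∈ Kset H t) : k⁻¹ ∈ Kset H t := by
  refine ⟨(Dg H t).inv_mem hk.1, ?_⟩
  have := congrArg (·⁻¹) hk.2
  simpa [mul_assoc, R.t_inv] using this

theorem K_pow {k : G} (hk : k ∈ Kset H t) (j : ℕ) : k ^ j ∈ Kset H t :=
  ⟨(Dg H t).pow_mem hk.1 j, conj_pow_of_inv R.tt hk.2 j⟩

theorem K_mul_t {k : G} (hk : k ∈ Kset H t) : k * t = t * k⁻¹ := by
  rw [← hk.2, ← mul_assoc, R.tt']

theorem t_mul_K {k : G} (hk : k ∈ Kset H t) : t * k = k⁻¹ * t := by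
  rw [← hk.2, R.tt'']

theorem K_sqrt {k : G} (hk : k ∈ Kset H t) : ∃ a ∈ Kset H t, a * a = k := by
  obtain ⟨j, hj⟩ := exists_sq_eq_of_odd R.odd (R.D_pow hk.1)
  exact ⟨k ^ j, R.K_pow hk j, hj⟩

/-- `d^{-t} d ∈ K` -/
theorem K_of_D {d : G} (hd : d ∈ Dg H t) : t * d⁻¹ * t * d ∈ Kset H t := by
  refine ⟨(Dg H t).mul_mem (R.conj_t_mem_D ((Dg H t).inv_mem hd)) hd, ?_⟩
  simp [mul_assoc, R.tt', R.t_inv]

theorem K_conj_V {k v : G} (hk : k ∈ Kset H t) (hv : v ∈ Vg H t) : v⁻¹ * k * v ∈ Kset H t := by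
  rw [mem_Vg_iff] at hv
  refine ⟨(Dg H t).mul_mem ((Dg H t).mul_mem ((Dg H t).inv_mem hv.1) hk.1) hv.1, ?_⟩
  have h1 : t * v⁻¹ = v⁻¹ * t := by
    calc t * v⁻¹ = v⁻¹ * (v * t) * v⁻¹ := by group
      _ = v⁻¹ * t := by rw [← hv.2]; group
  calc t * (v⁻¹ * k * v) * t = (t * v⁻¹) * k * (v * t) := by group
    _ = v⁻¹ * (t * k * t) * v := by rw [h1, ← hv.2]; group
    _ = _ := by rw [hk.2]; group

theorem eq_one_of_K_of_V {k : G} (hk : k ∈ Kset H t) (hv : k ∈ Vg H t) : k = 1 := by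
  rw [mem_Vg_iff] at hv
  have h1 : k⁻¹ = k := by rw [← hk.2, hv.2, R.tt'']
  exact R.D_eq_of_sq hk.1 (Dg H t).one_mem (by
    nth_rewrite 1 [← h1]; simp)

/-- involutions outside `H` are conjugate to `t` by an element of `K Q` -/
theorem invol_notMem {u : G} (hu : u ∉ H) (h2 : u * u = 1) :
    ∃ a ∈ Kset H t, ∃ y ∈ Q, u = (a * y)⁻¹ * t * (a * y) := by
  obtain ⟨h, hh, y, hy, rfl⟩ := R.canon u hu
  obtain ⟨x, hx, d, hd, e⟩ := R.dec (y * h) (H.mul_mem (R.le hy) hh)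
  have h3 : x * d * t * (x * d * t) = 1 := by
    rw [← e]
    calc y * h * t * (y * h * t) = y * (h * t * y * (h * t * y)) * y⁻¹ := by group
      _ = 1 := by rw [h2]; group
  have h4 : t * x * t = d⁻¹ * x⁻¹ * (t * d * t)⁻¹ := by
    calc t * x * t = d⁻¹ * x⁻¹ * (x * d * t * (x * d * t)) * t⁻¹ * d⁻¹ * t := by group
      _ = _ := by rw [h3]; simp [mul_assoc, R.t_inv]
  have hx1 : x = 1 := R.inf x hx (h4 ▸ H.mul_mem (H.mul_mem (H.inv_mem (Dg_le hd))
    (H.inv_mem (R.le hx))) (H.inv_mem (R.mem_D.1 hd).2))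
  subst hx1
  have hk : d ∈ Kset H t := ⟨hd, by
    rw [eq_inv_iff_mul_eq_one]
    calc t * d * t * d = d⁻¹ * (1 * d * t * (1 * d * t)) * t⁻¹ * t⁻¹ * t * t * d * (t * t)⁻¹ * (t*t) := by
          group
      _ = t * d * t * d := by group
      _ = t * (1 * d * t * (1 * d * t)) * t⁻¹ := by group
      _ = 1 := by rw [h3]; group⟩
  obtain ⟨a, ha, haa⟩ := R.K_sqrt (R.K_inv hk)
  refine ⟨a, ha, y, hy, ?_⟩
  have h5 : h = y⁻¹ * d := by rw [← one_mul d, ← e]; group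
  have h6 : a⁻¹ * t * a = d * t := by
    rw [← R.t_mul_K ha, mul_assoc, haa, R.K_mul_t hk]
  rw [h5]
  calc y⁻¹ * d * t * y = y⁻¹ * (d * t) * y := by group
    _ = _ := by rw [← h6]; group

theorem exists_dist_conj {u : G} (hu : u ∈ Q) (h1 : u ≠ 1) (h2 : u * u = 1) :
    ∃ a ∈ Kset H t, ∃ r, Dist Q t (a⁻¹ * u * a) r := by
  obtain ⟨a, ha, y, hy, e⟩ := R.invol_notMem (R.txt_notMem hu h1) (by
    calc t * u * t * (t * u * t) = t * u * (t * t) * u * t := by group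
      _ = 1 := by rw [R.tt, mul_one, mul_assoc t u u, h2, mul_one, R.tt])
  have haH : a ∈ H := Dg_le ha.1
  refine ⟨a, ha, a * y * a⁻¹, R.norm a haH u hu, ?_, ?_, R.norm' haH hy, ?_⟩
  · intro h; apply h1
    calc u = a * (a⁻¹ * u * a) * a⁻¹ := by group
      _ = 1 := by rw [h]; group
  · calc a⁻¹ * u * a * (a⁻¹ * u * a) = a⁻¹ * (u * u) * a := by group
      _ = 1 := by rw [h2]; group
  · calc t * (a⁻¹ * u * a) * t = (t * a⁻¹) * u * (a * t) := by group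
      _ = a * (t * u * t) * a⁻¹ := by
          rw [← R.K_mul_t ha, mul_assoc a (t * u * t), mul_assoc (t * u) t, ← R.K_mul_t ha]; group
      _ = _ := by rw [e]; group

theorem dist_unique {s r s' r' : G} (h : Dist Q t s r) (h' : Dist Q t s' r') : s = s' ∧ r = r' := by
  have e : (t * (r⁻¹ * r') * t)⁻¹ * s * (t * (r⁻¹ * r') * t) = s' := by
    calc (t * (r⁻¹ * r') * t)⁻¹ * s * (t * (r⁻¹ * r') * t)
        = t⁻¹ * r'⁻¹ * r * (t⁻¹ * s * t) * r⁻¹ * r' * t := by group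
      _ = t * (r'⁻¹ * t * r') * t := by rw [R.t_inv, h.eq]; group
      _ = s' := by rw [← h'.eq]; simp [mul_assoc, R.tt', R.tt]
  have h1 := R.mem_H_of_conj h.s_mem h.s_ne (e ▸ R.le h'.s_mem)
  have h2 := R.inf _ (Q.mul_mem (Q.inv_mem h.r_mem) h'.r_mem) h1
  rw [h2] at e
  refine ⟨?_, inv_mul_eq_one.1 h2⟩
  rw [← e]; simp [R.tt]

theorem exists_dist [Finite G] : ∃ s r, Dist Q t s r := by
  obtain ⟨u, hu, h1, h2⟩ := exists_invol_of_even R.even
  obtain ⟨a, -, r, h⟩ := R.exists_dist_conj hu h1 h2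
  exact ⟨_, r, h⟩

variable {s r : G}

/-- `K` is transitive on the involutions of `H` -/
theorem exists_K_conj (hs : Dist Q t s r) {u : G} (hu : u ∈ Q) (h1 : u ≠ 1) (h2 : u * u = 1) :
    ∃ k ∈ Kset H t, u = k⁻¹ * s * k := by
  obtain ⟨a, ha, r', h⟩ := R.exists_dist_conj hu h1 h2
  refine ⟨a⁻¹, R.K_inv ha, ?_⟩
  rw [(R.dist_unique hs h).1]; group

theorem r_ne (hs : Dist Q t s r) : r ≠ 1 := by
  intro h
  have := hs.eq
  rw [h] at this
  apply R.t_notMem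
  have h2 : s = t := by
    calc s = t * (t * s * t) * t := by simp [mul_assoc, R.tt', R.tt]
      _ = t := by rw [this]; simp [R.tt]
  exact h2 ▸ R.le hs.s_mem

theorem trt (hs : Dist Q t s r) : t * r * t = r * t * s := by
  calc t * r * t = r * (r⁻¹ * t * r) * t := by group
    _ = r * t * s := by rw [← hs.eq]; simp [mul_assoc, R.tt]

theorem tr_inv_t (hs : Dist Q t s r) : t * r⁻¹ * t = s * t * r⁻¹ := by
  have := congrArg (·⁻¹) (R.trt hs)
  simpa [mul_assoc, R.t_inv, inv_eq_of_mul_self hs.ss] using this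

theorem dist_conj_V (hs : Dist Q t s r) {v : G} (hv : v ∈ Vg H t) :
    v⁻¹ * s * v = s ∧ v⁻¹ * r * v = r := by
  rw [mem_Vg_iff] at hv
  have hvH : v ∈ H := Dg_le hv.1
  have h1 : t * v⁻¹ = v⁻¹ * t := by
    calc t * v⁻¹ = v⁻¹ * (v * t) * v⁻¹ := by group
      _ = v⁻¹ * t := by rw [← hv.2]; group
  refine R.dist_unique ⟨R.norm v hvH s hs.s_mem, ?_, ?_, R.norm v hvH r hs.r_mem, ?_⟩ hs
  · intro h; apply hs.s_ne
    calc s = v * (v⁻¹ * s * v) * v⁻¹ := by group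
      _ = 1 := by rw [h]; group
  · calc v⁻¹ * s * v * (v⁻¹ * s * v) = v⁻¹ * (s * s) * v := by group
      _ = 1 := by rw [hs.ss]; group
  · calc t * (v⁻¹ * s * v) * t = (t * v⁻¹) * s * (v * t) := by group
      _ = v⁻¹ * (t * s * t) * v := by rw [h1, ← hv.2]; group
      _ = v⁻¹ * r⁻¹ * v * (v⁻¹ * (t * v)) * v⁻¹ * r * v := by rw [hs.eq]; group
      _ = _ := by rw [hv.2]; group

theorem V_comm_s (hs : Dist Q t s r) {v : G} (hv : v ∈ Vg H t) : s * v = v * s := by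
  calc s * v = v * (v⁻¹ * s * v) := by group
    _ = _ := by rw [(R.dist_conj_V hs hv).1]

theorem V_comm_r (hs : Dist Q t s r) {v : G} (hv : v ∈ Vg H t) : r * v = v * r := by
  calc r * v = v * (v⁻¹ * r * v) := by group
    _ = _ := by rw [(R.dist_conj_V hs hv).2]

theorem mem_V_of_comm_s (hs : Dist Q t s r) {d : G} (hd : d ∈ Dg H t) (h : s * d = d * s) :
    d ∈ Vg H t := by
  have hd' := R.conj_t_mem_D hd
  set e := t * d * t with he
  have key : r⁻¹ * 1 * t * r = (e⁻¹ * r⁻¹ * e) * (e⁻¹ * d) * t * (e⁻¹ * r * e) := by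
    have h1 : e⁻¹ * (t * s * t) * e = t * s * t := by
      rw [he]
      calc (t * d * t)⁻¹ * (t * s * t) * (t * d * t) = t⁻¹ * d⁻¹ * s * (t * t) * d * t := by group
        _ = t * d⁻¹ * (s * d) * t := by rw [R.tt, R.t_inv]; group
        _ = _ := by rw [h]; group
    have h2 : d * t = t * e := by rw [he]; simp [mul_assoc, R.tt']
    calc r⁻¹ * 1 * t * r = e⁻¹ * (t * s * t) * e := by rw [h1, hs.eq]; group
      _ = e⁻¹ * r⁻¹ * (t * e) * e⁻¹ * r * e := by rw [hs.eq]; group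
      _ = _ := by rw [← h2]; group
  obtain ⟨-, h2, -⟩ := R.canon3_unique (Q.inv_mem hs.r_mem)
    (R.norm e (Dg_le hd') _ (Q.inv_mem hs.r_mem)) (Dg H t).one_mem
    ((Dg H t).mul_mem ((Dg H t).inv_mem hd') hd) hs.r_mem (R.norm e (Dg_le hd') _ hs.r_mem) key
  rw [mem_Vg_iff]
  refine ⟨hd, ?_⟩
  have h3 : e = d := inv_mul_eq_one.1 h2.symm
  calc t * d = t * d * t * t := (R.tt'' _).symm
    _ = d * t := by rw [← he, h3]

theorem K_inj (hs : Dist Q t s r) {a b : G} (ha : a ∈ Kset H t) (hb : b ∈ Kset H t)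
    (h : a⁻¹ * s * a = b⁻¹ * s * b) : a = b := by
  have h1 : a * b⁻¹ ∈ Vg H t := R.mem_V_of_comm_s hs
    ((Dg H t).mul_mem ha.1 ((Dg H t).inv_mem hb.1)) (by
      calc s * (a * b⁻¹) = a * (a⁻¹ * s * a) * b⁻¹ := by group
        _ = _ := by rw [h]; group)
  have h2 := (mem_Vg_iff.1 h1).2
  have h3 : a⁻¹ * b = a * b⁻¹ := by
    calc a⁻¹ * b = (t * a * t) * (t * b⁻¹ * t) := by rw [ha.2, (R.K_inv hb).2, inv_inv]
      _ = t * a * (t * t) * b⁻¹ * t := by group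
      _ = t * (a * b⁻¹) * t := by rw [R.tt]; group
      _ = _ := by rw [h2, R.tt'']
  apply R.D_eq_of_sq ha.1 hb.1
  calc a * a = a * (a * b⁻¹) * b := by group
    _ = b * b := by rw [← h3]; group

/-- `D = V K` -/
theorem D_eq_V_mul_K [Finite G] {d : G} (hd : d ∈ Dg H t) :
    ∃ v ∈ Vg H t, ∃ k ∈ Kset H t, d = v * k := by
  obtain ⟨s, r, hs⟩ := R.exists_dist
  obtain ⟨k, hk, e⟩ := R.exists_K_conj hs (R.norm d (Dg_le hd) s hs.s_mem) (by
    intro h; apply hs.s_ne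
    calc s = d * (d⁻¹ * s * d) * d⁻¹ := by group
      _ = 1 := by rw [h]; group) (by
    calc d⁻¹ * s * d * (d⁻¹ * s * d) = d⁻¹ * (s * s) * d := by group
      _ = 1 := by rw [hs.ss]; group)
  refine ⟨d * k⁻¹, R.mem_V_of_comm_s hs ((Dg H t).mul_mem hd ((Dg H t).inv_mem hk.1)) ?_, k, hk,
    by group⟩
  calc s * (d * k⁻¹) = d * (d⁻¹ * s * d) * k⁻¹ := by group
    _ = _ := by rw [e]; group

theorem mem_W_iff [Finite G] {w : G} :
    w ∈ Wg H Q t ↔ w ∈ Vg H t ∧ ∀ k ∈ Kset H t, k * w = w * k := by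
  obtain ⟨s, r, hs⟩ := R.exists_dist
  constructor
  · rintro ⟨hd, hc⟩
    have hc' : ∀ u ∈ Q, u * u = 1 → u * w = w * u := fun u hu h => hc u (mem_Q0g_of hu h)
    have hv := R.mem_V_of_comm_s hs hd (hc' s hs.s_mem hs.ss)
    refine ⟨hv, fun k hk => ?_⟩
    have h1 : w⁻¹ * k * w = k := by
      apply R.K_inj hs (R.K_conj_V hk hv) hk
      have h2 := hc' (k⁻¹ * s * k) (R.norm k (Dg_le hk.1) s hs.s_mem) (by
        calc k⁻¹ * s * k * (k⁻¹ * s * k) = k⁻¹ * (s * s) * k := by group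
          _ = 1 := by rw [hs.ss]; group)
      calc (w⁻¹ * k * w)⁻¹ * s * (w⁻¹ * k * w) = w⁻¹ * k⁻¹ * (w * s) * w⁻¹ * k * w := by group
        _ = w⁻¹ * (k⁻¹ * s * k * w) := by rw [← R.V_comm_s hs hv]; group
        _ = _ := by rw [h2]; group
    calc k * w = w * (w⁻¹ * k * w) := by group
      _ = _ := by rw [h1]
  · rintro ⟨hv, hk⟩
    refine ⟨Vg_le_Dg hv, ?_⟩
    show w ∈ centralizer ((closure {x | x ∈ Q ∧ x * x = 1} : Subgroup G) : Set G)
    rw [centralizer_closure]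
    rintro u ⟨hu, h2⟩
    by_cases h1 : u = 1
    · simp [h1]
    obtain ⟨k, hkK, rfl⟩ := R.exists_K_conj hs hu h1 h2
    have h3 := hk k hkK
    have h4 := hk k⁻¹ (R.K_inv hkK)
    calc k⁻¹ * s * k * w = k⁻¹ * (s * w) * k := by rw [mul_assoc, h3]; group
      _ = (k⁻¹ * w) * s * k := by rw [R.V_comm_s hs hv]; group
      _ = _ := by rw [h4]; group

theorem W_le_V [Finite G] : Wg H Q t ≤ Vg H t := fun _ h => (R.mem_W_iff.1 h).1

/-- every involution is conjugate to `t` -/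
theorem invol_conj_t [Finite G] {u : G} (h1 : u ≠ 1) (h2 : u * u = 1) : ∃ g : G, u = g⁻¹ * t * g := by
  by_cases hu : u ∈ H
  · obtain ⟨a, -, y, -, e⟩ := R.invol_notMem (R.txt_notMem (R.mem_Q_of_invol hu h2) h1) (by
      calc t * u * t * (t * u * t) = t * u * (t * t) * u * t := by group
        _ = 1 := by rw [R.tt, mul_one, mul_assoc t u u, h2, mul_one, R.tt])
    refine ⟨a * y * t, ?_⟩
    calc u = t * (t * u * t) * t := by simp [mul_assoc, R.tt', R.tt]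
      _ = _ := by rw [e]; simp [mul_assoc, R.t_inv]
  · obtain ⟨a, -, y, -, e⟩ := R.invol_notMem hu h2
    exact ⟨_, e⟩

theorem invol_conj_s [Finite G] (hs : Dist Q t s r) {u : G} (h1 : u ≠ 1) (h2 : u * u = 1) :
    ∃ g : G, u = g⁻¹ * s * g := by
  obtain ⟨g, rfl⟩ := R.invol_conj_t h1 h2
  obtain ⟨g', e⟩ := R.invol_conj_t hs.s_ne hs.ss
  exact ⟨g'⁻¹ * g, by rw [e]; group⟩

/-- the regularity of `Q` on the points other than `H`, with control of centralizers -/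
theorem exists_cent_move {X : Set G} (hX : X ⊆ H) {g₁ g₂ : G} (h₁ : g₁ ∉ H) (h₂ : g₂ ∉ H)
    (hX₁ : ∀ x ∈ X, g₁ * x * g₁⁻¹ ∈ H) (hX₂ : ∀ x ∈ X, g₂ * x * g₂⁻¹ ∈ H) :
    ∃ y ∈ Q, y ∈ centralizer X ∧ g₁ * y * g₂⁻¹ ∈ H := by
  obtain ⟨a, ha, b, hb, rfl⟩ := R.canon g₁ h₁
  obtain ⟨c, hc, d, hd, rfl⟩ := R.canon g₂ h₂
  have hy : b⁻¹ * d ∈ Q := Q.mul_mem (Q.inv_mem hb) hd
  have hm : a * t * b * (b⁻¹ * d) * (c * t * d)⁻¹ ∈ H := by
    have : a * t * b * (b⁻¹ * d) * (c * t * d)⁻¹ = a * c⁻¹ := by group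
    rw [this]; exact H.mul_mem ha (H.inv_mem hc)
  refine ⟨b⁻¹ * d, hy, fun x hx => ?_, hm⟩
  have h1 := H.mul_mem (H.mul_mem (H.inv_mem (hX₁ x hx)) hm) (hX₂ x hx)
  have h2 : t * (b * (x⁻¹ * (b⁻¹ * d) * x) * d⁻¹) * t ∈ H := by
    have := H.mul_mem (H.mul_mem (H.inv_mem ha) h1) hc
    have e : a⁻¹ * ((a * t * b * x * (a * t * b)⁻¹)⁻¹ * (a * t * b * (b⁻¹ * d) * (c * t * d)⁻¹) *
        (c * t * d * x * (c * t * d)⁻¹)) * c = t * (b * (x⁻¹ * (b⁻¹ * d) * x) * d⁻¹) * t⁻¹ := by group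
    rwa [e, R.t_inv] at this
  have h3 := R.inf _ (Q.mul_mem (Q.mul_mem hb (R.norm x (hX hx) _ hy)) (Q.inv_mem hd)) h2
  calc x * (b⁻¹ * d) = x * b⁻¹ * (b * (x⁻¹ * (b⁻¹ * d) * x) * d⁻¹) * d := by rw [h3]; group
    _ = _ := by group

/-- Peterfalvi II, Ch. I §1 Prop. 6 (b): a subset of `D` centralizing a non-identity element of `Q`
centralizes an involution of `Q`. -/
theorem exists_invol_cent [Finite G] {X : Set G} (hX : X ⊆ Dg H t) {y : G} (hy : y ∈ Q) (hy1 : y ≠ 1)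
    (hyX : y ∈ centralizer X) : ∃ u ∈ Q, u ≠ 1 ∧ u * u = 1 ∧ u ∈ centralizer X := by
  have hXH : X ⊆ H := fun x hx => Dg_le (hX hx)
  -- an element `z` of `C(X)` outside `H`
  obtain ⟨z, hzH, hzX⟩ : ∃ z, z ∉ H ∧ z ∈ centralizer X := by
    obtain ⟨w, hw, hwX, hm⟩ := R.exists_cent_move (X := (fun x => t * x * t) '' X)
      (by rintro _ ⟨x, hx, rfl⟩; exact (R.mem_D.1 (hX hx)).2) R.t_notMem (R.txt_notMem hy hy1)
      (by rintro _ ⟨x, hx, rfl⟩; simpa [mul_assoc, R.tt', R.t_inv, R.tt] using hXH hx)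
      (by
        rintro _ ⟨x, hx, rfl⟩
        have e : t * y * t * (t * x * t) * (t * y * t)⁻¹ = t * x * t := by
          calc t * y * t * (t * x * t) * (t * y * t)⁻¹ = t * y * (t * t) * x * y⁻¹ * t⁻¹ := by group
            _ = t * (y * x) * y⁻¹ * t := by rw [R.tt, R.t_inv]; group
            _ = _ := by rw [← hyX x hx]; group
        rw [e]; exact (R.mem_D.1 (hX hx)).2)
    refine ⟨t * w * t, R.txt_notMem hw ?_, fun x hx => ?_⟩
    · rintro rfl
      apply R.t_notMem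
      have := H.mul_mem (R.le hy) hm
      simpa [mul_assoc, R.t_inv, R.tt'] using this
    · have := hwX _ ⟨x, hx, rfl⟩
      calc x * (t * w * t) = t * (t * x * t * w) * t := by simp [mul_assoc, R.tt']
        _ = _ := by rw [this]; simp [mul_assoc, R.tt]
  have hcX : ∀ g ∈ centralizer X, ∀ x ∈ X, g * x * g⁻¹ ∈ H := fun g hg x hx => by
    rw [← hg x hx]; simpa using hXH hx
  -- an involution in `C(X)`
  obtain ⟨u, hu1, hu2, huX⟩ : ∃ u : G, u ≠ 1 ∧ u * u = 1 ∧ u ∈ centralizer X := by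
    obtain ⟨y', hy', hy'X, hm⟩ := R.exists_cent_move hXH hzH (g₂ := z⁻¹)
      (fun h => hzH (by simpa using h)) (hcX z hzX) (hcX _ ((centralizer X).inv_mem hzX))
    have hg : z * y' ∉ H := fun h => hzH (by simpa using H.mul_mem h (H.inv_mem (R.le hy')))
    have hg2 : (z * y') ^ 2 ∈ H := by
      have := H.mul_mem hm (R.le hy')
      simpa [pow_two, mul_assoc] using this
    have hev : Even (orderOf (z * y')) := by
      by_contra hodd
      obtain ⟨j, hj⟩ := Nat.not_even_iff_odd.1 hodd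
      apply hg
      have h1 := pow_orderOf_eq_one (z * y')
      rw [hj, pow_succ, pow_mul] at h1
      have : z * y' = (((z * y') ^ 2) ^ j)⁻¹ := (inv_eq_of_mul_eq_one_right h1).symm
      rw [this]; exact H.inv_mem (H.pow_mem hg2 j)
    obtain ⟨j, h1, h2⟩ := exists_invol_pow hev
    exact ⟨_, h1, h2, (centralizer X).pow_mem ((centralizer X).mul_mem hzX hy'X) j⟩
  obtain ⟨s, r, hs⟩ := R.exists_dist
  obtain ⟨g, e⟩ := R.invol_conj_s hs hu1 hu2
  by_cases hg : g ∈ H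
  · exact ⟨u, e ▸ R.norm g hg s hs.s_mem, hu1, hu2, huX⟩
  have hXg : ∀ x ∈ X, g * x * g⁻¹ ∈ H := fun x hx => by
    apply R.mem_H_of_comm hs.s_mem hs.s_ne
    have := huX x hx
    rw [e] at this
    calc s * (g * x * g⁻¹) = g * (g⁻¹ * s * g * x) * g⁻¹ := by group
      _ = _ := by rw [← this]; group
  obtain ⟨y', hy', hy'X, hm⟩ := R.exists_cent_move hXH hzH hg (hcX z hzX) hXg
  refine ⟨(z * y') * u * (z * y')⁻¹, ?_, ?_, ?_, ?_⟩
  · have : z * y' * u * (z * y')⁻¹ = (z * y' * g⁻¹) * s * (z * y' * g⁻¹)⁻¹ := by rw [e]; group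
    rw [this]; exact R.norm' hm hs.s_mem
  · intro h; apply hu1
    calc u = (z * y')⁻¹ * (z * y' * u * (z * y')⁻¹) * (z * y') := by group
      _ = 1 := by rw [h]; group
  · calc z * y' * u * (z * y')⁻¹ * (z * y' * u * (z * y')⁻¹) = z * y' * (u * u) * (z * y')⁻¹ := by group
      _ = 1 := by rw [hu2]; group
  · have hc := (centralizer X).mul_mem hzX hy'X
    exact (centralizer X).mul_mem ((centralizer X).mul_mem hc huX) ((centralizer X).inv_mem hc)

/-- Prop. 6 (c): such a subset is conjugate into `V` by an element of `K`. -/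
theorem exists_conj_V [Finite G] {X : Set G} (hX : X ⊆ Dg H t) {y : G} (hy : y ∈ Q) (hy1 : y ≠ 1)
    (hyX : y ∈ centralizer X) : ∃ k ∈ Kset H t, ∀ x ∈ X, k * x * k⁻¹ ∈ Vg H t := by
  obtain ⟨u, hu, h1, h2, huX⟩ := R.exists_invol_cent hX hy hy1 hyX
  obtain ⟨s, r, hs⟩ := R.exists_dist
  obtain ⟨k, hk, rfl⟩ := R.exists_K_conj hs hu h1 h2
  refine ⟨k, hk, fun x hx => R.mem_V_of_comm_s hs
    ((Dg H t).mul_mem ((Dg H t).mul_mem hk.1 (hX hx)) ((Dg H t).inv_mem hk.1)) ?_⟩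
  have := huX x hx
  calc s * (k * x * k⁻¹) = k * (k⁻¹ * s * k * x) * k⁻¹ := by group
    _ = _ := by rw [← this]; group

/-- §2 Prop. 1 (a): non-identity elements of `K` act fixed-point-freely on `Q`. -/
theorem K_fpf [Finite G] {k : G} (hk : k ∈ Kset H t) (hk1 : k ≠ 1) {y : G} (hy : y ∈ Q)
    (h : k * y = y * k) : y = 1 := by
  by_contra hy1
  obtain ⟨a, ha, hV⟩ := R.exists_conj_V (X := {k}) (by rintro _ rfl; exact hk.1) hy hy1
    (by rintro _ rfl; exact h)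
  have h1 := (mem_Vg_iff.1 (hV k rfl)).2
  -- `a² k a⁻² = k⁻¹`
  have h2 : (a * a) * k * (a * a)⁻¹ = k⁻¹ := by
    have e : t * (a * k * a⁻¹) * t = a⁻¹ * k⁻¹ * a := by
      calc t * (a * k * a⁻¹) * t = (t * a * t) * (t * k * t) * (t * a⁻¹ * t) := by
            simp [mul_assoc, R.tt']
        _ = _ := by rw [ha.2, hk.2, (R.K_inv ha).2, inv_inv]
    rw [h1, R.tt''] at e
    calc a * a * k * (a * a)⁻¹ = a * (a * k * a⁻¹) * a⁻¹ := by group
      _ = _ := by rw [e]; group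
  set b := a * a with hb
  have hbD : b ∈ Dg H t := (Dg H t).mul_mem ha.1 ha.1
  have h3 : Commute (b * b) k := by
    have h4 : b * k⁻¹ * b⁻¹ = k := by
      have := congrArg (·⁻¹) h2
      simpa [mul_assoc] using this
    calc b * b * k = b * (b * k * b⁻¹) * b := by group
      _ = (b * k⁻¹ * b⁻¹) * (b * b) := by rw [h2]; group
      _ = _ := by rw [h4]
  obtain ⟨j, hj⟩ := R.odd
  have h5 : b = (b * b) ^ (j + 1) := by
    rw [← pow_two, ← pow_mul, show 2 * (j + 1) = (2 * j + 1) + 1 by ring, pow_succ, ← hj,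
      R.D_pow hbD, one_mul]
  have h6 : Commute b k := by rw [h5]; exact h3.pow_left _
  have h7 : k = k⁻¹ := by rw [← h2, h6.eq]; group
  exact hk1 (R.D_eq_of_sq hk.1 (Dg H t).one_mem (by nth_rewrite 1 [h7]; simp))

theorem exists_K_ne_one [Finite G] (h2 : Rank2 Q) : ∃ k ∈ Kset H t, k ≠ 1 := by
  obtain ⟨s, r, hs⟩ := R.exists_dist
  obtain ⟨x, hx, y, hy, hx1, hy1, hxy, hxx, hyy⟩ := h2
  obtain ⟨a, ha, rfl⟩ := R.exists_K_conj hs hx hx1 hxx
  obtain ⟨b, hb, rfl⟩ := R.exists_K_conj hs hy hy1 hyy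
  by_cases h : a = 1
  · exact ⟨b, hb, fun h' => hxy (by rw [h, h'])⟩
  · exact ⟨a, ha, h⟩

/-- §2 Prop. 1 (b) -/
theorem Q_nilpotent [Finite G] (h2 : Rank2 Q) : Group.IsNilpotent Q := by
  obtain ⟨k, hk, hk1⟩ := R.exists_K_ne_one h2
  refine CfsgLib.FT.isNilpotent_of_semiregular (R := zpowers k)
    ((zpowers_le.2 (Dg_le hk.1)).trans R.le_normalizer) (by simpa using hk1) fun x hx hx1 => ?_
  obtain ⟨j, rfl⟩ := (mem_powers_iff_mem_zpowers.2 hx)
  exact CfsgLib.FT.semiregular_of_fpf fun g hg h => R.K_fpf (R.K_pow hk j) hx1 hg h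

/-- §2 Prop. 1 (c): the involutions of `Q` are central in `Q`. -/
theorem invol_central [Finite G] (h2 : Rank2 Q) {u x : G} (hu : u ∈ Q) (huu : u * u = 1)
    (hx : x ∈ Q) : u * x = x * u := by
  by_cases h1 : u = 1
  · simp [h1]
  haveI := R.Q_nilpotent h2
  haveI : Fact (Nat.Prime 2) := ⟨Nat.prime_two⟩
  -- a central involution
  obtain ⟨z, hz, hz1, hzz, hzc⟩ : ∃ z ∈ Q, z ≠ 1 ∧ z * z = 1 ∧ ∀ y ∈ Q, z * y = y * z := by
    let S : Sylow 2 Q := default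
    haveI : (S : Subgroup Q).Normal := inferInstance
    have hS : (S : Subgroup Q) ≠ ⊥ := S.ne_bot_of_dvd_card (even_iff_two_dvd.1 R.even)
    have hne := CfsgLib.inf_center_ne_bot_of_isNilpotent hS
    have hev : Even (Nat.card ↥((S : Subgroup Q) ⊓ center Q)) := by
      obtain ⟨n, hn⟩ := (S.isPGroup'.to_le (inf_le_left (b := center Q))).exists_card_eq
      rw [hn]
      refine (Nat.even_pow.2 ⟨even_two, ?_⟩)
      rintro rfl
      exact hne (Subgroup.eq_bot_of_card_eq _ (by simpa using hn))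
    obtain ⟨z, hz, hz1, hzz⟩ := exists_invol_of_even hev
    refine ⟨z, z.2, fun h => hz1 (Subtype.ext h), congrArg Subtype.val hzz, fun y hy => ?_⟩
    exact congrArg Subtype.val (mem_center_iff.1 hz.2 ⟨y, hy⟩).symm
  obtain ⟨s, r, hs⟩ := R.exists_dist
  obtain ⟨a, ha, rfl⟩ := R.exists_K_conj hs hu h1 huu
  obtain ⟨b, hb, rfl⟩ := R.exists_K_conj hs hz hz1 hzz
  have hab : b⁻¹ * a ∈ H := H.mul_mem (H.inv_mem (Dg_le hb.1)) (Dg_le ha.1)
  have := hzc _ (R.norm' hab hx)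
  calc a⁻¹ * s * a * x = (b⁻¹ * a)⁻¹ * (b⁻¹ * s * b * (b⁻¹ * a * x * (b⁻¹ * a)⁻¹)) * (b⁻¹ * a) := by
        group
    _ = _ := by rw [this]; group

theorem mem_Q0 [Finite G] (h2 : Rank2 Q) {x : G} : x ∈ Q0g Q ↔ x ∈ Q ∧ x * x = 1 := by
  refine ⟨fun hx => ?_, fun h => mem_Q0g_of h.1 h.2⟩
  induction hx using closure_induction with
  | mem x hx => exact hx
  | one => exact ⟨Q.one_mem, by simp⟩
  | mul x y _ _ hx hy =>
    refine ⟨Q.mul_mem hx.1 hy.1, ?_⟩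
    calc x * y * (x * y) = x * (y * x) * y := by group
      _ = 1 := by rw [R.invol_central h2 hy.1 hy.2 hx.1]; simp [← mul_assoc, hx.2, hy.2]
  | inv x _ hx => exact ⟨Q.inv_mem hx.1, by rw [← mul_inv_rev, hx.2, inv_one]⟩

theorem Q0_central [Finite G] (h2 : Rank2 Q) {u x : G} (hu : u ∈ Q0g Q) (hx : x ∈ Q) :
    u * x = x * u :=
  R.invol_central h2 (Q0g_le hu) ((R.mem_Q0 h2).1 hu).2 hx

theorem Q0_norm [Finite G] (h2 : Rank2 Q) {h u : G} (hh : h ∈ H) (hu : u ∈ Q0g Q) :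
    h⁻¹ * u * h ∈ Q0g Q := by
  rw [R.mem_Q0 h2] at hu ⊢
  refine ⟨R.norm h hh u hu.1, ?_⟩
  calc h⁻¹ * u * h * (h⁻¹ * u * h) = h⁻¹ * (u * u) * h := by group
    _ = 1 := by rw [hu.2]; group

/-- an involution of `H` and an involution outside `H` have a product of odd order -/
theorem odd_mul [Finite G] {u v : G} (hu : u ∈ H) (hu1 : u ≠ 1) (huu : u * u = 1) (hv : v ∉ H)
    (hvv : v * v = 1) : Odd (orderOf (u * v)) := by
  by_contra h
  obtain ⟨z, hz1, hzz, hzu, hzv⟩ := exists_comm_of_even huu hvv (Nat.not_odd_iff_even.1 h)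
  have hz : z ∈ H := R.mem_H_of_comm (R.mem_Q_of_invol hu huu) hu1 hzu.symm
  exact hv (R.mem_H_of_comm (R.mem_Q_of_invol hz hzz) hz1 hzv)

theorem odd_or_commute [Finite G] (h2 : Rank2 Q) {u v : G} (huu : u * u = 1) (hvv : v * v = 1) :
    u * v = v * u ∨ Odd (orderOf (u * v)) := by
  by_cases hu1 : u = 1
  · left; simp [hu1]
  obtain ⟨s, r, hs⟩ := R.exists_dist
  obtain ⟨g, rfl⟩ := R.invol_conj_s hs hu1 huu
  have hv' : g * v * g⁻¹ * (g * v * g⁻¹) = 1 := by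
    calc g * v * g⁻¹ * (g * v * g⁻¹) = g * (v * v) * g⁻¹ := by group
      _ = 1 := by rw [hvv]; group
  by_cases hv : g * v * g⁻¹ ∈ H
  · left
    have := R.invol_central h2 hs.s_mem hs.ss (R.mem_Q_of_invol hv hv')
    calc g⁻¹ * s * g * v = g⁻¹ * (s * (g * v * g⁻¹)) * g := by group
      _ = _ := by rw [this]; group
  · right
    have := R.odd_mul (R.le hs.s_mem) hs.s_ne hs.ss hv hv'
    have e : g⁻¹ * s * g * v = g⁻¹ * (s * (g * v * g⁻¹)) * g⁻¹⁻¹ := by group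
    rw [e, ← MulAut.conj_apply, MulEquiv.orderOf_eq]; exact this

/-- §3 Lemma 3 (first part) -/
theorem strongly_real_conj [Finite G] (h2 : Rank2 Q) {u v : G} (huu : u * u = 1) (hvv : v * v = 1)
    (h : u * v ≠ v * u) : ∃ g : G, ∃ u' ∈ Q, u' ≠ 1 ∧ u' * u' = 1 ∧ g⁻¹ * u * g = u' ∧
      g⁻¹ * v * g = t := by
  have hu1 : u ≠ 1 := by rintro rfl; simp at h
  obtain ⟨s, r, hs⟩ := R.exists_dist
  obtain ⟨g, rfl⟩ := R.invol_conj_s hs hu1 huu
  have hv' : g * v * g⁻¹ * (g * v * g⁻¹) = 1 := by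
    calc g * v * g⁻¹ * (g * v * g⁻¹) = g * (v * v) * g⁻¹ := by group
      _ = 1 := by rw [hvv]; group
  have hv : g * v * g⁻¹ ∉ H := by
    intro hv; apply h
    have := R.invol_central h2 hs.s_mem hs.ss (R.mem_Q_of_invol hv hv')
    calc g⁻¹ * s * g * v = g⁻¹ * (s * (g * v * g⁻¹)) * g := by group
      _ = _ := by rw [this]; group
  obtain ⟨a, ha, y, hy, e⟩ := R.invol_notMem hv hv'
  have hay : a * y ∈ H := H.mul_mem (Dg_le ha.1) (R.le hy)
  refine ⟨g⁻¹ * (a * y)⁻¹, (a * y) * s * (a * y)⁻¹, R.norm' hay hs.s_mem, ?_, ?_, by group, ?_⟩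
  · intro h; apply hs.s_ne
    calc s = (a * y)⁻¹ * ((a * y) * s * (a * y)⁻¹) * (a * y) := by group
      _ = 1 := by rw [h]; group
  · calc a * y * s * (a * y)⁻¹ * (a * y * s * (a * y)⁻¹) = a * y * (s * s) * (a * y)⁻¹ := by group
      _ = 1 := by rw [hs.ss]; group
  · calc (g⁻¹ * (a * y)⁻¹)⁻¹ * v * (g⁻¹ * (a * y)⁻¹) = (a * y) * (g * v * g⁻¹) * (a * y)⁻¹ := by group
      _ = _ := by rw [e]; group

/-- §3 Lemma 3 (second part): if an involution `u` inverts `x` and `x² ≠ 1`, then no involution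
centralizes `x`. -/
theorem eq_one_of_comm_strongly_real [Finite G] (h2 : Rank2 Q) {u x z : G} (huu : u * u = 1)
    (hx : u * x * u = x⁻¹) (hx2 : x * x ≠ 1) (hz : z * z = 1) (hzx : z * x = x * z) : z = 1 := by
  have hvv : (u * x) * (u * x) = 1 := by
    calc u * x * (u * x) = (u * x * u) * x := by group
      _ = 1 := by rw [hx]; group
  have hnc : ¬ u * x = x * u := by
    intro h; apply hx2
    rw [h, mul_assoc, huu, mul_one] at hx
    nth_rewrite 1 [hx]; simp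
  have hzu : z * u = u * z := by
    rcases R.odd_or_commute h2 hz huu with h | h
    · exact h
    · exfalso
      obtain ⟨j, hj⟩ := exists_conj_of_odd hz huu h (pow_orderOf_eq_one _)
      -- `(z u)^j` normalizes `C(x)`
      have key : ∀ j : ℕ, ∀ w : G, w * x = x * w →
          (((z * u) ^ j)⁻¹ * w * (z * u) ^ j) * x = x * (((z * u) ^ j)⁻¹ * w * (z * u) ^ j) := by
        intro j
        induction j with
        | zero => intro w hw; simpa using hw
        | succ j ih =>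
          intro w hw
          have h1 : ((z * u)⁻¹ * w * (z * u)) * x = x * ((z * u)⁻¹ * w * (z * u)) := by
            have hux : u * x = x⁻¹ * u := by rw [← hx, mul_assoc (u * x), huu, mul_one]
            have hux' : u * x⁻¹ = x * u := by
              calc u * x⁻¹ = x * (x⁻¹ * u) * x⁻¹ := by group
                _ = x * u := by rw [← hux]; group
            have hzx' : z * x⁻¹ = x⁻¹ * z := (show Commute z x from hzx).inv_right
            have hwx' : w * x⁻¹ = x⁻¹ * w := (show Commute w x from hw).inv_right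
            rw [mul_inv_rev, inv_eq_of_mul_self hz, inv_eq_of_mul_self huu]
            calc u * z * w * (z * u) * x = u * z * w * z * (u * x) := by group
              _ = u * z * w * (z * x⁻¹) * u := by rw [hux]; group
              _ = u * z * (w * x⁻¹) * z * u := by rw [hzx']; group
              _ = u * (z * x⁻¹) * w * z * u := by rw [hwx']; group
              _ = (u * x⁻¹) * z * w * z * u := by rw [hzx']; group
              _ = _ := by rw [hux']; group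
          have := ih _ h1
          rw [pow_succ']
          simpa [mul_assoc] using this
      have := key j z hzx
      rw [hj] at this
      exact hnc this
  obtain ⟨g, u', hu', hu'1, hu'u, e1, e2⟩ := R.strongly_real_conj h2 huu hvv (by
    intro h; apply hnc
    calc u * x = u * (u * (u * x)) := by rw [← mul_assoc u u, huu, one_mul]
      _ = x * u := by rw [h, ← mul_assoc, ← mul_assoc, huu, one_mul])
  have hz' : g⁻¹ * z * g ∈ Dg H t := by
    rw [R.mem_D]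
    have h1 : g⁻¹ * z * g ∈ H := R.mem_H_of_comm hu' hu'1 (by
      rw [← e1]
      calc g⁻¹ * u * g * (g⁻¹ * z * g) = g⁻¹ * (u * z) * g := by group
        _ = _ := by rw [← hzu]; group)
    refine ⟨h1, ?_⟩
    have h3 : t * (g⁻¹ * z * g) = (g⁻¹ * z * g) * t := by
      rw [← e2]
      calc g⁻¹ * (u * x) * g * (g⁻¹ * z * g) = g⁻¹ * u * (x * z) * g := by group
        _ = g⁻¹ * (u * z) * x * g := by rw [← hzx]; group
        _ = _ := by rw [← hzu]; group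
    rw [h3, R.tt'']; exact h1
  have := eq_one_of_odd_card R.odd hz' (by
    calc g⁻¹ * z * g * (g⁻¹ * z * g) = g⁻¹ * (z * z) * g := by group
      _ = 1 := by rw [hz]; group)
  calc z = g * (g⁻¹ * z * g) * g⁻¹ := by group
    _ = 1 := by rw [this]; group

end RO

end CfsgLib.Suz
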