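import Mathlib
import Cfsg.Agent.Lib.Suz.Basic

/-! Project D: orders, sub-configurations, quotients, the kernel of the action, bridge from
`Cfsg.IsRankOneSetup`. -/

set_option autoImplicit false

namespace CfsgLib.Suz
open Subgroup

variable {G : Type*} [Group G]

theorem mem_Dg_iff {H : Subgroup G} {t d : G} : d ∈ Dg H t ↔ d ∈ H ∧ t * d * t⁻¹ ∈ H := by
  simp [Dg]

theorem Dg_subgroupOf (H L : Subgroup G) (t : L) :
    Dg (H.subgroupOf L) t = (Dg H (t : G)).subgroupOf L := by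
  ext x; simp [mem_Dg_iff, mem_subgroupOf]

theorem mem_Kset_subgroupOf {H L : Subgroup G} {t k : L} :
    k ∈ Kset (H.subgroupOf L) t ↔ (k : G) ∈ Kset H (t : G) := by
  simp [Kset, Dg_subgroupOf, mem_subgroupOf, Subtype.ext_iff]

theorem Vg_subgroupOf (H L : Subgroup G) (t : L) :
    Vg (H.subgroupOf L) t = (Vg H (t : G)).subgroupOf L := by
  ext x; simp [mem_Vg_iff, Dg_subgroupOf, mem_subgroupOf, Subtype.ext_iff]

theorem card_subgroupOf_eq (A L : Subgroup G) : Nat.card (A.subgroupOf L) = Nat.card ↥(A ⊓ L) := by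
  rw [← inf_subgroupOf_right]
  exact Nat.card_congr (subgroupOfEquivOfLe inf_le_right).toEquiv

theorem Dist.subgroupOf {Q L : Subgroup G} {t s r : L} (h : Dist Q (t : G) (s : G) (r : G)) :
    Dist (Q.subgroupOf L) t s r :=
  ⟨h.s_mem, fun e => h.s_ne (congrArg Subtype.val e), Subtype.ext h.ss, h.r_mem, Subtype.ext h.eq⟩

theorem Dist.of_subgroupOf {Q L : Subgroup G} {t s r : L} (h : Dist (Q.subgroupOf L) t s r) :
    Dist Q (t : G) (s : G) (r : G) :=
  ⟨h.s_mem, fun e => h.s_ne (Subtype.ext e), congrArg Subtype.val h.ss, h.r_mem,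
    congrArg Subtype.val h.eq⟩

theorem rank2_subgroupOf {Q L : Subgroup G} : Rank2 (Q.subgroupOf L) ↔ Rank2 (Q ⊓ L) := by
  constructor
  · rintro ⟨x, hx, y, hy, h1, h2, h3, h4, h5⟩
    exact ⟨x, ⟨hx, x.2⟩, y, ⟨hy, y.2⟩, fun e => h1 (Subtype.ext e), fun e => h2 (Subtype.ext e),
      fun e => h3 (Subtype.ext e), congrArg Subtype.val h4, congrArg Subtype.val h5⟩
  · rintro ⟨x, hx, y, hy, h1, h2, h3, h4, h5⟩
    exact ⟨⟨x, hx.2⟩, hx.1, ⟨y, hy.2⟩, hy.1, fun e => h1 (congrArg Subtype.val e),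
      fun e => h2 (congrArg Subtype.val e), fun e => h3 (congrArg Subtype.val e), Subtype.ext h4,
      Subtype.ext h5⟩

namespace RO
variable {H Q : Subgroup G} {t : G} (R : RO H Q t)
include R

theorem card_H : Nat.card H = Nat.card Q * Nat.card (Dg H t) := by
  rw [← Nat.card_prod]
  symm
  refine Nat.card_congr (Equiv.ofBijective (fun p : Q × Dg H t =>
    (⟨p.1 * p.2, H.mul_mem (R.le p.1.2) (Dg_le p.2.2)⟩ : H)) ⟨?_, ?_⟩)
  · rintro ⟨x, d⟩ ⟨x', d'⟩ e
    obtain ⟨h1, h2⟩ := R.dec_unique x.2 x'.2 d.2 d'.2 (congrArg Subtype.val e)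
    exact Prod.ext (Subtype.ext h1) (Subtype.ext h2)
  · rintro ⟨h, hh⟩
    obtain ⟨x, hx, d, hd, rfl⟩ := R.dec h hh
    exact ⟨(⟨x, hx⟩, ⟨d, hd⟩), rfl⟩

/-- the points: `none ↦ H`, `some y ↦ y t H` -/
noncomputable def points : Option Q ≃ G ⧸ H :=
  Equiv.ofBijective (fun o => o.elim ((1 : G) : G ⧸ H) fun y => (((y : G) * t : G) : G ⧸ H)) (by
    constructor
    · rintro (_ | x) (_ | y) e
      · rfl
      · exfalso
        have := QuotientGroup.eq.1 e
        exact R.notMem_canon (R.le y.2) H.one_mem (by simpa using this)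
      · exfalso
        have := QuotientGroup.eq.1 e.symm
        exact R.notMem_canon (R.le x.2) H.one_mem (by simpa using this)
      · have h1 := QuotientGroup.eq.1 e
        have h2 := R.inf ((x : G)⁻¹ * y) (Q.mul_mem (Q.inv_mem x.2) y.2)
          (by simpa [mul_assoc, R.t_inv] using h1)
        exact congrArg some (Subtype.ext (inv_mul_eq_one.1 h2))
    · intro c
      induction c using QuotientGroup.induction_on with
      | H g =>
        by_cases hg : g ∈ H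
        · exact ⟨none, QuotientGroup.eq.2 (by simpa using hg)⟩
        · obtain ⟨h, hh, y, hy, e⟩ := R.canon g⁻¹ (fun h => hg (by simpa using h))
          refine ⟨some ⟨y⁻¹, Q.inv_mem hy⟩, QuotientGroup.eq.2 ?_⟩
          have : g = y⁻¹ * t * h⁻¹ := by rw [← inv_inv g, e]; simp [mul_assoc, R.t_inv]
          rw [this]; simpa [mul_assoc] using hh)

theorem index_H [Finite G] : H.index = Nat.card Q + 1 := by
  rw [index_eq_card, ← Nat.card_congr R.points, Finite.card_option]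

theorem card_G [Finite G] : Nat.card G = Nat.card Q * Nat.card (Dg H t) * (Nat.card Q + 1) := by
  rw [← R.card_H, ← R.index_H, card_mul_index]

theorem index_Q [Finite G] : Q.index = Nat.card (Dg H t) * (Nat.card Q + 1) := by
  have h := card_mul_index Q
  rw [R.card_G, mul_assoc] at h
  exact Nat.eq_of_mul_eq_mul_left Nat.card_pos h

theorem odd_index_Q [Finite G] : Odd Q.index := by
  rw [R.index_Q]; exact R.odd.mul R.even.add_one

theorem H_ne_top : H ≠ ⊤ := fun h => R.t_notMem (h ▸ mem_top t)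

theorem ncard_K [Finite G] (h2 : Rank2 Q) : (Kset H t).ncard + 1 = Nat.card (Q0g Q) := by
  obtain ⟨s, r, hs⟩ := R.exists_dist
  have e : ((Q0g Q : Subgroup G) : Set G) = insert 1 ((fun k => k⁻¹ * s * k) '' Kset H t) := by
    ext x
    simp only [SetLike.mem_coe, Set.mem_insert_iff, Set.mem_image]
    constructor
    · intro hx
      by_cases h1 : x = 1
      · exact Or.inl h1
      · rw [R.mem_Q0 h2] at hx
        obtain ⟨k, hk, e⟩ := R.exists_K_conj hs hx.1 h1 hx.2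
        exact Or.inr ⟨k, hk, e.symm⟩
    · rintro (rfl | ⟨k, hk, rfl⟩)
      · exact one_mem _
      · exact R.Q0_norm h2 (Dg_le hk.1) (mem_Q0g_of hs.s_mem hs.ss)
  rw [← SetLike.coe_sort_coe, Nat.card_coe_set_eq, e, Set.ncard_insert_of_notMem,
    Set.InjOn.ncard_image fun a ha b hb h => R.K_inj hs ha hb h]
  rintro ⟨k, -, h⟩
  apply hs.s_ne
  calc s = k * (k⁻¹ * s * k) * k⁻¹ := by group
    _ = 1 := by simp only [h]; group

theorem Q0_isPGroup [Finite G] (h2 : Rank2 Q) : IsPGroup 2 (Q0g Q) := fun x =>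
  ⟨1, Subtype.ext (by simpa [pow_two] using ((R.mem_Q0 h2).1 x.2).2)⟩

theorem exists_card_Q0 [Finite G] (h2 : Rank2 Q) : ∃ n, 2 ≤ n ∧ Nat.card (Q0g Q) = 2 ^ n := by
  haveI : Fact (Nat.Prime 2) := ⟨Nat.prime_two⟩
  obtain ⟨n, hn⟩ := (R.Q0_isPGroup h2).exists_card_eq
  refine ⟨n, ?_, hn⟩
  obtain ⟨x, hx, y, hy, h1, h2', h3, h4, h5⟩ := h2
  have : 3 ≤ Nat.card (Q0g Q) := by
    rw [← SetLike.coe_sort_coe, Nat.card_coe_set_eq]
    have := Set.ncard_le_ncard (s := ({1, x, y} : Set G)) (t := (Q0g Q : Set G)) (by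
      rintro z (rfl | rfl | rfl)
      exacts [one_mem _, mem_Q0g_of hx h4, mem_Q0g_of hy h5])
    rwa [Set.ncard_eq_three.2 ⟨1, x, y, h1.symm, h2'.symm, h3, rfl⟩] at this
  rw [hn] at this
  by_contra hlt
  interval_cases n <;> omega

/-- sub-configurations -/
theorem sub [Finite G] {L : Subgroup G} (ht : t ∈ L)
    (hdec : ∀ x ∈ Q, ∀ d ∈ Dg H t, x * d ∈ L → x ∈ L)
    (hcanon : ∀ h ∈ H, ∀ y ∈ Q, h * t * y ∈ L → y ∈ L) (hev : Even (Nat.card ↥(Q ⊓ L))) :
    RO (H.subgroupOf L) (Q.subgroupOf L) ⟨t, ht⟩ where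
  tt := Subtype.ext R.tt
  t_notMem := R.t_notMem
  le := fun _ hx => R.le hx
  norm := fun h hh x hx => R.norm h hh x hx
  inf := fun x hx h => Subtype.ext (R.inf x hx h)
  dec := fun h hh => by
    obtain ⟨x, hx, d, hd, e⟩ := R.dec h hh
    have hxL : x ∈ L := hdec x hx d hd (e ▸ h.2)
    have hdL : d ∈ L := by simpa [e] using L.mul_mem (L.inv_mem hxL) h.2
    exact ⟨⟨x, hxL⟩, hx, ⟨d, hdL⟩, by rw [Dg_subgroupOf]; exact hd, Subtype.ext e⟩
  canon := fun g hg => by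
    obtain ⟨h, hh, y, hy, e⟩ := R.canon g hg
    have hyL : y ∈ L := hcanon h hh y hy (e ▸ g.2)
    have hhL : h ∈ L := by
      simpa [e] using L.mul_mem (L.mul_mem g.2 (L.inv_mem hyL)) (L.inv_mem ht)
    exact ⟨⟨h, hhL⟩, hh, ⟨y, hyL⟩, hy, Subtype.ext e⟩
  even := by rwa [card_subgroupOf_eq]
  odd := by
    rw [Dg_subgroupOf, card_subgroupOf_eq]
    exact R.odd.of_dvd_nat (card_dvd_of_le inf_le_left)

theorem sub_of_le [Finite G] {L : Subgroup G} (ht : t ∈ L) (hQ : Q ≤ L) :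
    RO (H.subgroupOf L) (Q.subgroupOf L) ⟨t, ht⟩ :=
  R.sub ht (fun _ hx _ _ _ => hQ hx) (fun _ _ _ hy _ => hQ hy) (by rw [inf_of_le_left hQ]; exact R.even)

theorem cent_dec {X : Set G} (hX : X ⊆ Dg H t) {x d : G} (hx : x ∈ Q) (hd : d ∈ Dg H t)
    (h : x * d ∈ centralizer X) : x ∈ centralizer X ∧ d ∈ centralizer X := by
  have key : ∀ v ∈ X, v⁻¹ * x * v = x ∧ v⁻¹ * d * v = d := fun v hv =>
    R.dec_unique (R.norm v (Dg_le (hX hv)) x hx) hx
      ((Dg H t).mul_mem ((Dg H t).mul_mem ((Dg H t).inv_mem (hX hv)) hd) (hX hv)) hd (by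
        calc v⁻¹ * x * v * (v⁻¹ * d * v) = v⁻¹ * (x * d * v) := by group
          _ = _ := by rw [← h v hv]; group)
  refine ⟨fun v hv => ?_, fun v hv => ?_⟩
  · calc v * x = v * (v⁻¹ * x * v) := by rw [(key v hv).1]
      _ = _ := by group
  · calc v * d = v * (v⁻¹ * d * v) := by rw [(key v hv).2]
      _ = _ := by group

theorem cent_canon {X : Set G} (hX : X ⊆ Vg H t) {h y : G} (hh : h ∈ H) (hy : y ∈ Q)
    (hm : h * t * y ∈ centralizer X) : h ∈ centralizer X ∧ y ∈ centralizer X := by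
  have key : ∀ v ∈ X, v⁻¹ * h * v = h ∧ v⁻¹ * y * v = y := fun v hv => by
    have hvH : v ∈ H := Dg_le (Vg_le_Dg (hX hv))
    have hvt := (mem_Vg_iff.1 (hX hv)).2
    exact R.canon_unique (H.mul_mem (H.mul_mem (H.inv_mem hvH) hh) hvH) hh (R.norm v hvH y hy) hy (by
      calc v⁻¹ * h * v * t * (v⁻¹ * y * v) = v⁻¹ * h * (v * t) * v⁻¹ * y * v := by group
        _ = v⁻¹ * (h * t * y * v) := by rw [← hvt]; group
        _ = _ := by rw [← hm v hv]; group)
  refine ⟨fun v hv => ?_, fun v hv => ?_⟩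
  · calc v * h = v * (v⁻¹ * h * v) := by rw [(key v hv).1]
      _ = _ := by group
  · calc v * y = v * (v⁻¹ * y * v) := by rw [(key v hv).2]
      _ = _ := by group

theorem t_mem_cent {X : Set G} (hX : X ⊆ Vg H t) : t ∈ centralizer X := fun _ hv =>
  (mem_Vg_iff.1 (hX hv)).2.symm

theorem s_mem_cent {s r : G} (hs : Dist Q t s r) {X : Set G} (hX : X ⊆ Vg H t) :
    s ∈ centralizer X := fun _ hv => (R.V_comm_s hs (hX hv)).symm

theorem r_mem_cent {s r : G} (hs : Dist Q t s r) {X : Set G} (hX : X ⊆ Vg H t) :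
    r ∈ centralizer X := fun _ hv => (R.V_comm_r hs (hX hv)).symm

/-- §3 Prop. 1 (a): the configuration in `C_G(X)` for `X ⊆ V`. -/
theorem sub_cent [Finite G] {X : Set G} (hX : X ⊆ Vg H t) :
    RO (H.subgroupOf (centralizer X)) (Q.subgroupOf (centralizer X)) ⟨t, R.t_mem_cent hX⟩ := by
  obtain ⟨s, r, hs⟩ := R.exists_dist
  exact R.sub _ (fun x hx d hd h => (R.cent_dec (fun _ hv => Vg_le_Dg (hX hv)) hx hd h).1)
    (fun h hh y hy hm => (R.cent_canon hX hh hy hm).2)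
    (even_card_of_invol (u := s) ⟨hs.s_mem, R.s_mem_cent hs hX⟩ hs.s_ne hs.ss)

/-- §3 Prop. 1 (b): `N_G(X) = C_G(X) N_V(X)` for `X ≤ V`. -/
theorem normalizer_eq [Finite G] {X : Subgroup G} (hX : X ≤ Vg H t) {g : G}
    (hg : g ∈ normalizer (X : Set G)) :
    ∃ c ∈ centralizer (X : Set G), ∃ v ∈ Vg H t, g = c * v := by
  have hXH : (X : Set G) ⊆ H := fun x hx => Dg_le (Vg_le_Dg (hX hx))
  have hn : ∀ g ∈ normalizer (X : Set G), ∀ x ∈ (X : Set G), g * x * g⁻¹ ∈ X :=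
    fun g hg x hx => (mem_normalizer_iff.1 hg x).1 hx
  have htc := R.t_mem_cent (X := (X : Set G)) hX
  have hcn := centralizer_le_normalizer (X : Set G)
  -- reduce to `g ∈ H`
  have step1 : ∃ c ∈ centralizer (X : Set G), c⁻¹ * g ∈ H := by
    by_cases hgH : g ∈ H
    · exact ⟨1, one_mem _, by simpa using hgH⟩
    · obtain ⟨y, hy, hyX, hm⟩ := R.exists_cent_move hXH (g₁ := g⁻¹) (fun h => hgH (by simpa using h))
        R.t_notMem (fun x hx => hXH (hn _ (inv_mem hg) x hx)) (fun x hx => hXH (hn _ (hcn htc) x hx))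
      refine ⟨y * t⁻¹, mul_mem hyX (inv_mem htc), ?_⟩
      simpa [mul_assoc] using H.inv_mem hm
  obtain ⟨c, hc, hh⟩ := step1
  have hn1 : c⁻¹ * g ∈ normalizer (X : Set G) := mul_mem (inv_mem (hcn hc)) hg
  obtain ⟨x, hx, d, hd, e⟩ := R.dec _ hh
  -- `x` centralizes `X`
  have hxc : x ∈ centralizer (X : Set G) := by
    intro v hv
    have h1 : (x * d) * (d⁻¹ * (x⁻¹ * v * x) * d) * (x * d)⁻¹ = v := by group
    have h2 : d⁻¹ * (x⁻¹ * v * x) * d ∈ X := by
      have := hn _ (inv_mem hn1) v hv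
      rw [e] at this
      simpa [mul_assoc] using this
    have h3 : x⁻¹ * v * x ∈ Dg H t := by
      have := (Dg H t).mul_mem ((Dg H t).mul_mem hd (Vg_le_Dg (hX h2))) ((Dg H t).inv_mem hd)
      simpa [mul_assoc] using this
    have hvD := Vg_le_Dg (hX hv)
    have h4 := R.dec_unique (x := x⁻¹ * (v * x * v⁻¹)) (x' := 1) (d := v) (d' := x⁻¹ * v * x)
      (Q.mul_mem (Q.inv_mem hx) (R.norm' (Dg_le hvD) hx)) Q.one_mem hvD h3 (by group)
    calc v * x = x * (x⁻¹ * v * x) := by group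
      _ = _ := by rw [← h4.2]
  have hn2 : d ∈ normalizer (X : Set G) := by
    have := mul_mem (inv_mem (hcn hxc)) hn1
    simpa [e] using this
  obtain ⟨v, hv, k, hk, rfl⟩ := R.D_eq_V_mul_K hd
  -- `k' = v k v⁻¹` centralizes `X`
  have hk' : v * k * v⁻¹ ∈ Kset H t := by simpa using R.K_conj_V hk (inv_mem hv)
  have hkc : v * k * v⁻¹ ∈ centralizer (X : Set G) := by
    intro w hw
    set k' := v * k * v⁻¹ with hk'def
    have h1 : k'⁻¹ * w * k' ∈ Vg H t := by
      have := hn _ (inv_mem hn2) w hw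
      have h2 := (Vg H t).mul_mem ((Vg H t).mul_mem hv (hX this)) ((Vg H t).inv_mem hv)
      have e2 : v * ((v * k)⁻¹ * w * (v * k)⁻¹⁻¹) * v⁻¹ = k'⁻¹ * w * k' := by rw [hk'def]; group
      rwa [e2] at h2
    have hwV := hX hw
    have h3 := (mem_Vg_iff.1 h1).2
    have h4 := (mem_Vg_iff.1 hwV).2
    have h5 : k' * w * k'⁻¹ = k'⁻¹ * w * k' := by
      calc k' * w * k'⁻¹ = (t * k'⁻¹ * t) * w * (t * k' * t) := by
            rw [hk'.2, (R.K_inv hk').2, inv_inv]
        _ = t * k'⁻¹ * (t * w) * t * k' * t := by group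
        _ = t * (k'⁻¹ * w * k') * t := by rw [h4]; simp [mul_assoc, R.tt']
        _ = _ := by rw [h3, R.tt'']
    have h6 : w⁻¹ * k' * w = k' := by
      apply R.D_eq_of_sq (R.K_conj_V hk' hwV).1 hk'.1
      calc w⁻¹ * k' * w * (w⁻¹ * k' * w) = w⁻¹ * k' * (k' * w * k'⁻¹) * k' := by group
        _ = _ := by rw [h5]; group
    calc w * k' = w * (w⁻¹ * k' * w) := by rw [h6]
      _ = _ := by group
  refine ⟨c * x * (v * k * v⁻¹), mul_mem (mul_mem hc hxc) hkc, v, hv, ?_⟩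
  calc g = c * (c⁻¹ * g) := by group
    _ = _ := by rw [e]; group

theorem normalCore_le_D : H.normalCore ≤ Dg H t := fun x hx =>
  mem_Dg_iff.2 ⟨normalCore_le H hx, hx t⟩

theorem mem_normalCore_iff [Finite G] {d : G} :
    d ∈ H.normalCore ↔ d ∈ Dg H t ∧ ∀ x ∈ Q, x * d = d * x := by
  constructor
  · intro hd
    refine ⟨R.normalCore_le_D hd, fun x hx => ?_⟩
    have h1 : x⁻¹ * (d * x * d⁻¹) = 1 := by
      apply R.eq_one_of_mem_D (Q.mul_mem (Q.inv_mem hx) (R.norm' (normalCore_le H hd) hx))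
      apply R.normalCore_le_D
      have := H.normalCore.mul_mem (Normal.conj_mem' inferInstance d hd x) (inv_mem hd)
      simpa [mul_assoc] using this
    calc x * d = x * (x⁻¹ * (d * x * d⁻¹)) * d := by rw [h1]; group
      _ = _ := by group
  · rintro ⟨hd, hc⟩ g
    obtain ⟨s, r, hs⟩ := R.exists_dist
    have hv := (mem_Vg_iff.1 (R.mem_V_of_comm_s hs hd (hc s hs.s_mem))).2
    by_cases hg : g ∈ H
    · exact H.mul_mem (H.mul_mem hg (Dg_le hd)) (H.inv_mem hg)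
    · obtain ⟨h, hh, y, hy, rfl⟩ := R.canon g hg
      have : h * t * y * d * (h * t * y)⁻¹ = h * d * h⁻¹ := by
        calc h * t * y * d * (h * t * y)⁻¹ = h * t * (y * d) * y⁻¹ * t⁻¹ * h⁻¹ := by group
          _ = h * (t * d) * t⁻¹ * h⁻¹ := by rw [hc y hy]; group
          _ = _ := by rw [hv]; group
      rw [this]; exact H.mul_mem (H.mul_mem hh (Dg_le hd)) (H.inv_mem hh)

section map
variable {G' : Type*} [Group G'] (φ : G →* G') (hφ : φ.ker ≤ H)
include hφ

omit R in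
theorem mem_map_H {g : G} : φ g ∈ H.map φ ↔ g ∈ H := by
  refine ⟨fun ⟨h, hh, e⟩ => ?_, fun h => mem_map_of_mem φ h⟩
  have : h⁻¹ * g ∈ φ.ker := by simp [MonoidHom.mem_ker, ← e]
  simpa using H.mul_mem hh (hφ this)

theorem ker_le_D : φ.ker ≤ Dg H t := (normal_le_normalCore.2 hφ).trans R.normalCore_le_D

theorem map_injOn_Q {x y : G} (hx : x ∈ Q) (hy : y ∈ Q) (e : φ x = φ y) : x = y := by
  have : x⁻¹ * y ∈ φ.ker := by simp [MonoidHom.mem_ker, e]
  exact inv_mul_eq_one.1 (R.eq_one_of_mem_D (Q.mul_mem (Q.inv_mem hx) hy) (R.ker_le_D φ hφ this))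

omit R in
theorem Dg_map : Dg (H.map φ) (φ t) = (Dg H t).map φ := by
  ext x
  rw [mem_Dg_iff]
  constructor
  · rintro ⟨⟨h, hh, rfl⟩, h2⟩
    refine ⟨h, mem_Dg_iff.2 ⟨hh, ?_⟩, rfl⟩
    rw [← mem_map_H φ hφ]; simpa using h2
  · rintro ⟨d, hd, rfl⟩
    rw [SetLike.mem_coe, mem_Dg_iff] at hd
    exact ⟨mem_map_of_mem φ hd.1, by simpa using mem_map_of_mem φ hd.2⟩

theorem card_map_Q : Nat.card (Q.map φ) = Nat.card Q := by
  symm
  refine Nat.card_congr (Equiv.ofBijective (fun x : Q => (⟨φ x, mem_map_of_mem φ x.2⟩ : Q.map φ))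
    ⟨fun x y e => Subtype.ext (R.map_injOn_Q φ hφ x.2 y.2 (congrArg Subtype.val e)), ?_⟩)
  rintro ⟨_, x, hx, rfl⟩
  exact ⟨⟨x, hx⟩, rfl⟩

/-- quotient configurations -/
theorem map [Finite G] (hs : Function.Surjective φ) : RO (H.map φ) (Q.map φ) (φ t) where
  tt := by rw [← map_mul, R.tt, map_one]
  t_notMem := fun h => R.t_notMem ((mem_map_H φ hφ).1 h)
  le := map_mono R.le
  norm := by
    rintro _ ⟨h, hh, rfl⟩ _ ⟨x, hx, rfl⟩
    exact ⟨_, R.norm h hh x hx, by simp⟩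
  inf := by
    rintro _ ⟨x, hx, rfl⟩ h
    have : t * x * t ∈ H := by rw [← mem_map_H φ hφ]; simpa using h
    rw [R.inf x hx this, map_one]
  dec := by
    rintro _ ⟨h, hh, rfl⟩
    obtain ⟨x, hx, d, hd, rfl⟩ := R.dec h hh
    exact ⟨φ x, mem_map_of_mem φ hx, φ d, by rw [Dg_map φ hφ]; exact mem_map_of_mem φ hd, by simp⟩
  canon := fun g hg => by
    obtain ⟨g, rfl⟩ := hs g
    obtain ⟨h, hh, y, hy, rfl⟩ := R.canon g fun h => hg (mem_map_of_mem φ h)
    exact ⟨φ h, mem_map_of_mem φ hh, φ y, mem_map_of_mem φ hy, by simp⟩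
  even := by rw [R.card_map_Q φ hφ]; exact R.even
  odd := by
    rw [Dg_map φ hφ]
    exact R.odd.of_dvd_nat (card_map_dvd _ _)

theorem dist_map {s r : G} (h : Dist Q t s r) : Dist (Q.map φ) (φ t) (φ s) (φ r) :=
  ⟨mem_map_of_mem φ h.s_mem, fun e => h.s_ne (R.map_injOn_Q φ hφ h.s_mem Q.one_mem (by simpa using e)),
    by rw [← map_mul, h.ss, map_one], mem_map_of_mem φ h.r_mem, by
      simpa using congrArg φ h.eq⟩

theorem rank2_map : Rank2 (Q.map φ) ↔ Rank2 Q := by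
  constructor
  · rintro ⟨_, ⟨x, hx, rfl⟩, _, ⟨y, hy, rfl⟩, h1, h2, h3, h4, h5⟩
    refine ⟨x, hx, y, hy, fun e => h1 (by simp [e]), fun e => h2 (by simp [e]),
      fun e => h3 (by rw [e]), ?_, ?_⟩
    · exact R.map_injOn_Q φ hφ (Q.mul_mem hx hx) Q.one_mem (by simpa using h4)
    · exact R.map_injOn_Q φ hφ (Q.mul_mem hy hy) Q.one_mem (by simpa using h5)
  · rintro ⟨x, hx, y, hy, h1, h2, h3, h4, h5⟩
    refine ⟨φ x, mem_map_of_mem φ hx, φ y, mem_map_of_mem φ hy, ?_, ?_, ?_, ?_, ?_⟩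
    · exact fun e => h1 (R.map_injOn_Q φ hφ hx Q.one_mem (by simpa using e))
    · exact fun e => h2 (R.map_injOn_Q φ hφ hy Q.one_mem (by simpa using e))
    · exact fun e => h3 (R.map_injOn_Q φ hφ hx hy e)
    · rw [← map_mul, h4, map_one]
    · rw [← map_mul, h5, map_one]

end map

/-- 2-rank at least 2 in `G` gives two involutions in `Q`. -/
theorem rank2_of_commuting [Finite G]
    (h : ∃ x y : G, x ≠ 1 ∧ y ≠ 1 ∧ x ≠ y ∧ x * x = 1 ∧ y * y = 1 ∧ x * y = y * x) : Rank2 Q := by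
  obtain ⟨x, y, h1, h2, h3, h4, h5, h6⟩ := h
  obtain ⟨s, r, hs⟩ := R.exists_dist
  obtain ⟨g, rfl⟩ := R.invol_conj_s hs h1 h4
  have hy : g * y * g⁻¹ * (g * y * g⁻¹) = 1 := by
    calc g * y * g⁻¹ * (g * y * g⁻¹) = g * (y * y) * g⁻¹ := by group
      _ = 1 := by rw [h5]; group
  refine ⟨s, hs.s_mem, g * y * g⁻¹, R.mem_Q_of_invol (R.mem_H_of_comm hs.s_mem hs.s_ne ?_) hy,
    hs.s_ne, ?_, ?_, hs.ss, hy⟩
  · calc s * (g * y * g⁻¹) = g * (g⁻¹ * s * g * y) * g⁻¹ := by group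
      _ = _ := by rw [h6]; group
  · intro e; apply h2
    calc y = g⁻¹ * (g * y * g⁻¹) * g := by group
      _ = 1 := by rw [e]; group
  · intro e; apply h3; rw [e]; group

/-- a normal subgroup of even order contains `t`, `K` and `Q` (2-rank at least 2) -/
theorem le_normal_of_even [Finite G] (h2 : Rank2 Q) {N : Subgroup G} [hN : N.Normal]
    (hev : Even (Nat.card N)) : t ∈ N ∧ (∀ k ∈ Kset H t, k ∈ N) ∧ Q ≤ N := by
  obtain ⟨u, hu, h1, huu⟩ := exists_invol_of_even hev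
  obtain ⟨g, rfl⟩ := R.invol_conj_t h1 huu
  have ht : t ∈ N := by simpa [mul_assoc] using hN.conj_mem _ hu g
  have hK : ∀ k ∈ Kset H t, k ∈ N := by
    intro k hk
    obtain ⟨a, ha, rfl⟩ := R.K_sqrt hk
    have := N.mul_mem ht (hN.conj_mem' _ ht a)
    rwa [← mul_assoc, ← mul_assoc, (R.K_inv ha).2, inv_inv] at this
  refine ⟨ht, hK, ?_⟩
  obtain ⟨k, hk, hk1⟩ := R.exists_K_ne_one h2
  -- `x ↦ x⁻¹ x^k` is a bijection of `Q`
  have hinj : Function.Injective fun x : Q =>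
      (⟨(x : G)⁻¹ * (k⁻¹ * x * k), Q.mul_mem (Q.inv_mem x.2) (R.norm k (Dg_le hk.1) x x.2)⟩ : Q) := by
    intro x y e
    have e' : (x : G)⁻¹ * (k⁻¹ * x * k) = (y : G)⁻¹ * (k⁻¹ * y * k) := congrArg Subtype.val e
    have := R.K_fpf hk hk1 (Q.mul_mem y.2 (Q.inv_mem x.2)) (by
      calc k * (y * (x : G)⁻¹) = k * y * ((x : G)⁻¹ * (k⁻¹ * x * k)) * k⁻¹ * (x : G)⁻¹ * k := by group
        _ = _ := by rw [e']; group)
    exact Subtype.ext (mul_inv_eq_one.1 this).symm
  intro y hy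
  obtain ⟨x, hx⟩ := Finite.injective_iff_surjective.1 hinj ⟨y, hy⟩
  have e : (x : G)⁻¹ * (k⁻¹ * x * k) = y := congrArg Subtype.val hx
  rw [← e]
  have := N.mul_mem (hN.conj_mem' _ (N.inv_mem (hK k hk)) x) (hK k hk)
  simpa [mul_assoc] using this

/-- a normal subgroup of odd order lies in `H` (2-rank at least 2) -/
theorem normal_le_of_odd [Finite G] (h2 : Rank2 Q) {N : Subgroup G} [hN : N.Normal]
    (hodd : Odd (Nat.card N)) : N ≤ H := by
  intro g hg
  by_contra hgH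
  obtain ⟨x, hx, y, hy, h1, h2', h3, h4, h5⟩ := h2
  -- `x^g` is an involution outside `H` congruent to `x` modulo `N`; compare with `y`
  have hxg : g⁻¹ * x * g ∉ H := fun h => hgH (R.mem_H_of_conj hx h1 h)
  have hodd2 := R.odd_mul (R.le hy) h2' h5 hxg (by
    calc g⁻¹ * x * g * (g⁻¹ * x * g) = g⁻¹ * (x * x) * g := by group
      _ = 1 := by rw [h4]; group)
  have hc := R.invol_central ⟨x, hx, y, hy, h1, h2', h3, h4, h5⟩ hx h4 hy
  let φ := QuotientGroup.mk' N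
  have e : φ (y * (g⁻¹ * x * g)) = φ (y * x) := by
    have : φ g = 1 := (QuotientGroup.eq_one_iff g).2 hg
    simp [this]
  have h6 : φ (y * x) * φ (y * x) = 1 := by
    rw [← map_mul]
    have : y * x * (y * x) = 1 := by
      calc y * x * (y * x) = y * (x * y) * x := by group
        _ = 1 := by rw [hc]; simp [← mul_assoc, h4, h5]
    rw [this, map_one]
  have h7 : φ (y * x) ^ orderOf (y * (g⁻¹ * x * g)) = 1 := by
    rw [← e, ← map_pow, pow_orderOf_eq_one, map_one]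
  have h8 : φ (y * x) = 1 := eq_of_sq_eq_of_odd hodd2 h7 (one_pow _) (by rw [h6, one_mul])
  have h9 : y * x ∈ N := (QuotientGroup.eq_one_iff _).1 h8
  have h10 := eq_one_of_odd_card hodd h9 (by
    calc y * x * (y * x) = y * (x * y) * x := by group
      _ = 1 := by rw [hc]; simp [← mul_assoc, h4, h5])
  apply h3
  calc x = y * (y * x) := by rw [← mul_assoc, h5, one_mul]
    _ = y := by rw [h10, mul_one]

end RO

/-- bridge from the Prelude formulation -/
theorem RO.of_isRankOneSetup [Finite G] {Ω : Type*} [MulAction G Ω] {a : Ω} {t : G} {Q : Subgroup G}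
    (h : Cfsg.IsRankOneSetup G Ω a t Q) : RO (MulAction.stabilizer G a) Q t := by
  have hti : t⁻¹ = t := inv_eq_of_mul_self h.mul_self
  have hD : Dg (MulAction.stabilizer G a) t =
      MulAction.stabilizer G a ⊓ MulAction.stabilizer G (t • a) := by
    ext d
    simp only [mem_Dg_iff, mem_inf, MulAction.mem_stabilizer_iff, hti, mul_smul]
    refine and_congr_right fun _ => ⟨fun e => ?_, fun e => ?_⟩
    · have := congrArg (t • ·) e
      simpa only [← mul_smul t t, h.mul_self, one_smul] using this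
    · rw [e, ← mul_smul, h.mul_self, one_smul]
  have hn : MulAction.stabilizer G a ≤ normalizer (Q : Set G) := by
    intro g hg
    rw [mem_normalizer_iff]
    intro x
    refine ⟨h.conj_mem g hg x, fun hx => ?_⟩
    simpa [mul_assoc] using h.conj_mem g⁻¹ (inv_mem hg) _ hx
  have hdec : ∀ g ∈ MulAction.stabilizer G a, ∃ x ∈ Q, ∃ d ∈ Dg (MulAction.stabilizer G a) t,
      g = x * d := by
    intro g hg
    rw [← h.sup_eq, ← hD] at hg
    obtain ⟨x, hx, d, hd, e⟩ := (CfsgLib.mem_sup_iff_of_le_normalizer' (Dg_le.trans hn)).1 hg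
    exact ⟨x, hx, d, hd, e.symm⟩
  refine ⟨h.mul_self, h.not_mem, h.le, fun g hg x hx => ?_, fun x hx hm => ?_, hdec, fun g hg => ?_,
    h.even_card, hD ▸ h.odd_card⟩
  · simpa using h.conj_mem g⁻¹ (inv_mem hg) x hx
  · have : x ∈ Q ⊓ MulAction.stabilizer G (t • a) := by
      refine ⟨hx, ?_⟩
      have : x ∈ Dg (MulAction.stabilizer G a) t := mem_Dg_iff.2 ⟨h.le hx, by rwa [hti]⟩
      rw [hD] at this; exact this.2
    rw [h.inf_eq_bot] at this; exact this
  · have hta : t • a ≠ a := h.not_mem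
    have hga : g⁻¹ • a ≠ a := fun e => hg (by simpa using inv_mem (show g⁻¹ ∈ MulAction.stabilizer G a from e))
    obtain ⟨k, hk1, hk2⟩ := MulAction.is_two_pretransitive_iff.1 h.two_transitive hta.symm hga.symm
    obtain ⟨x, hx, d, hd, rfl⟩ := hdec k hk1
    have hd2 : d • t • a = t • a := by rw [hD] at hd; exact hd.2
    rw [mul_smul, hd2] at hk2
    refine ⟨g * x * t, ?_, x⁻¹, Q.inv_mem hx, ?_⟩
    · rw [MulAction.mem_stabilizer_iff, mul_smul, mul_smul, hk2, smul_inv_smul]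
    · rw [mul_assoc (g * x), h.mul_self]; group

end CfsgLib.Suz
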