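import Mathlib

/-! Automorphisms of finite fields. -/

set_option autoImplicit false
set_option linter.unusedSectionVars false

namespace CfsgLib.Suz

variable {F : Type*} [Field F] [Finite F]

theorem ringEquiv_eq_pow_of_fix (σ τ : F ≃+* F) (h : ∀ x, σ x = x → τ x = x) :
    ∃ j : ℕ, τ = σ ^ j := by
  have : Finite (F ≃+* F) := Finite.of_injective _ DFunLike.coe_injective
  set A : Subgroup (RingAut F) := Subgroup.zpowers σ with hA
  obtain ⟨a, ha⟩ := FixedPoints.toAlgAut_surjective A F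
    (AlgEquiv.ofRingEquiv (f := τ) fun x => h _ (x.2 ⟨σ, Subgroup.mem_zpowers σ⟩))
  obtain ⟨j, hj⟩ := (mem_powers_iff_mem_zpowers.2 a.2 : (a : RingAut F) ∈ Submonoid.powers σ)
  refine ⟨j, ?_⟩
  ext x
  have h1 := DFunLike.congr_fun ha x
  simp only at hj
  rw [hj]
  exact h1.symm

theorem finrank_eq_of_card {p n : ℕ} [Fact p.Prime] [Algebra (ZMod p) F] (hF : Nat.card F = p ^ n) :
    Module.finrank (ZMod p) F = n := by
  have h1 := Module.natCard_eq_pow_finrank (K := ZMod p) (V := F)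
  rw [hF, Nat.card_zmod] at h1
  exact (Nat.pow_right_injective (Fact.out : p.Prime).two_le h1).symm

theorem card_ringAut {p n : ℕ} [Fact p.Prime] [CharP F p] (hF : Nat.card F = p ^ n) :
    Nat.card (F ≃+* F) = n := by
  let _ : Algebra (ZMod p) F := ZMod.algebra F p
  rw [← finrank_eq_of_card hF, ← IsGalois.card_aut_eq_finrank]
  refine Nat.card_congr ⟨fun σ => AlgEquiv.ofRingEquiv (f := σ) fun x => ?_, fun σ => σ,
    fun _ => rfl, fun _ => rfl⟩
  exact DFunLike.congr_fun (RingHom.ext_zmod ((σ : F →+* F).comp (algebraMap (ZMod p) F))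
    (algebraMap (ZMod p) F)) x

theorem exists_frob_pow {p n : ℕ} [Fact p.Prime] [CharP F p] (hF : Nat.card F = p ^ n)
    (σ : F ≃+* F) : ∃ j < n, ∀ x, σ x = x ^ p ^ j := by
  let _ : Algebra (ZMod p) F := ZMod.algebra F p
  obtain ⟨⟨j, hj⟩, h⟩ := (FiniteField.bijective_frobeniusAlgEquivOfAlgebraic_pow (ZMod p) F).2
    (AlgEquiv.ofRingEquiv (f := σ) fun x => DFunLike.congr_fun (RingHom.ext_zmod
      ((σ : F →+* F).comp (algebraMap (ZMod p) F)) (algebraMap (ZMod p) F)) x)
  refine ⟨j, finrank_eq_of_card hF ▸ hj, fun x => ?_⟩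
  have h1 := DFunLike.congr_fun h x
  simp only at h1
  rw [AlgEquiv.coe_pow, FiniteField.coe_frobeniusAlgEquivOfAlgebraic_iterate, ZMod.card] at h1
  exact h1.symm

end CfsgLib.Suz
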