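import Mathlib
import Cfsg.Agent.Lib.CoprimeMaschke
import Cfsg.Agent.Lib.PGroupRankOne
import Cfsg.Agent.Lib.CoreSolvable
import Cfsg.Agent.Lib.IrrOperator
import Cfsg.Agent.Lib.BurnsideBasis

/-! Peterfalvi, Part II, Appendix I: a special case of a theorem of Huppert. -/

set_option autoImplicit false
set_option linter.unusedSectionVars false

namespace CfsgLib.Suz

open Subgroup Cfsg CfsgLib.CopAut
open scoped commutatorElement IsMulCommutative

section Stab

variable {P V : Type*} [Group P] [CommGroup V]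

/-- Stabilizer of a vector. -/
def stab (φ : P →* MulAut V) (a : V) : Subgroup P := (MulAction.stabilizer (MulAut V) a).comap φ

theorem mem_stab {φ : P →* MulAut V} {a : V} {g : P} : g ∈ stab φ a ↔ φ g a = a := Iff.rfl

/-- The vectors fixed by an element. -/
def fixEl (φ : P →* MulAut V) (g : P) : Subgroup V where
  carrier := {v | φ g v = v}
  mul_mem' := fun {x y} hx hy => by
    simp only [Set.mem_ofPred_eq] at *
    rw [map_mul, hx, hy]
  one_mem' := map_one _
  inv_mem' := fun {x} hx => by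
    simp only [Set.mem_ofPred_eq] at *
    rw [map_inv, hx]

theorem mem_fixEl {φ : P →* MulAut V} {g : P} {v : V} : v ∈ fixEl φ g ↔ φ g v = v := Iff.rfl

theorem act_mul (φ : P →* MulAut V) (g h : P) (v : V) : φ (g * h) v = φ g (φ h v) := by
  rw [map_mul]; rfl

theorem act_inv_act (φ : P →* MulAut V) (g : P) (v : V) : φ g⁻¹ (φ g v) = v := by
  rw [← act_mul, inv_mul_cancel, map_one]; rfl

theorem act_act_inv (φ : P →* MulAut V) (g : P) (v : V) : φ g (φ g⁻¹ v) = v := by
  rw [← act_mul, mul_inv_cancel, map_one]; rfl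

theorem act_ne_one (φ : P →* MulAut V) (g : P) {v : V} (h : v ≠ 1) : φ g v ≠ 1 := by
  intro h'
  exact h ((φ g).injective (h'.trans (map_one _).symm))

theorem stab_eq_of_inv [Finite P] {φ : P →* MulAut V}
    (hc : ∀ a b : V, a ≠ 1 → b ≠ 1 → Nat.card (stab φ a) = Nat.card (stab φ b))
    {a b : V} (ha : a ≠ 1) (hb : b ≠ 1) (hab : a * b ≠ 1)
    (h : ∀ g, φ g (a * b) = a * b → φ g a = a) : stab φ a = stab φ b := by
  have h1 : stab φ (a * b) ≤ stab φ a := fun g hg => h g hg
  have h2 : stab φ (a * b) ≤ stab φ b := by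
    intro g hg
    have h3 := h g hg
    rw [mem_stab, map_mul, h3] at hg
    exact mul_left_cancel hg
  rw [← eq_of_le_of_card_ge h1 (hc _ _ ha hab).le, eq_of_le_of_card_ge h2 (hc _ _ hb hab).le]

/-- The "commutator" operator `v ↦ v⁻¹ * s v`. -/
def dOp (φ : P →* MulAut V) (s : P) : V →* V where
  toFun v := v⁻¹ * φ s v
  map_one' := by simp
  map_mul' v w := by
    rw [map_mul, mul_inv_rev]
    simp only [mul_comm, mul_left_comm, mul_assoc]

theorem dOp_apply (φ : P →* MulAut V) (s : P) (v : V) : dOp φ s v = v⁻¹ * φ s v := rfl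

theorem dOp_eq_one_iff {φ : P →* MulAut V} {s : P} {v : V} : dOp φ s v = 1 ↔ φ s v = v := by
  rw [dOp_apply, inv_mul_eq_one, eq_comm]

theorem dOp_fix {φ : P →* MulAut V} {s u : P} {v : V} (h : φ u v = v) (hc : s * u = u * s) :
    φ u (dOp φ s v) = dOp φ s v := by
  rw [dOp_apply, map_mul, map_inv, h, ← act_mul, ← hc, act_mul, h]

theorem dOp_ne_one {φ : P →* MulAut V} {c u : P} {v : V} (h : φ u v = v) (hv : v ≠ 1)
    (hc : ∀ w, φ c w = w → w = 1) : dOp φ (c * u) v ≠ 1 := by
  intro h'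
  rw [dOp_eq_one_iff, act_mul, h] at h'
  exact hv (hc v h')

end Stab

section Lemma

variable {P V : Type*} [Group P] [Finite P] [CommGroup V] [Finite V] {φ : P →* MulAut V}
  {p r : ℕ} [Fact p.Prime] [Fact r.Prime]

theorem isCyclic_of_fpf (hφ : Function.Injective φ) (hP : IsPGroup p P) (hp2 : p ≠ 2)
    (hcop : (Nat.card P).Coprime (Nat.card V))
    (h : ∀ g : P, g ≠ 1 → ∀ v, φ g v = v → v = 1) : IsCyclic P := by
  by_contra hnc
  obtain ⟨E, hEn, hE, hEc⟩ := PGrp.exists_normal_card_sq_of_odd hP hp2 hnc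
  have hEnc : ¬ IsCyclic E := by
    intro hc
    obtain ⟨g, hg⟩ := IsCyclic.exists_ofOrder_eq_natCard (α := E)
    have h1 : orderOf g ∣ p := orderOf_dvd_of_pow_eq_one (Subtype.ext (hE.2 g g.2))
    rw [hg, hEc] at h1
    have h2 := Nat.le_of_dvd (Fact.out : p.Prime).pos h1
    have h3 := (Fact.out : p.Prime).one_lt
    nlinarith
  have hle : (⊤ : Subgroup V) ≤ ⊥ := by
    refine le_of_fixed_le_of_not_isCyclic (φ := φ.comp E.subtype) hE.1 hEnc inv_top ?_ ?_
    · rw [Subgroup.card_top]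
      exact Nat.Coprime.coprime_dvd_left (Subgroup.card_subgroup_dvd_card E) hcop
    · intro a ha v _ hv
      exact h a (fun h' => ha (Subtype.ext h')) v hv
  apply hnc
  have : Subsingleton P := ⟨fun a b => hφ (by
    ext v
    have hv : v = 1 := hle (mem_top v)
    rw [hv, map_one, map_one])⟩
  infer_instance

/-- Appendix I, Lemma. -/
theorem pgroup_fpf (hφ : Function.Injective φ) (hP : IsPGroup p P) (hp2 : p ≠ 2)
    (hV : ∀ v : V, v ^ r = 1) (hpr : p ≠ r)
    (hc : ∀ a b : V, a ≠ 1 → b ≠ 1 → Nat.card (stab φ a) = Nat.card (stab φ b)) :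
    ∀ g : P, g ≠ 1 → ∀ v, φ g v = v → v = 1 := by
  have hp : p.Prime := Fact.out
  have hr : r.Prime := Fact.out
  have hcopr : (Nat.card P).Coprime r := by
    obtain ⟨k, hk⟩ := IsPGroup.iff_card.1 hP
    rw [hk]
    exact Nat.Coprime.pow_left _ ((Nat.coprime_primes hp hr).2 hpr)
  have hVp : IsPGroup r V := fun v => ⟨1, by rw [pow_one, hV]⟩
  have hcop : (Nat.card P).Coprime (Nat.card V) := by
    obtain ⟨k, hk⟩ := IsPGroup.iff_card.1 hVp
    rw [hk]
    exact Nat.Coprime.pow_right _ hcopr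
  intro g₀ hg₀ v₀ hv₀
  by_contra hv₀1
  -- all stabilizers are nontrivial
  have hst : ∀ a : V, a ≠ 1 → ∃ g, g ≠ 1 ∧ φ g a = a := by
    intro a ha
    have h1 : stab φ v₀ ≠ ⊥ := fun h => hg₀ (by
      have : g₀ ∈ stab φ v₀ := hv₀
      rwa [h, mem_bot] at this)
    have h2 : stab φ a ≠ ⊥ := by
      intro h
      apply h1
      rw [← Subgroup.card_eq_one, hc _ _ hv₀1 ha, h, Subgroup.card_bot]
    obtain ⟨⟨g, hg⟩, hg1⟩ := (Subgroup.ne_bot_iff_exists_ne_one).1 h2
    exact ⟨g, fun h => hg1 (Subtype.ext h), hg⟩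
  -- irreducibility
  have hirr : ∀ U : Subgroup V, CopAut.Inv φ U → U = ⊥ ∨ U = ⊤ := by
    intro U hU
    by_contra hcon
    push Not at hcon
    obtain ⟨W, hW, h1, h2⟩ := maschke hV hcopr hU
    have hW1 : W ≠ ⊥ := fun h => hcon.2 (by rw [← h2, h, sup_bot_eq])
    have key : ∀ a ∈ U, ∀ b ∈ W, a ≠ 1 → b ≠ 1 → stab φ a = stab φ b := by
      intro a ha b hb ha1 hb1
      have hab : a * b ≠ 1 := by
        intro h
        have : a ∈ U ⊓ W := mem_inf.2 ⟨ha, by rw [eq_inv_of_mul_eq_one_left h]; exact W.inv_mem hb⟩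
        rw [h1, mem_bot] at this
        exact ha1 this
      refine stab_eq_of_inv hc ha1 hb1 hab fun g hg => ?_
      rw [map_mul] at hg
      have h3 : a⁻¹ * φ g a = b * (φ g b)⁻¹ := by
        rw [eq_mul_inv_iff_mul_eq, mul_assoc, hg, inv_mul_cancel_left]
      have h4 : a⁻¹ * φ g a ∈ U ⊓ W :=
        mem_inf.2 ⟨U.mul_mem (U.inv_mem ha) (hU g a ha), h3 ▸ W.mul_mem hb (W.inv_mem (hW g b hb))⟩
      rw [h1, mem_bot, inv_mul_eq_one] at h4
      exact h4.symm
    obtain ⟨⟨a, ha⟩, ha1⟩ := (Subgroup.ne_bot_iff_exists_ne_one).1 hcon.1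
    obtain ⟨⟨b, hb⟩, hb1⟩ := (Subgroup.ne_bot_iff_exists_ne_one).1 hW1
    have ha1' : a ≠ 1 := fun h => ha1 (Subtype.ext h)
    have hb1' : b ≠ 1 := fun h => hb1 (Subtype.ext h)
    obtain ⟨g, hg1, hg⟩ := hst a ha1'
    have hga : g ∈ stab φ a := hg
    have hU' : U ≤ fixEl φ g := by
      intro u hu
      by_cases hu1 : u = 1
      · rw [hu1]; exact one_mem _
      · have : g ∈ stab φ u := by rw [key u hu b hb hu1 hb1', ← key a ha b hb ha1' hb1']; exact hga
        exact this
    have hW' : W ≤ fixEl φ g := by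
      intro u hu
      by_cases hu1 : u = 1
      · rw [hu1]; exact one_mem _
      · have : g ∈ stab φ u := by rw [← key a ha u hu ha1' hu1]; exact hga
        exact this
    apply hg1
    apply hφ
    rw [map_one]
    ext v
    exact (sup_le hU' hW') (h2 ▸ mem_top v)
  -- central elements act fixed point freely
  have hcent : ∀ z ∈ center P, z ≠ 1 → ∀ v, φ z v = v → v = 1 := by
    intro z hz hz1 v hv
    have hinv : CopAut.Inv φ (fixEl φ z) := by
      intro g w hw
      rw [mem_fixEl] at hw ⊢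
      rw [← act_mul, ← mem_center_iff.1 hz g, act_mul, hw]
    rcases hirr _ hinv with h | h
    · have : v ∈ fixEl φ z := hv
      rwa [h, mem_bot] at this
    · exfalso
      apply hz1
      apply hφ
      rw [map_one]
      ext w
      have : w ∈ fixEl φ z := h ▸ mem_top w
      exact this
  by_cases hcyc : IsCyclic P
  · have : g₀ ∈ center P := mem_center_iff.2 fun g => IsCyclic.commGroup.mul_comm g g₀
    exact hv₀1 (hcent g₀ this hg₀ v₀ hv₀)
  obtain ⟨E, hEn, hE, hEc⟩ := PGrp.exists_normal_card_sq_of_odd hP hp2 hcyc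
  have : Group.IsNilpotent P := hP.isNilpotent
  have hEnc : ¬ IsCyclic E := by
    intro hc
    obtain ⟨g, hg⟩ := IsCyclic.exists_ofOrder_eq_natCard (α := E)
    have h1 : orderOf g ∣ p := orderOf_dvd_of_pow_eq_one (Subtype.ext (hE.2 g g.2))
    rw [hg, hEc] at h1
    have h2 := Nat.le_of_dvd hp.pos h1
    have h3 := hp.one_lt
    nlinarith
  -- an element `t` of `E` with a nontrivial fixed vector
  obtain ⟨t, htE, ht1, a, ha1, hta⟩ : ∃ t ∈ E, t ≠ 1 ∧ ∃ a : V, a ≠ 1 ∧ φ t a = a := by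
    by_contra hcon
    push Not at hcon
    have hle : (⊤ : Subgroup V) ≤ ⊥ := by
      refine le_of_fixed_le_of_not_isCyclic (φ := φ.comp E.subtype) hE.1 hEnc inv_top ?_ ?_
      · rw [Subgroup.card_top]
        exact Nat.Coprime.coprime_dvd_left (Subgroup.card_subgroup_dvd_card E) hcop
      · intro a ha v _ hv
        by_contra hv1
        exact hcon a a.2 (fun h' => ha (Subtype.ext h')) v hv1 hv
    exact hv₀1 (hle (mem_top v₀))
  have htZ : t ∉ center P := fun h => ha1 (hcent t h ht1 a hta)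
  -- commutators with `t` are central
  have hcomm : ∀ g : P, ⁅t, g⁆ ∈ center P := by
    set M := E ⊓ center P with hM
    have hM1 : M ≠ ⊥ := PGrp.inf_center_ne_bot_of_normal E (by
      intro h
      rw [h, mem_bot] at htE
      exact ht1 htE)
    obtain ⟨e, heE, heM, he⟩ := PGrp.exists_central_mod M E (fun h => htZ (h htE).2)
    set S := E ⊓ (center (P ⧸ M)).comap (QuotientGroup.mk' M) with hS
    have hmem : ∀ y, y ∈ (center (P ⧸ M)).comap (QuotientGroup.mk' M) ↔ ∀ g, ⁅y, g⁆ ∈ M := by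
      intro y
      rw [mem_comap, mem_center_iff]
      constructor
      · intro h g
        rw [← QuotientGroup.eq_one_iff]
        change QuotientGroup.mk' M ⁅y, g⁆ = 1
        rw [map_commutatorElement, commutatorElement_eq_one_iff_mul_comm]
        exact (h _).symm
      · intro h g
        obtain ⟨g, rfl⟩ := QuotientGroup.mk'_surjective M g
        have h1 := h g
        rw [← QuotientGroup.eq_one_iff] at h1
        change QuotientGroup.mk' M ⁅y, g⁆ = 1 at h1
        rw [map_commutatorElement, commutatorElement_eq_one_iff_mul_comm] at h1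
        exact h1.symm
    have hMS : M < S := by
      refine lt_of_le_of_ne (fun y hy => ⟨hy.1, (hmem y).2 fun g => ?_⟩) fun h => heM ?_
      · rw [commutatorElement_eq_one_iff_mul_comm.2 (mem_center_iff.1 hy.2 g).symm]
        exact one_mem _
      · rw [h]; exact ⟨heE, (hmem e).2 he⟩
    have hSE : S = E := by
      apply eq_of_le_of_card_ge inf_le_left
      have h1 : Nat.card S ∣ p ^ 2 := hEc ▸ card_dvd_of_le inf_le_left
      have h2 : Nat.card M ∣ Nat.card S := card_dvd_of_le hMS.le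
      have h3 : Nat.card M < Nat.card S := by
        refine lt_of_le_of_ne (card_le_of_le hMS.le) fun h => hMS.ne ?_
        exact eq_of_le_of_card_ge hMS.le h.ge
      have h4 : Nat.card M ≠ 1 := fun h => hM1 (Subgroup.card_eq_one.1 h)
      obtain ⟨i, hi, hi'⟩ := (Nat.dvd_prime_pow hp).1 h1
      obtain ⟨j, hj, hj'⟩ := (Nat.dvd_prime_pow hp).1 (h2.trans h1)
      rw [hi', hj'] at h3
      have h5 := (Nat.pow_lt_pow_iff_right hp.one_lt).1 h3
      have h6 : j ≠ 0 := fun h => h4 (by rw [hj', h, pow_zero])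
      rw [hEc, hi']
      exact Nat.pow_le_pow_right hp.pos (by omega)
    intro g
    have : t ∈ S := hSE ▸ htE
    exact ((hmem t).1 this.2 g).2
  have hconj : ∀ g : P, ∃ c ∈ center P, g * t * g⁻¹ = c * t := by
    intro g
    refine ⟨⁅t, g⁆⁻¹, inv_mem (hcomm g), ?_⟩
    rw [commutatorElement_inv, commutatorElement_def]
    group
  have hfix : ∀ (g s : P) (w : V), φ s w = w → φ (g * s * g⁻¹) (φ g w) = φ g w := by
    intro g s w hw
    rw [act_mul, act_inv_act, act_mul, hw]
  obtain ⟨x, hx⟩ : ∃ x : P, x * t ≠ t * x := by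
    by_contra h
    push Not at h
    exact htZ (mem_center_iff.2 h)
  obtain ⟨c₀, hc₀, hxc⟩ := hconj x
  have hc₀1 : c₀ ≠ 1 := by
    rintro rfl
    apply hx
    rw [one_mul] at hxc
    calc x * t = x * t * x⁻¹ * x := by group
      _ = t * x := by rw [hxc]
  set b := φ x a with hb
  have hb1 : b ≠ 1 := act_ne_one φ x ha1
  have htb : φ (c₀ * t) b = b := hxc ▸ hfix x t a hta
  have hZ : ∀ c ∈ center P, ∀ d ∈ center P, c * t * (d * t) = d * t * (c * t) := by
    intro c hc d hd
    have h1 := mem_center_iff.1 hc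
    have h2 := mem_center_iff.1 hd
    calc c * t * (d * t) = c * (t * d) * t := by group
      _ = c * d * t * t := by rw [h2 t]; group
      _ = d * c * t * t := by rw [h2 c]
      _ = d * (c * t) * t := by group
      _ = d * (t * c) * t := by rw [h1 t]
      _ = d * t * (c * t) := by group
  have hta' : φ (1 * t) a = a := by rw [one_mul]; exact hta
  have hne : ∀ c ∈ center P, ∀ d ∈ center P, c ≠ d → ∀ w, φ (d * t) w = w → w ≠ 1 →
      dOp φ (c * t) w ≠ 1 := by
    intro c hc d hd hcd w hw hw1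
    have : c * t = c * d⁻¹ * (d * t) := by group
    rw [this]
    exact dOp_ne_one hw hw1 (hcent _ (mul_mem hc (inv_mem hd)) (by rwa [Ne, mul_inv_eq_one]))
  have hab : a * b ≠ 1 := by
    intro h
    have h1 : b = a⁻¹ := eq_inv_of_mul_eq_one_right h
    have h2 : φ (1 * t) b = b := by rw [h1, map_inv, hta']
    exact hne c₀ hc₀ 1 (one_mem _) hc₀1 b h2 hb1 (dOp_eq_one_iff.2 htb)
  have hsab : stab φ a = stab φ b := by
    refine stab_eq_of_inv hc ha1 hb1 hab fun g hg => ?_
    obtain ⟨c, hc, hgc⟩ := hconj g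
    have hga : φ (c * t) (φ g a) = φ g a := hgc ▸ hfix g t a hta
    have hgb : φ (c₀ * c * t) (φ g b) = φ g b := by
      have h1 := hfix g _ b htb
      have h2 : g * (c₀ * t) * g⁻¹ = c₀ * c * t := by
        rw [← mul_assoc g, mem_center_iff.1 hc₀ g, mul_assoc c₀, mul_assoc c₀, hgc, mul_assoc]
      rwa [h2] at h1
    rw [map_mul] at hg
    have hcc : c₀ * c ∈ center P := mul_mem hc₀ hc
    by_cases hc1 : c = 1
    · subst hc1
      rw [mul_one] at hgb
      by_contra hne'
      have h3 : a⁻¹ * φ g a = b * (φ g b)⁻¹ := by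
        rw [eq_mul_inv_iff_mul_eq, mul_assoc, hg, inv_mul_cancel_left]
      have h4 : a⁻¹ * φ g a ≠ 1 := by
        rw [Ne, inv_mul_eq_one]; exact fun h => hne' h.symm
      refine hne c₀ hc₀ 1 (one_mem _) hc₀1 _ ?_ h4 (dOp_eq_one_iff.2 ?_)
      · rw [map_mul, map_inv, hta', hga]
      · rw [h3, map_mul, map_inv, htb, hgb]
    exfalso
    by_cases hcc1 : c₀ * c = 1
    · -- `b` is a product of vectors fixed by `t` and by `c * t`
      rw [hcc1] at hgb
      have hb' : b = φ g a * (φ g b * a⁻¹) := by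
        rw [← mul_assoc, hg, mul_comm a b, mul_inv_cancel_right]
      have hcc₀ : c ≠ c₀ := by
        intro h
        rw [h, ← sq] at hcc1
        obtain ⟨k, hk⟩ := hP c₀
        have h1 := orderOf_dvd_of_pow_eq_one hcc1
        have h2 := orderOf_dvd_of_pow_eq_one hk
        have h3 : Nat.Coprime 2 (p ^ k) :=
          Nat.Coprime.pow_right _ ((Nat.coprime_primes Nat.prime_two hp).2 hp2.symm)
        exact hc₀1 (orderOf_eq_one_iff.1 (Nat.eq_one_of_dvd_coprimes h3 h1 h2))
      have h1 : dOp φ (c * t) b ≠ 1 := hne c hc c₀ hc₀ hcc₀ b htb hb1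
      have h2 : φ (c₀ * t) (dOp φ (c * t) b) = dOp φ (c * t) b := dOp_fix htb (hZ c hc c₀ hc₀)
      apply hne 1 (one_mem _) c₀ hc₀ hc₀1.symm _ h2 h1
      rw [hb', map_mul (dOp φ (c * t)), dOp_eq_one_iff.2 hga, one_mul (dOp φ (c * t) _),
        dOp_eq_one_iff]
      refine dOp_fix ?_ (hZ c hc 1 (one_mem _))
      rw [map_mul, map_inv, hgb, hta']
    · have ha' : a = φ g a * φ g b * b⁻¹ := by rw [hg, mul_inv_cancel_right]
      have h1 : dOp φ (c * t) a ≠ 1 := hne c hc 1 (one_mem _) hc1 a hta' ha1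
      have h2 : φ (1 * t) (dOp φ (c * t) a) = dOp φ (c * t) a :=
        dOp_fix hta' (hZ c hc 1 (one_mem _))
      have h3 := hne _ hcc 1 (one_mem _) hcc1 _ h2 h1
      have h4 := dOp_fix h2 (hZ _ hcc 1 (one_mem _))
      apply hne c₀ hc₀ 1 (one_mem _) hc₀1 _ h4 h3
      rw [ha', map_mul (dOp φ (c * t)), map_mul (dOp φ (c * t)), dOp_eq_one_iff.2 hga, one_mul,
        map_mul (dOp φ (c₀ * c * t)), dOp_eq_one_iff.2 (dOp_fix hgb (hZ c hc _ hcc)), one_mul,
        dOp_eq_one_iff]
      refine dOp_fix (dOp_fix ?_ (hZ c hc c₀ hc₀)) (hZ _ hcc c₀ hc₀)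
      rw [map_inv, htb]
  have htb' : t ∈ stab φ b := hsab ▸ hta
  have h2 : φ (1 * t) b = b := by rw [one_mul]; exact htb'
  exact hne c₀ hc₀ 1 (one_mem _) hc₀1 b h2 hb1 (dOp_eq_one_iff.2 htb)

end Lemma

section Prop1

variable {Y V : Type*} [Group Y] [Finite Y] [CommGroup V] [Finite V] {φ : Y →* MulAut V}
  {r : ℕ} [Fact r.Prime]

theorem card_stab_comp_eq {N : Subgroup Y} [hN : N.Normal] {a b : V} {y : Y} (h : φ y a = b) :
    Nat.card (stab (φ.comp N.subtype) a) = Nat.card (stab (φ.comp N.subtype) b) := by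
  refine Nat.card_congr ⟨fun g => ⟨⟨y * g.1 * y⁻¹, hN.conj_mem _ g.1.2 y⟩, ?_⟩,
    fun g => ⟨⟨y⁻¹ * g.1 * y, hN.conj_mem' _ g.1.2 y⟩, ?_⟩, fun g => ?_, fun g => ?_⟩
  · have h1 : φ g.1 a = a := g.2
    change φ (y * g.1 * y⁻¹) b = b
    rw [← h, act_mul, act_inv_act, act_mul, h1]
  · have h1 : φ g.1 b = b := g.2
    change φ (y⁻¹ * g.1 * y) a = a
    rw [act_mul, h, act_mul, h1, ← h, act_inv_act]
  · apply Subtype.ext; apply Subtype.ext
    change y⁻¹ * (y * g.1 * y⁻¹) * y = g.1
    group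
  · apply Subtype.ext; apply Subtype.ext
    change y * (y⁻¹ * g.1 * y) * y⁻¹ = g.1
    group

theorem fitting_fpf (hφ : Function.Injective φ) (hodd : Odd (Nat.card Y))
    (hV : ∀ v : V, v ^ r = 1) (hr : (Nat.card Y).Coprime r)
    (htr : ∀ a b : V, a ≠ 1 → b ≠ 1 → ∃ y, φ y a = b) :
    ∀ g ∈ fittingSubgroup Y, g ≠ 1 → ∀ v, φ g v = v → v = 1 := by
  intro g hg hg1 v hv
  obtain ⟨p, hp, hpd⟩ := Nat.exists_prime_and_dvd (fun h => hg1 (orderOf_eq_one_iff.1 h))
  have : Fact p.Prime := ⟨hp⟩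
  obtain ⟨k, hk⟩ := hpd
  have hk0 : k ≠ 0 := by
    rintro rfl
    exact (orderOf_pos g).ne' (by rw [hk, mul_zero])
  have ho : orderOf (g ^ k) = p := by
    rw [orderOf_pow' _ hk0, hk, Nat.gcd_mul_left_left, Nat.mul_div_cancel _ (Nat.pos_of_ne_zero hk0)]
  have hpY : p ∣ Nat.card Y := ho ▸ orderOf_dvd_natCard _
  have hp2 : p ≠ 2 := by
    rintro rfl
    exact (Nat.not_even_iff_odd.2 hodd) (even_iff_two_dvd.2 hpY)
  have hpr : p ≠ r := by
    rintro rfl
    exact hp.one_lt.ne' (Nat.eq_one_of_dvd_coprimes hr hpY dvd_rfl)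
  have hle : zpowers (g ^ k) ≤ pCore p Y := by
    refine le_pCore_of_le_fitting (zpowers_le.2 (pow_mem hg k)) (IsPGroup.of_card (n := 1) ?_)
    rw [Nat.card_zpowers, ho, pow_one]
  have hφ' : Function.Injective (φ.comp (pCore p Y).subtype) := hφ.comp Subtype.val_injective
  refine pgroup_fpf hφ' (pCore_isPGroup p) hp2 hV hpr ?_ ⟨g ^ k, hle (mem_zpowers _)⟩ ?_ v ?_
  · intro a b ha hb
    obtain ⟨y, hy⟩ := htr a b ha hb
    exact card_stab_comp_eq hy
  · intro h
    have h1 : g ^ k = 1 := congrArg Subtype.val h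
    rw [h1, orderOf_one] at ho
    exact hp.one_lt.ne ho
  · change φ (g ^ k) v = v
    exact pow_mem (show g ∈ stab φ v from hv) k

theorem fitting_isCyclic (hφ : Function.Injective φ) (hodd : Odd (Nat.card Y))
    (hV : ∀ v : V, v ^ r = 1) (hr : (Nat.card Y).Coprime r)
    (htr : ∀ a b : V, a ≠ 1 → b ≠ 1 → ∃ y, φ y a = b) : IsCyclic (fittingSubgroup Y) := by
  have hfpf := fitting_fpf hφ hodd hV hr htr
  have hVp : IsPGroup r V := fun v => ⟨1, by rw [pow_one, hV]⟩
  have hcop : (Nat.card Y).Coprime (Nat.card V) := by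
    obtain ⟨k, hk⟩ := IsPGroup.iff_card.1 hVp
    rw [hk]
    exact Nat.Coprime.pow_right _ hr
  have := fitting_isNilpotent (G := Y)
  have : IsZGroup (fittingSubgroup Y) := by
    refine ⟨fun p hp P => ?_⟩
    have : Fact p.Prime := ⟨hp⟩
    have hd : Nat.card P ∣ Nat.card Y :=
      (card_subgroup_dvd_card _).trans (card_subgroup_dvd_card _)
    by_cases hp2 : p = 2
    · subst hp2
      obtain ⟨k, hk⟩ := IsPGroup.iff_card.1 P.isPGroup'
      have h1 : Nat.card P = 1 := by
        refine Nat.eq_one_of_dvd_coprimes ?_ hd dvd_rfl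
        rw [hk]
        exact Nat.Coprime.pow_right _ (Nat.Coprime.symm (Nat.coprime_two_left.2 hodd))
      have : Subsingleton P := (Nat.card_eq_one_iff_unique.1 h1).1
      infer_instance
    · refine isCyclic_of_fpf (φ := φ.comp ((fittingSubgroup Y).subtype.comp (P : Subgroup (fittingSubgroup Y)).subtype))
        (fun a b h => Subtype.ext (Subtype.ext (hφ h))) P.isPGroup' hp2
        (Nat.Coprime.coprime_dvd_left hd hcop) fun g hg v hv => ?_
      exact hfpf g.1.1 g.1.2 (fun h => hg (Subtype.ext (Subtype.ext h))) v hv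
  infer_instance

theorem card_le_of_fpf {F : Subgroup Y} (hfpf : ∀ g ∈ F, g ≠ 1 → ∀ v, φ g v = v → v = 1)
    {U : Subgroup V} (hU : ∀ g ∈ F, ∀ u ∈ U, φ g u ∈ U) (hU1 : U ≠ ⊥) :
    Nat.card F + 1 ≤ Nat.card U := by
  obtain ⟨⟨a, ha⟩, ha1⟩ := (Subgroup.ne_bot_iff_exists_ne_one).1 hU1
  have ha1' : a ≠ 1 := fun h => ha1 (Subtype.ext h)
  rw [← Nat.card_unique (α := Unit), ← Nat.card_sum]
  refine Nat.card_le_card_of_injective
    (Sum.elim (fun g : F => (⟨φ g a, hU g g.2 a ha⟩ : U)) (fun _ => 1)) ?_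
  rintro (g | g) (h | h) hgh
  · have h1 : φ g a = φ h a := congrArg Subtype.val hgh
    have h2 : φ ((h : Y)⁻¹ * g) a = a := by rw [act_mul, h1, act_inv_act]
    by_contra hne
    refine ha1' (hfpf _ (mul_mem (inv_mem h.2) g.2) (fun h3 => hne ?_) a h2)
    rw [inv_mul_eq_one] at h3
    rw [Subtype.ext h3]
  · exact absurd (congrArg Subtype.val hgh) (act_ne_one φ _ ha1')
  · exact absurd (congrArg Subtype.val hgh).symm (act_ne_one φ _ ha1')
  · rfl

theorem card_le_succ_of_transitive (htr : ∀ a b : V, a ≠ 1 → b ≠ 1 → ∃ y, φ y a = b) :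
    Nat.card V ≤ Nat.card Y + 1 := by
  by_cases hV : ∀ a : V, a = 1
  · have : Subsingleton V := ⟨fun a b => by rw [hV a, hV b]⟩
    rw [Nat.card_of_subsingleton (1 : V)]
    omega
  push Not at hV
  obtain ⟨a, ha⟩ := hV
  rw [← Nat.card_unique (α := Unit), ← Nat.card_sum]
  refine Nat.card_le_card_of_surjective (Sum.elim (fun y : Y => φ y a) (fun _ => 1)) fun b => ?_
  by_cases hb : b = 1
  · exact ⟨Sum.inr (), hb.symm⟩
  · obtain ⟨y, hy⟩ := htr a b ha hb
    exact ⟨Sum.inl y, hy⟩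

theorem card_le_sq_of_cyclic {F : Subgroup Y} [hF : F.Normal] (hc : IsCyclic F)
    (hC : centralizer (F : Set Y) ≤ F) : Nat.card Y ≤ Nat.card F * Nat.card F := by
  obtain ⟨ξ, hξ⟩ := (Subgroup.isCyclic_iff_exists_zpowers_eq_top F).1 hc
  have hξF : ξ ∈ F := hξ ▸ mem_zpowers ξ
  have h1 : centralizer ({ξ} : Set Y) ≤ F := by
    refine le_trans (fun y hy => ?_) hC
    rw [mem_centralizer_singleton_iff] at hy
    intro f hf
    rw [← hξ] at hf
    obtain ⟨k, rfl⟩ := hf
    exact ((show Commute y ξ from hy).zpow_right k).symm.eq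
  have h2 : (centralizer ({ξ} : Set Y)).index ≤ Nat.card F := by
    have h3 : centralizer ({ξ} : Set Y) =
        (MulAction.stabilizer (MulAut Y) ξ).comap MulAut.conj := by
      ext y
      rw [mem_centralizer_singleton_iff, mem_comap, MulAction.mem_stabilizer_iff]
      change _ ↔ y * ξ * y⁻¹ = ξ
      rw [mul_inv_eq_iff_eq_mul]
    rw [index_eq_card]
    refine Nat.card_le_card_of_injective (fun q => Quotient.liftOn' q
      (fun y => (⟨y * ξ * y⁻¹, hF.conj_mem _ hξF y⟩ : F)) ?_) ?_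
    · intro a b hab
      rw [QuotientGroup.leftRel_apply, mem_centralizer_singleton_iff] at hab
      apply Subtype.ext
      change a * ξ * a⁻¹ = b * ξ * b⁻¹
      calc a * ξ * a⁻¹ = a * (ξ * (a⁻¹ * b)) * b⁻¹ := by group
        _ = b * ξ * b⁻¹ := by rw [← hab]; group
    · intro a b
      induction a using QuotientGroup.induction_on with | H a => ?_
      induction b using QuotientGroup.induction_on with | H b => ?_
      intro hab
      have h4 : a * ξ * a⁻¹ = b * ξ * b⁻¹ := congrArg Subtype.val hab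
      rw [QuotientGroup.eq, mem_centralizer_singleton_iff]
      calc a⁻¹ * b * ξ = a⁻¹ * (b * ξ * b⁻¹) * b := by group
        _ = ξ * (a⁻¹ * b) := by rw [← h4]; group
  rw [← (centralizer ({ξ} : Set Y)).card_mul_index]
  exact Nat.mul_le_mul (card_le_of_le h1) h2

/-- The Fitting subgroup acts irreducibly. -/
theorem fitting_irr (hφ : Function.Injective φ) (hodd : Odd (Nat.card Y))
    (hs : Group.IsSolvable Y) (hV : ∀ v : V, v ^ r = 1) (hr : (Nat.card Y).Coprime r)
    (htr : ∀ a b : V, a ≠ 1 → b ≠ 1 → ∃ y, φ y a = b) (U : Subgroup V)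
    (hU : ∀ g ∈ fittingSubgroup Y, ∀ u ∈ U, φ g u ∈ U) : U = ⊥ ∨ U = ⊤ := by
  by_contra hcon
  push Not at hcon
  have hfpf := fitting_fpf hφ hodd hV hr htr
  have hcyc := fitting_isCyclic hφ hodd hV hr htr
  obtain ⟨W, hW, h1, h2⟩ := maschke (φ := φ.comp (fittingSubgroup Y).subtype) hV
    (Nat.Coprime.coprime_dvd_left (card_subgroup_dvd_card _) hr) (U := U)
    (fun g u hu => hU g g.2 u hu)
  have hW1 : W ≠ ⊥ := fun h => hcon.2 (by rw [← h2, h, sup_bot_eq])
  have h3 := card_le_of_fpf hfpf hU hcon.1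
  have h4 := card_le_of_fpf hfpf (U := W) (fun g hg u hu => hW ⟨g, hg⟩ u hu) hW1
  have h5 := card_le_succ_of_transitive htr
  have h6 := card_le_sq_of_cyclic hcyc centralizer_fitting_le
  have h7 : Nat.card U * Nat.card W = Nat.card V :=
    (Subgroup.isComplement'_of_disjoint_and_mul_eq_univ (disjoint_iff.2 h1) (by
      rw [← mul_normal, h2, coe_top])).card_mul_card
  have h8 : 0 < Nat.card (fittingSubgroup Y) := Nat.card_pos
  nlinarith [Nat.mul_le_mul h3 h4]

/-- Appendix I, Propositions 1 and 2 (faithful case): a field structure on `V` for which `Y` acts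
by semilinear maps, the Fitting subgroup acting by scalars. -/
theorem huppert_field_faithful [Nontrivial V] (hφ : Function.Injective φ)
    (hodd : Odd (Nat.card Y))
    (hs : Group.IsSolvable Y) (hV : ∀ v : V, v ^ r = 1) (hr : (Nat.card Y).Coprime r)
    (htr : ∀ a b : V, a ≠ 1 → b ≠ 1 → ∃ y, φ y a = b) :
    ∃ (F : Type) (_ : Field F) (_ : Fintype F) (_ : CharP F r) (e : V → F),
      Function.Bijective e ∧ (∀ v w, e (v * w) = e v + e w) ∧
      (∀ y, ∃ (c : F) (j : ℕ), c ≠ 0 ∧ ∀ v, e (φ y v) = c * e v ^ r ^ j) ∧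
      (∀ y, y ∈ fittingSubgroup Y ↔ ∃ c : F, ∀ v, e (φ y v) = c * e v) := by
  have hcyc := fitting_isCyclic hφ hodd hV hr htr
  have hirr := fitting_irr hφ hodd hs hV hr htr
  obtain ⟨ξ, hξ⟩ := (Subgroup.isCyclic_iff_exists_zpowers_eq_top _).1 hcyc
  have hξF : ξ ∈ fittingSubgroup Y := hξ ▸ mem_zpowers ξ
  obtain ⟨inst⟩ := BurnsideBasis.nonempty_elemAbModule hV
  set L : Y →* Module.End (ZMod r) (Additive V) :=
    { toFun := fun y => (BurnsideBasis.elemAbAutEquiv r V (φ y)).toLinearMap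
      map_one' := by rw [map_one, map_one]; rfl
      map_mul' := fun a b => by rw [map_mul, map_mul]; rfl } with hL
  have hLa : ∀ y (v : V), L y (Additive.ofMul v) = Additive.ofMul (φ y v) := fun _ _ => rfl
  have hT : ∀ W : Submodule (ZMod r) (Additive V), (∀ w ∈ W, L ξ w ∈ W) → W = ⊥ ∨ W = ⊤ := by
    intro W hW
    have hU : ∀ g ∈ fittingSubgroup Y, ∀ u ∈ AddSubgroup.toSubgroup' W.toAddSubgroup,
        φ g u ∈ AddSubgroup.toSubgroup' W.toAddSubgroup := by
      intro g hg u hu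
      rw [← hξ, ← mem_powers_iff_mem_zpowers] at hg
      obtain ⟨k, rfl⟩ := hg
      induction k with
      | zero => simpa using hu
      | succ k ih =>
        simp only at ih ⊢
        rw [pow_succ', act_mul]
        exact hW _ ih
    rcases hirr _ hU with h | h
    · left
      rw [eq_bot_iff]
      intro w hw
      have : Additive.toMul w ∈ AddSubgroup.toSubgroup' W.toAddSubgroup := hw
      rw [h, mem_bot] at this
      exact this
    · right
      rw [eq_top_iff]
      intro w _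
      have : Additive.toMul w ∈ AddSubgroup.toSubgroup' W.toAddSubgroup := h ▸ mem_top _
      exact this
  obtain ⟨E, _, _, t, ψ, hψt, hgen, hbij⟩ := Chr.exists_field_of_irr hT
  obtain ⟨-, hpow⟩ := Chr.irr_pow_card_pow hT
  obtain ⟨v₀, hv₀⟩ := exists_ne (0 : Additive V)
  set f : E ≃ Additive V := Equiv.ofBijective _ (hbij v₀ hv₀) with hf
  have hfa : ∀ x, f x = ψ x v₀ := fun _ => rfl
  have : Finite E := Finite.of_equiv _ f.symm
  have hE : CharP E r := charP_of_injective_algebraMap (algebraMap (ZMod r) E).injective r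
  have hmul : ∀ x z, f (x * z) = ψ x (f z) := by
    intro x z
    rw [hfa, hfa, map_mul]; rfl
  have hsemi : ∀ y, ∃ j : ℕ, ∀ x, L y * ψ x = ψ (x ^ r ^ j) * L y := by
    intro y
    have h1 : y * ξ * y⁻¹ ∈ zpowers ξ := hξ ▸ (inferInstance : (fittingSubgroup Y).Normal).conj_mem _ hξF y
    rw [← mem_powers_iff_mem_zpowers] at h1
    obtain ⟨k, hk⟩ := h1
    simp only at hk
    have h2 : L y * L ξ = L ξ ^ k * L y := by
      rw [← map_pow, hk, ← map_mul, ← map_mul]
      congr 1
      group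
    obtain ⟨j, hj⟩ := hpow (L y) k (BurnsideBasis.elemAbAutEquiv r V (φ y)).injective h2
    rw [hj, Nat.card_zmod, ← hψt, ← map_pow] at h2
    refine ⟨j, fun x => ?_⟩
    obtain ⟨p, rfl⟩ := hgen x
    induction p using Polynomial.induction_on with
    | C a =>
      rw [Polynomial.aeval_C, ← map_pow, ZMod.pow_card_pow, AlgHom.commutes]
      exact (Algebra.commutes a _).symm
    | add p q hp hq =>
      rw [map_add, add_pow_char_pow, map_add, map_add, mul_add, add_mul, hp, hq]
    | monomial n a ih =>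
      rw [pow_succ, ← mul_assoc, map_mul, Polynomial.aeval_X, map_mul, ← mul_assoc, ih, mul_pow,
        mul_assoc, h2, ← mul_pow, mul_pow, map_mul ψ, mul_assoc]
  refine ⟨E, inferInstance, Fintype.ofFinite E, hE, fun v => f.symm (Additive.ofMul v),
    f.symm.bijective.comp Additive.ofMul.bijective, fun v w => ?_, fun y => ?_, fun y => ?_⟩
  · apply f.injective
    rw [Equiv.apply_symm_apply, hfa, map_add, LinearMap.add_apply, ← hfa, ← hfa,
      Equiv.apply_symm_apply, Equiv.apply_symm_apply, ofMul_mul]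
  · obtain ⟨j, hj⟩ := hsemi y
    refine ⟨f.symm (L y v₀), j, fun h => ?_, fun v => ?_⟩
    · have h1 := congrArg f h
      rw [Equiv.apply_symm_apply, hfa, map_zero, LinearMap.zero_apply] at h1
      exact hv₀ ((BurnsideBasis.elemAbAutEquiv r V (φ y)).map_eq_zero_iff.1 h1)
    · apply f.injective
      rw [Equiv.apply_symm_apply, mul_comm, hmul, Equiv.apply_symm_apply, ← Module.End.mul_apply,
        ← hj, Module.End.mul_apply, ← hfa, Equiv.apply_symm_apply, hLa]
  · constructor
    · intro hy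
      rw [← hξ, ← mem_powers_iff_mem_zpowers] at hy
      obtain ⟨k, rfl⟩ := hy
      refine ⟨t ^ k, fun v => ?_⟩
      apply f.injective
      simp only
      rw [Equiv.apply_symm_apply, hmul, Equiv.apply_symm_apply, map_pow ψ, hψt, ← map_pow, hLa]
    · rintro ⟨c, hc⟩
      simp only at hc
      apply centralizer_fitting_le
      intro g hg
      rw [← hξ] at hg
      obtain ⟨k, rfl⟩ := hg
      refine ((show Commute y ξ from ?_).zpow_right k).symm.eq
      apply hφ
      ext v
      have hξv : ∀ w, f.symm (Additive.ofMul (φ ξ w)) = t * f.symm (Additive.ofMul w) := by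
        intro w
        apply f.injective
        rw [Equiv.apply_symm_apply, hmul, Equiv.apply_symm_apply, hψt, hLa]
      apply (f.symm.injective.comp Additive.ofMul.injective)
      simp only [Function.comp_apply]
      rw [act_mul, act_mul, hc, hξv, hξv, hc]
      ring

/-- Appendix I, Propositions 1 and 2: a field structure on `V` for which `Y` acts by semilinear
maps. -/
theorem huppert_field [Nontrivial V] (hodd : Odd (Nat.card Y))
    (hs : Group.IsSolvable Y) (hV : ∀ v : V, v ^ r = 1) (hr : (Nat.card Y).Coprime r)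
    (htr : ∀ a b : V, a ≠ 1 → b ≠ 1 → ∃ y, φ y a = b) :
    ∃ (F : Type) (_ : Field F) (_ : Fintype F) (_ : CharP F r) (e : V → F),
      Function.Bijective e ∧ (∀ v w, e (v * w) = e v + e w) ∧
      (∀ y, ∃ (c : F) (j : ℕ), c ≠ 0 ∧ ∀ v, e (φ y v) = c * e v ^ r ^ j) := by
  have hd : Nat.card φ.range ∣ Nat.card Y := card_range_dvd φ
  obtain ⟨F, i1, i2, i3, e, h1, h2, h3, -⟩ := huppert_field_faithful (φ := φ.range.subtype)
    Subtype.val_injective (Odd.of_dvd_nat hodd hd)
    (Group.isSolvable_of_surjective φ.rangeRestrict_surjective) hV (Nat.Coprime.coprime_dvd_left hd hr)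
    (fun a b ha hb => by
      obtain ⟨y, hy⟩ := htr a b ha hb
      exact ⟨⟨φ y, y, rfl⟩, hy⟩)
  exact ⟨F, i1, i2, i3, e, h1, h2, fun y => h3 ⟨φ y, y, rfl⟩⟩

end Prop1

end CfsgLib.Suz
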