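import Mathlib

/-! Linearized polynomials over finite fields, and an arithmetic lemma used for Suzuki 2-groups. -/

set_option autoImplicit false
set_option linter.unusedSectionVars false

namespace CfsgLib.Suz

open Finset

section NT

theorem two_pow_add_aux {a b c e : ℕ} (h1 : a ≤ b) (h2 : c ≤ e) (h : 2 ^ a + 2 ^ b = 2 ^ c + 2 ^ e) :
    ¬ a < c := by
  intro hac
  have h3 : 2 ^ (a + 1) ∣ 2 ^ a + 2 ^ b := by
    rw [h]
    exact dvd_add (pow_dvd_pow 2 hac) (pow_dvd_pow 2 (by omega))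
  rcases h1.lt_or_eq with h4 | h4
  · have h5 : 2 ^ (a + 1) ∣ 2 ^ a := (Nat.dvd_add_left (pow_dvd_pow 2 h4)).1 h3
    have := (Nat.pow_dvd_pow_iff_le_right (by norm_num : 1 < 2)).1 h5
    omega
  · subst h4
    have h5 : 2 ^ (a + 1) ≤ 2 ^ c := Nat.pow_le_pow_right (by norm_num) hac
    have h6 : 0 < 2 ^ e := by positivity
    rw [pow_succ] at h5
    omega

theorem two_pow_add_two_pow_inj {a b c e : ℕ} (h : 2 ^ a + 2 ^ b = 2 ^ c + 2 ^ e) :
    (a = c ∧ b = e) ∨ (a = e ∧ b = c) := by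
  have key : ∀ {a b c e : ℕ}, a ≤ b → c ≤ e → 2 ^ a + 2 ^ b = 2 ^ c + 2 ^ e → a = c ∧ b = e := by
    intro a b c e h1 h2 h
    have h3 := two_pow_add_aux h1 h2 h
    have h4 := two_pow_add_aux h2 h1 h.symm
    have h5 : a = c := by omega
    subst h5
    exact ⟨rfl, Nat.pow_right_injective le_rfl (Nat.add_left_cancel h)⟩
  rcases le_total a b with h1 | h1 <;> rcases le_total c e with h2 | h2
  · exact Or.inl (key h1 h2 h)
  · exact Or.inr (key h1 h2 (by rw [h, add_comm]))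
  · exact Or.inr (key h1 h2 (by rw [← h, add_comm])).symm
  · exact Or.inl (key h1 h2 (by rw [add_comm, h, add_comm])).symm

/-- Rotation of exponents modulo `n`. -/
def rotExp (n p t : ℕ) : ℕ := if p + t < n then p + t else p + t - n

theorem two_pow_rotExp (n p t : ℕ) : 2 ^ rotExp n p t ≡ 2 ^ t * 2 ^ p [MOD 2 ^ n - 1] := by
  unfold rotExp
  split_ifs with h
  · rw [← pow_add, add_comm]
  · have h1 : 2 ^ t * 2 ^ p = 2 ^ (p + t - n) * 2 ^ n := by
      rw [← pow_add, ← pow_add]; congr 1; omega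
    have h2 : 1 ≡ 2 ^ n [MOD 2 ^ n - 1] :=
      (Nat.modEq_iff_dvd' (Nat.one_le_two_pow)).2 dvd_rfl
    rw [h1]
    simpa using h2.mul_left (2 ^ (p + t - n))

theorem exists_rot {n a b c e : ℕ} (ha : a < n) (hb : b < n) (hc : c < n) (he : e < n) :
    ∃ t < n, rotExp n a t ≤ n - (n + 3) / 4 ∧ rotExp n b t ≤ n - (n + 3) / 4 ∧
      rotExp n c t ≤ n - (n + 3) / 4 ∧ rotExp n e t ≤ n - (n + 3) / 4 := by
  set G := (n + 3) / 4 with hG
  have key : ∀ p < n, ((range n).filter fun t => n - G < rotExp n p t).card ≤ G - 1 := by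
    intro p hp
    have h1 : (Ioo (n - G) n).card = G - 1 := by rw [Nat.card_Ioo]; omega
    rw [← h1]
    refine card_le_card_of_injOn (rotExp n p) ?_ ?_
    · intro t ht
      simp only [coe_filter, mem_range, Set.mem_ofPred_eq] at ht
      simp only [coe_Ioo, Set.mem_Ioo]
      refine ⟨ht.2, ?_⟩
      unfold rotExp
      split_ifs <;> omega
    · intro t ht u hu h
      simp only [coe_filter, mem_range, Set.mem_ofPred_eq] at ht hu
      unfold rotExp at h
      split_ifs at h <;> omega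
  by_contra hcon
  push Not at hcon
  have hsub : range n ⊆ ((range n).filter fun t => n - G < rotExp n a t) ∪
      ((range n).filter fun t => n - G < rotExp n b t) ∪
      ((range n).filter fun t => n - G < rotExp n c t) ∪
      ((range n).filter fun t => n - G < rotExp n e t) := by
    intro t ht
    simp only [mem_union, mem_filter, ht, true_and]
    have := hcon t (mem_range.1 ht)
    omega
  have h1 := card_le_card hsub
  rw [card_range] at h1
  have h2 := key a ha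
  have h3 := key b hb
  have h4 := key c hc
  have h5 := key e he
  have h6 := card_union_le (((range n).filter fun t => n - G < rotExp n a t) ∪
      ((range n).filter fun t => n - G < rotExp n b t) ∪
      ((range n).filter fun t => n - G < rotExp n c t))
      ((range n).filter fun t => n - G < rotExp n e t)
  have h7 := card_union_le (((range n).filter fun t => n - G < rotExp n a t) ∪
      ((range n).filter fun t => n - G < rotExp n b t))
      ((range n).filter fun t => n - G < rotExp n c t)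
  have h8 := card_union_le ((range n).filter fun t => n - G < rotExp n a t)
      ((range n).filter fun t => n - G < rotExp n b t)
  omega

theorem pair_eq_of_modEq {n g a b c e : ℕ} (ha : a < n) (hb : b < n) (hc : c < n) (he : e < n)
    (hg0 : 0 < g) (hg : 2 * g ≤ 2 ^ ((n + 3) / 4))
    (h : g * (2 ^ a + 2 ^ b) ≡ g * (2 ^ c + 2 ^ e) [MOD 2 ^ n - 1]) :
    (a = c ∧ b = e) ∨ (a = e ∧ b = c) := by
  obtain ⟨t, ht, h1, h2, h3, h4⟩ := exists_rot ha hb hc he
  set G := (n + 3) / 4 with hG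
  have h5 : g * (2 ^ rotExp n a t + 2 ^ rotExp n b t) ≡ g * (2 ^ rotExp n c t + 2 ^ rotExp n e t)
      [MOD 2 ^ n - 1] := by
    calc g * (2 ^ rotExp n a t + 2 ^ rotExp n b t) ≡ g * (2 ^ t * 2 ^ a + 2 ^ t * 2 ^ b)
          [MOD 2 ^ n - 1] := ((two_pow_rotExp n a t).add (two_pow_rotExp n b t)).mul_left g
      _ = 2 ^ t * (g * (2 ^ a + 2 ^ b)) := by ring
      _ ≡ 2 ^ t * (g * (2 ^ c + 2 ^ e)) [MOD 2 ^ n - 1] := h.mul_left _
      _ = g * (2 ^ t * 2 ^ c + 2 ^ t * 2 ^ e) := by ring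
      _ ≡ _ [MOD 2 ^ n - 1] := (((two_pow_rotExp n c t).add (two_pow_rotExp n e t)).mul_left g).symm
  have hb' : ∀ x y : ℕ, x ≤ n - G → y ≤ n - G →
      2 * g ≤ g * (2 ^ x + 2 ^ y) ∧ g * (2 ^ x + 2 ^ y) ≤ 2 ^ n := by
    intro x y hx hy
    have e1 : 1 ≤ 2 ^ x := Nat.one_le_two_pow
    have e2 : 1 ≤ 2 ^ y := Nat.one_le_two_pow
    have e3 : 2 ^ x ≤ 2 ^ (n - G) := Nat.pow_le_pow_right (by norm_num) hx
    have e4 : 2 ^ y ≤ 2 ^ (n - G) := Nat.pow_le_pow_right (by norm_num) hy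
    have e5 : 2 ^ n = 2 ^ G * 2 ^ (n - G) := by
      rw [← pow_add]; congr 1; omega
    constructor
    · nlinarith
    · rw [e5]; nlinarith
  obtain ⟨e1, e2⟩ := hb' _ _ h1 h2
  obtain ⟨e3, e4⟩ := hb' _ _ h3 h4
  have e5 : 1 ≤ 2 ^ n := Nat.one_le_two_pow
  have h6 := h5.eq_of_abs_lt (by
    rw [abs_lt]
    push_cast [e5]
    zify at e1 e2 e3 e4 hg0
    constructor <;> linarith)
  have h7 := two_pow_add_two_pow_inj (Nat.eq_of_mul_eq_mul_left hg0 h6)
  unfold rotExp at h7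
  split_ifs at h7 <;> omega

theorem two_mul_le_two_pow {n g : ℕ} (hn : 0 < n) (h1 : g ∣ n) (h2 : g ∣ 2 ^ n - 1) :
    2 * g ≤ 2 ^ ((n + 3) / 4) ∨ (n = 6 ∧ g = 3) := by
  by_cases h : n ≤ 20
  · have h3 : g ∣ Nat.gcd n (2 ^ n - 1) := Nat.dvd_gcd h1 h2
    have h4 := Nat.le_of_dvd (Nat.gcd_pos_of_pos_left _ hn) h3
    by_cases h6 : n = 6
    · subst h6
      norm_num at h3 h4 ⊢
      interval_cases g <;> simp_all
    · left
      interval_cases n <;> norm_num at h4 ⊢ <;> omega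
  · left
    have h3 := Nat.le_of_dvd hn h1
    have h4 : ∀ G, 6 ≤ G → 8 * G ≤ 2 ^ G := by
      intro G hG
      induction G, hG using Nat.le_induction with
      | base => norm_num
      | succ k hk ih => rw [pow_succ]; omega
    have h5 := h4 ((n + 3) / 4) (by omega)
    omega

theorem eq_of_modEq_of_dvd {n g s l i : ℕ} (hs : s < n) (hl : l < n) (hi : i < n)
    (h1 : g ∣ n) (h2 : g ∣ 2 ^ n - 1)
    (h : g * (2 ^ s + 2 ^ l) ≡ g * (1 + 2 ^ (i + s)) [MOD 2 ^ n - 1]) : i = l := by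
  have hn : 0 < n := by omega
  have hg0 : 0 < g := Nat.pos_of_dvd_of_pos h1 hn
  rcases two_mul_le_two_pow hn h1 h2 with h3 | ⟨rfl, rfl⟩
  · have h4 : g * (2 ^ s + 2 ^ l) ≡ g * (2 ^ 0 + 2 ^ rotExp n i s) [MOD 2 ^ n - 1] := by
      refine h.trans (Nat.ModEq.mul_left g (Nat.ModEq.add rfl ?_))
      rw [pow_add, mul_comm]
      exact (two_pow_rotExp n i s).symm
    have h5 := pair_eq_of_modEq hs hl hn (by unfold rotExp; split_ifs <;> omega) hg0 h3 h4
    unfold rotExp at h5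
    split_ifs at h5 <;> omega
  · revert h
    interval_cases s <;> interval_cases l <;> interval_cases i <;> decide

end NT

section Lin

variable {F : Type*} [Field F] [Fintype F] {p n : ℕ} [Fact p.Prime] [CharP F p]

theorem linpoly_eq_zero (hF : Fintype.card F = p ^ n) (a : Fin n → F)
    (h : ∀ x, ∑ i, a i * x ^ p ^ (i : ℕ) = 0) : a = 0 := by
  classical
  have hp : p.Prime := Fact.out
  set f : Polynomial F := ∑ i : Fin n, Polynomial.monomial (p ^ (i : ℕ)) (a i) with hf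
  have h1 : f = 0 := by
    refine Polynomial.eq_zero_of_natDegree_lt_card_of_eval_eq_zero' f univ (fun x _ => ?_) ?_
    · rw [hf, Polynomial.eval_finsetSum]
      simpa using h x
    · rw [card_univ, hF]
      refine lt_of_le_of_lt (Polynomial.natDegree_sum_le_of_forall_le _ _ (n := p ^ n - 1)
        fun i _ => (Polynomial.natDegree_monomial_le _).trans ?_) ?_
      · have := Nat.pow_lt_pow_right hp.one_lt i.2
        omega
      · have : 0 < p ^ n := pow_pos hp.pos n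
        omega
  funext i
  have h2 := congrArg (fun g => Polynomial.coeff g (p ^ (i : ℕ))) h1
  simp only [hf, Polynomial.finsetSum_coeff, Polynomial.coeff_monomial,
    Polynomial.coeff_zero] at h2
  rw [sum_eq_single i] at h2
  · simpa using h2
  · intro j _ hj
    rw [if_neg]
    intro h3
    exact hj (Fin.ext (Nat.pow_right_injective hp.two_le h3))
  · simp

theorem linpoly_inj (hF : Fintype.card F = p ^ n) {a b : Fin n → F}
    (h : ∀ x, ∑ i, a i * x ^ p ^ (i : ℕ) = ∑ i, b i * x ^ p ^ (i : ℕ)) : a = b := by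
  have := linpoly_eq_zero hF (a - b) fun x => by
    simp only [Pi.sub_apply, sub_mul, sum_sub_distrib, h x, sub_self]
  exact sub_eq_zero.1 this

theorem exists_linpoly (hF : Fintype.card F = p ^ n) (f : F → F)
    (hf : ∀ x y, f (x + y) = f x + f y) :
    ∃ a : Fin n → F, ∀ x, f x = ∑ i, a i * x ^ p ^ (i : ℕ) := by
  classical
  have hp : p.Prime := Fact.out
  let _ : Algebra (ZMod p) F := ZMod.algebra F p
  set Φ : (Fin n → F) → (F →ₗ[ZMod p] F) := fun a =>
    AddMonoidHom.toZModLinearMap p (AddMonoidHom.mk' (fun x => ∑ i, a i * x ^ p ^ (i : ℕ))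
      (fun x y => by simp only [add_pow_char_pow, mul_add, sum_add_distrib])) with hΦ
  have hinj : Function.Injective Φ := fun a b h =>
    linpoly_inj hF fun x => DFunLike.congr_fun h x
  have hrank : Module.finrank (ZMod p) F = n := by
    have h1 := Module.card_eq_pow_finrank (K := ZMod p) (V := F)
    rw [hF, ZMod.card] at h1
    exact (Nat.pow_right_injective hp.two_le h1).symm
  have : Finite (F →ₗ[ZMod p] F) := Finite.of_injective _ DFunLike.coe_injective
  have hbij := hinj.bijective_of_nat_card_le (by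
    rw [Module.natCard_eq_pow_finrank (K := ZMod p), Module.finrank_linearMap, hrank, Nat.card_zmod,
      Nat.card_fun, Nat.card_eq_fintype_card, hF, Nat.card_eq_fintype_card, Fintype.card_fin,
      pow_mul])
  obtain ⟨a, ha⟩ := hbij.2 (AddMonoidHom.toZModLinearMap p (AddMonoidHom.mk' f hf))
  exact ⟨a, fun x => (DFunLike.congr_fun ha x).symm⟩

theorem pow_char_pow_surjective (j : ℕ) : Function.Surjective fun x : F => x ^ p ^ j := by
  apply Finite.surjective_of_injective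
  exact (iterateFrobenius F p j).injective

end Lin

section Exp

variable {F : Type*} [Field F] [Fintype F] {n : ℕ} [CharP F 2]

theorem card_dvd_of_mul_mem {G : Type*} [Group G] (H : Subgroup G) (S : Set G)
    (h : ∀ s ∈ S, ∀ x ∈ H, s * x ∈ S) : Nat.card H ∣ Nat.card S := by
  have h1 : S = QuotientGroup.mk ⁻¹' ((QuotientGroup.mk : G → G ⧸ H) '' S) := by
    ext g
    constructor
    · exact fun hg => ⟨g, hg, rfl⟩
    · rintro ⟨s, hs, hg⟩
      have h2 := h s hs _ (QuotientGroup.eq.1 hg)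
      rwa [mul_inv_cancel_left] at h2
  rw [h1, Nat.card_congr (QuotientGroup.preimageMkEquivSubgroupProdSet H _), Nat.card_prod]
  exact dvd_mul_right _ _

theorem exp_eq (hF : Fintype.card F = 2 ^ n) {γ : F} (hγ : γ ≠ 0) {s l i : ℕ} (hs : s < n)
    (hl : l < n) (hi : i < n)
    (h : ∀ c : F, c ≠ 0 → ∃ j, γ * c ^ (2 ^ s + 2 ^ l) = c ^ (1 + 2 ^ (i + s)) * γ ^ 2 ^ j) :
    i = l := by
  classical
  have : Fact (Nat.Prime 2) := ⟨Nat.prime_two⟩
  let _ : Algebra (ZMod 2) F := ZMod.algebra F 2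
  set χ : Fˣ →* Fˣ := powMonoidHom (2 ^ s + 2 ^ l) / powMonoidHom (1 + 2 ^ (i + s)) with hχ
  have hχa : ∀ c : Fˣ, χ c = c ^ (2 ^ s + 2 ^ l) / c ^ (1 + 2 ^ (i + s)) := fun _ => rfl
  have hrank : Module.finrank (ZMod 2) F = n := by
    have h1 := Module.card_eq_pow_finrank (K := ZMod 2) (V := F)
    rw [hF, ZMod.card] at h1
    exact (Nat.pow_right_injective le_rfl h1).symm
  have hfr : ∀ (j : ℕ) (x : F),
      (FiniteField.frobeniusAlgEquivOfAlgebraic (ZMod 2) F ^ j) x = x ^ 2 ^ j := by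
    intro j x
    rw [AlgEquiv.coe_pow, FiniteField.coe_frobeniusAlgEquivOfAlgebraic_iterate, ZMod.card]
  set O : Set Fˣ := {u | (u : F) ∈ MulAction.orbit Gal(F/ZMod 2) γ} with hO
  have hO1 : Nat.card O = Nat.card (MulAction.orbit Gal(F/ZMod 2) γ) := by
    refine Nat.card_congr (Equiv.ofBijective (fun u => ⟨u.1.1, u.2⟩) ⟨fun u v huv => ?_, ?_⟩)
    · exact Subtype.ext (Units.ext (congrArg Subtype.val huv))
    · rintro ⟨_, σ, rfl⟩
      exact ⟨⟨Units.mk0 (σ γ) ((map_ne_zero σ).2 hγ), σ, rfl⟩, rfl⟩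
  have hO2 : Nat.card O ∣ n := by
    rw [hO1, ← hrank, ← IsGalois.card_aut_eq_finrank, Nat.card_coe_set_eq,
      ← MulAction.index_stabilizer]
    exact Subgroup.index_dvd_card _
  have hH : Nat.card χ.range ∣ Nat.card O := by
    refine card_dvd_of_mul_mem _ _ ?_
    rintro u ⟨σ, hσ⟩ _ ⟨c, rfl⟩
    simp only [AlgEquiv.smul_def] at hσ
    obtain ⟨j, hj⟩ := h (σ.symm c) ((map_ne_zero σ.symm).2 c.ne_zero)
    refine ⟨σ * FiniteField.frobeniusAlgEquivOfAlgebraic (ZMod 2) F ^ j, ?_⟩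
    have h1 := congrArg σ hj
    simp only [map_mul, map_pow, AlgEquiv.apply_symm_apply] at h1
    simp only [AlgEquiv.smul_def, AlgEquiv.mul_apply, hfr, map_pow, hχa, Units.val_mul,
      Units.val_div_eq_div_val, Units.val_pow_eq_pow_val, ← hσ]
    rw [← mul_div_assoc, h1, mul_div_cancel_left₀ _ (pow_ne_zero _ c.ne_zero)]
  have hU : Nat.card Fˣ = 2 ^ n - 1 := by
    rw [Nat.card_units, Nat.card_eq_fintype_card, hF]
  refine eq_of_modEq_of_dvd hs hl hi (hH.trans hO2) (hU ▸ Subgroup.card_subgroup_dvd_card _) ?_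
  obtain ⟨c, hc⟩ := IsCyclic.exists_ofOrder_eq_natCard (α := Fˣ)
  rw [← hU, ← hc, ← pow_eq_pow_iff_modEq]
  have h1 : χ c ^ Nat.card χ.range = 1 :=
    congrArg Subtype.val (pow_card_eq_one' (x := (⟨χ c, c, rfl⟩ : χ.range)))
  rw [hχa, div_pow, div_eq_one, ← pow_mul, ← pow_mul] at h1
  rw [mul_comm, h1, mul_comm]

/-- The key lemma: an irreducible equivariant family of additive maps, large enough, consists of
injective maps. -/
theorem div_core {P Y : Type*} [Group P] [Finite P] (φ : Y → P → P) {C A : Subgroup P}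
    (hAC : A ≤ C) (hC : ∀ y, ∀ u ∈ C, φ y u ∈ C)
    (hirr : ∀ K : Subgroup P, A ≤ K → K ≤ C → (∀ y, ∀ u ∈ K, φ y u ∈ K) → K = A ∨ K = C)
    (hcard : Nat.card F * Nat.card A ≤ Nat.card C) (T : P → F → F)
    (hT1 : ∀ u ∈ C, ∀ w ∈ C, ∀ a, T (u * w) a = T u a + T w a)
    (hT2 : ∀ u ∈ C, ∀ a b, T u (a + b) = T u a + T u b) (hTA : ∀ u ∈ A, ∀ a, T u a = 0)
    (c : Y → F) (j : Y → ℕ) (hc0 : ∀ y, c y ≠ 0) (htr : ∀ x : F, x ≠ 0 → ∃ y, c y = x)
    (heq : ∀ y, ∀ u ∈ C, ∀ a, T (φ y u) (c y * a ^ 2 ^ j y) = c y * T u a ^ 2 ^ j y) :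
    (∀ u ∈ C, ∀ a, T u a = 0) ∨ ∀ u ∈ C, u ∉ A → ∀ a, T u a = 0 → a = 0 := by
  classical
  have : Fact (Nat.Prime 2) := ⟨Nat.prime_two⟩
  obtain ⟨⟨n, hn⟩, -, hF⟩ := FiniteField.card F 2
  simp only [PNat.mk_coe] at hF
  have hex : ∀ u : P, ∃ a : Fin n → F, u ∈ C → ∀ x, T u x = ∑ i, a i * x ^ 2 ^ (i : ℕ) := by
    intro u
    by_cases hu : u ∈ C
    · obtain ⟨a, ha⟩ := exists_linpoly hF (T u) (hT2 u hu)
      exact ⟨a, fun _ => ha⟩
    · exact ⟨0, fun h => absurd h hu⟩
  choose π hπ using hex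
  have hπ1 : ∀ u ∈ C, ∀ w ∈ C, π (u * w) = π u + π w := by
    intro u hu w hw
    refine linpoly_inj hF fun x => ?_
    rw [← hπ _ (mul_mem hu hw), hT1 u hu w hw, hπ u hu, hπ w hw]
    simp only [Pi.add_apply, add_mul, sum_add_distrib]
  have hπA : ∀ u ∈ A, π u = 0 := fun u hu =>
    linpoly_eq_zero hF _ fun x => by rw [← hπ u (hAC hu), hTA u hu]
  have hπe : ∀ y, ∀ u ∈ C, ∀ i : Fin n,
      π (φ y u) i * c y ^ 2 ^ (i : ℕ) = c y * π u i ^ 2 ^ j y := by
    intro y u hu i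
    refine congrFun (linpoly_inj hF (a := fun i => π (φ y u) i * c y ^ 2 ^ (i : ℕ))
      (b := fun i => c y * π u i ^ 2 ^ j y) fun x => ?_) i
    obtain ⟨a, rfl⟩ := pow_char_pow_surjective (p := 2) (j y) x
    have h1 := heq y u hu a
    rw [hπ _ (hC y u hu), hπ u hu, sum_pow_char_pow, mul_sum] at h1
    simp only [mul_pow] at h1
    simp only [mul_assoc]
    rw [h1]
    refine sum_congr rfl fun i _ => ?_
    rw [← pow_mul, ← pow_mul, mul_comm (2 ^ (i : ℕ))]
  set f : Fin n → (C →* Multiplicative F) := fun i => MonoidHom.mk'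
    (fun u => Multiplicative.ofAdd (π u i)) (fun u w => by
      rw [← ofAdd_add, Subgroup.coe_mul, hπ1 u u.2 w w.2, Pi.add_apply]) with hf
  have hK : ∀ i, (∀ u ∈ C, π u i = 0 → u ∈ A) ∨ ∀ u ∈ C, π u i = 0 := by
    intro i
    have hmem : ∀ u, u ∈ (f i).ker.map C.subtype ↔ u ∈ C ∧ π u i = 0 := by
      intro u
      constructor
      · rintro ⟨w, hw, rfl⟩
        exact ⟨w.2, hw⟩
      · rintro ⟨h1, h2⟩
        exact ⟨⟨u, h1⟩, h2, rfl⟩
    rcases hirr ((f i).ker.map C.subtype) (fun u hu => (hmem u).2 ⟨hAC hu, by rw [hπA u hu]; rfl⟩)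
      (Subgroup.map_subtype_le _) (fun y u hu => by
        obtain ⟨h1, h2⟩ := (hmem u).1 hu
        refine (hmem _).2 ⟨hC y u h1, ?_⟩
        have h3 := hπe y u h1 i
        rw [h2, zero_pow (by positivity), mul_zero] at h3
        exact (mul_eq_zero.1 h3).resolve_right (pow_ne_zero _ (hc0 y))) with h | h
    · exact Or.inl fun u h1 h2 => h ▸ (hmem u).2 ⟨h1, h2⟩
    · exact Or.inr fun u h1 => ((hmem u).1 (by rw [h]; exact h1)).2
  by_cases hall : ∀ i, ∀ u ∈ C, π u i = 0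
  · left
    intro u hu a
    rw [hπ u hu]
    exact sum_eq_zero fun i _ => by rw [hall i u hu, zero_mul]
  right
  push Not at hall
  obtain ⟨i, u₀, hu₀, hu₀i⟩ := hall
  have hi : ∀ u ∈ C, π u i = 0 → u ∈ A := (hK i).resolve_right fun h => hu₀i (h u₀ hu₀)
  have hsurj : ∀ x : F, ∃ u ∈ C, π u i = x := by
    have h1 : (f i).ker = A.subgroupOf C := by
      ext u
      exact ⟨fun h => hi u u.2 h, fun h => by
        change π u i = 0
        rw [hπA u h]; rfl⟩
    have h2 : Nat.card (f i).ker = Nat.card A := by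
      rw [h1]; exact Nat.card_congr (Subgroup.subgroupOfEquivOfLe hAC).toEquiv
    have h3 := (f i).ker.card_mul_index
    rw [Subgroup.index_ker, h2] at h3
    have h4 : (f i).range = ⊤ := by
      apply Subgroup.eq_top_of_le_card
      have h5 : 0 < Nat.card A := Nat.card_pos
      have h6 : Nat.card (Multiplicative F) = Nat.card F := rfl
      rw [h6]
      rw [← h3, mul_comm] at hcard
      exact Nat.le_of_mul_le_mul_left hcard h5
    intro x
    obtain ⟨u, hu⟩ : Multiplicative.ofAdd x ∈ (f i).range := h4 ▸ Subgroup.mem_top _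
    exact ⟨u, u.2, hu⟩
  have hl : ∀ l, l ≠ i → ∀ u ∈ C, π u l = 0 := by
    intro l hli
    refine (hK l).resolve_left fun hl => hli ?_
    choose g hg1 hg2 using hsurj
    have hψ : ∀ u ∈ C, π (g (π u i)) l = π u l := by
      intro u hu
      have h1 : π (g (π u i) * u) i = 0 := by
        rw [hπ1 _ (hg1 _) u hu, Pi.add_apply, hg2, CharTwo.add_self_eq_zero]
      have h2 := congrFun (hπA _ (hi _ (mul_mem (hg1 _) hu) h1)) l
      rw [hπ1 _ (hg1 _) u hu, Pi.add_apply, Pi.zero_apply] at h2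
      rwa [CharTwo.add_eq_zero] at h2
    obtain ⟨γ, hγ⟩ := exists_linpoly hF (fun x => π (g x) l) fun x z => by
      have h1 := hψ _ (mul_mem (hg1 x) (hg1 z))
      rwa [hπ1 _ (hg1 x) _ (hg1 z), Pi.add_apply, Pi.add_apply, hg2, hg2] at h1
    have hγ' : ∀ u ∈ C, π u l = ∑ s, γ s * π u i ^ 2 ^ (s : ℕ) := fun u hu => by
      rw [← hγ, hψ u hu]
    obtain ⟨s, hs⟩ : ∃ s, γ s ≠ 0 := by
      by_contra hcon
      push Not at hcon
      apply hu₀i
      rw [hπA u₀ (hl u₀ hu₀ ?_)]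
      · rfl
      · rw [hγ' u₀ hu₀]
        exact sum_eq_zero fun s _ => by rw [hcon s, zero_mul]
    refine Fin.ext (exp_eq hF hs s.2 l.2 i.2 fun x hx => ?_).symm
    obtain ⟨y, rfl⟩ := htr x hx
    refine ⟨j y, ?_⟩
    have h1 : (fun s : Fin n => γ s * (c y / c y ^ 2 ^ (i : ℕ)) ^ 2 ^ (s : ℕ) * c y ^ 2 ^ (l : ℕ)) =
        fun s : Fin n => c y * γ s ^ 2 ^ j y := by
      refine linpoly_inj hF fun x => ?_
      obtain ⟨a, rfl⟩ := pow_char_pow_surjective (p := 2) (j y) x
      have h2 := hπe y _ (hg1 a) l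
      have h3 := hπe y _ (hg1 a) i
      rw [hg2, ← eq_div_iff (pow_ne_zero _ hx)] at h3
      rw [hγ' _ (hC y _ (hg1 a)), h3, hγ' _ (hg1 a), hg2, sum_pow_char_pow, mul_sum, sum_mul] at h2
      convert h2 using 2 with s _ s _
      · rw [mul_div_right_comm, mul_pow]; ring
      · rw [mul_pow, ← pow_mul, ← pow_mul, mul_comm (2 ^ (s : ℕ))]; ring
    have h2 := congrFun h1 s
    simp only [div_pow] at h2
    rw [← pow_mul, ← pow_add] at h2
    have h3 : c y ^ 2 ^ ((i : ℕ) + s) ≠ 0 := pow_ne_zero _ hx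
    field_simp at h2
    rw [pow_add, pow_add, pow_one]
    linear_combination h2
  intro u hu huA a ha
  rw [hπ u hu, sum_eq_single i (fun l _ h => by rw [hl l h u hu, zero_mul]) (by simp)] at ha
  exact pow_eq_zero_iff (by positivity) |>.1
    ((mul_eq_zero.1 ha).resolve_left fun h => huA (hi u hu h))

end Exp

end CfsgLib.Suz
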