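import Mathlib
import Cfsg.Agent.Lib.Suz.Huppert
import Cfsg.Agent.Lib.Suz.LinPoly
import Cfsg.Agent.Lib.CommCalc

/-! Higman's theorem on Suzuki 2-groups, part (a): a non-abelian 2-group with more than one
involution and a solvable group of odd order acting transitively on the involutions is special
with centre `Ω₁`. -/

set_option autoImplicit false
set_option linter.unusedSectionVars false

namespace CfsgLib.Suz

open Subgroup Cfsg CfsgLib.CopAut CfsgLib.CommCalc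
open scoped commutatorElement IsMulCommutative

/-- Central elements of order at most two. -/
def omZ (G : Type*) [Group G] : Subgroup G where
  carrier := {x | x ∈ center G ∧ x ^ 2 = 1}
  mul_mem' := fun {x y} hx hy => ⟨mul_mem hx.1 hy.1, by
    rw [(show Commute x y from mem_center_iff.1 hy.1 x).mul_pow, hx.2, hy.2, one_mul]⟩
  one_mem' := ⟨one_mem _, one_pow _⟩
  inv_mem' := fun {x} hx => ⟨inv_mem hx.1, by rw [inv_pow, hx.2, inv_one]⟩

theorem mem_omZ_iff {G : Type*} [Group G] {x : G} : x ∈ omZ G ↔ x ∈ center G ∧ x ^ 2 = 1 := Iff.rfl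

theorem omZ_normal (G : Type*) [Group G] : (omZ G).Normal :=
  ⟨fun x hx g => by rwa [mem_center_iff.1 hx.1 g, mul_inv_cancel_right]⟩

/-- The preimage of `omZ (G ⧸ A)`. -/
def covZ {G : Type*} [Group G] (A : Subgroup G) [A.Normal] : Subgroup G :=
  (omZ (G ⧸ A)).comap (QuotientGroup.mk' A)

theorem mem_covZ {G : Type*} [Group G] {A : Subgroup G} [A.Normal] {x : G} :
    x ∈ covZ A ↔ (∀ g, ⁅x, g⁆ ∈ A) ∧ x ^ 2 ∈ A := by
  rw [covZ, mem_comap, mem_omZ_iff, ← map_pow, mem_center_iff]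
  refine and_congr ⟨fun h g => ?_, fun h g => ?_⟩ (QuotientGroup.eq_one_iff _)
  · rw [← QuotientGroup.eq_one_iff]
    change QuotientGroup.mk' A ⁅x, g⁆ = 1
    rw [map_commutatorElement, commutatorElement_eq_one_iff_mul_comm]
    exact (h _).symm
  · obtain ⟨g, rfl⟩ := QuotientGroup.mk'_surjective A g
    have h1 := h g
    rw [← QuotientGroup.eq_one_iff] at h1
    change QuotientGroup.mk' A ⁅x, g⁆ = 1 at h1
    rw [map_commutatorElement, commutatorElement_eq_one_iff_mul_comm] at h1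
    exact h1.symm

theorem normal_of_le_covZ {G : Type*} [Group G] {A K : Subgroup G} [A.Normal] (h1 : A ≤ K)
    (h2 : K ≤ covZ A) : K.Normal := by
  refine ⟨fun x hx g => ?_⟩
  have h3 : g * x * g⁻¹ = ⁅x, g⁆⁻¹ * x := by
    rw [commutatorElement_inv, commutatorElement_def]; group
  rw [h3]
  exact mul_mem (inv_mem (h1 ((mem_covZ.1 (h2 hx)).1 g))) hx

/-- The `k`-th powers of a commutative subgroup. -/
def pwSub {G : Type*} [Group G] (A : Subgroup G) (k : ℕ) : Subgroup G :=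
  closure {x | ∃ a ∈ A, a ^ k = x}

theorem mem_pwSub {G : Type*} [Group G] {A : Subgroup G} (hA : ∀ a ∈ A, ∀ b ∈ A, a * b = b * a)
    {k : ℕ} {x : G} : x ∈ pwSub A k ↔ ∃ a ∈ A, a ^ k = x := by
  refine ⟨fun h => ?_, fun h => subset_closure h⟩
  induction h using closure_induction with
  | mem x hx => exact hx
  | one => exact ⟨1, one_mem _, one_pow _⟩
  | mul x y _ _ hx hy =>
    obtain ⟨a, ha, rfl⟩ := hx
    obtain ⟨b, hb, rfl⟩ := hy
    exact ⟨a * b, mul_mem ha hb, (show Commute a b from hA a ha b hb).mul_pow k⟩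
  | inv x _ hx =>
    obtain ⟨a, ha, rfl⟩ := hx
    exact ⟨a⁻¹, inv_mem ha, inv_pow a k⟩

theorem pwSub_le {G : Type*} [Group G] (A : Subgroup G) (k : ℕ) : pwSub A k ≤ A := by
  rw [pwSub, closure_le]
  rintro _ ⟨a, ha, rfl⟩
  exact pow_mem ha k

variable {P Y : Type*} [Group P] [Finite P] [Group Y] [Finite Y] {φ : Y →* MulAut P}

theorem inv_closure {S : Set P} (h : ∀ y, ∀ x ∈ S, φ y x ∈ S) : CopAut.Inv φ (closure S) := by
  intro y x hx
  induction hx using closure_induction with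
  | mem x hx => exact subset_closure (h y x hx)
  | one => rw [map_one]; exact one_mem _
  | mul a b _ _ ha hb => rw [map_mul]; exact mul_mem ha hb
  | inv a _ ha => rw [map_inv]; exact inv_mem ha

theorem inv_pwSub {A : Subgroup P} (hA : CopAut.Inv φ A) (k : ℕ) : CopAut.Inv φ (pwSub A k) :=
  inv_closure fun y _ ⟨a, ha, h⟩ => ⟨φ y a, hA y a ha, by rw [← map_pow, h]⟩

theorem inv_sup' {A B : Subgroup P} (hA : CopAut.Inv φ A) (hB : CopAut.Inv φ B) :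
    CopAut.Inv φ (A ⊔ B) := by
  rw [sup_eq_closure]
  exact inv_closure fun y x hx => hx.imp (hA y x) (hB y x)

theorem inv_inf' {A B : Subgroup P} (hA : CopAut.Inv φ A) (hB : CopAut.Inv φ B) :
    CopAut.Inv φ (A ⊓ B) := fun y x hx => ⟨hA y x hx.1, hB y x hx.2⟩

theorem act_mul' (φ : Y →* MulAut P) (g h : Y) (v : P) : φ (g * h) v = φ g (φ h v) := by
  rw [map_mul]; rfl

theorem act_inv_act' (φ : Y →* MulAut P) (g : Y) (v : P) : φ g⁻¹ (φ g v) = v := by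
  rw [← act_mul', inv_mul_cancel, map_one]; rfl

theorem act_act_inv' (φ : Y →* MulAut P) (g : Y) (v : P) : φ g (φ g⁻¹ v) = v := by
  rw [← act_mul', mul_inv_cancel, map_one]; rfl

theorem Inv.mem_iff' {A : Subgroup P} (hA : CopAut.Inv φ A) (y : Y) {x : P} :
    φ y x ∈ A ↔ x ∈ A := ⟨fun h => act_inv_act' φ y x ▸ hA y⁻¹ _ h, hA y x⟩

theorem inv_covZ {A : Subgroup P} [A.Normal] (hA : CopAut.Inv φ A) : CopAut.Inv φ (covZ A) := by
  intro y x hx
  rw [mem_covZ] at hx ⊢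
  refine ⟨fun g => ?_, by rw [← map_pow]; exact hA y _ hx.2⟩
  rw [← act_act_inv' φ y g, ← map_commutatorElement]
  exact hA y _ (hx.1 _)

theorem inv_centralizer' {A : Subgroup P} (hA : CopAut.Inv φ A) :
    CopAut.Inv φ (centralizer (A : Set P)) := by
  intro y x hx a ha
  rw [← act_act_inv' φ y a, ← map_mul, ← map_mul, hx _ (hA y⁻¹ a ha)]

/-- Restriction of the action to an invariant subgroup. -/
def restrInv {A : Subgroup P} (hA : CopAut.Inv φ A) : Y →* MulAut A where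
  toFun y :=
    { toFun := fun a => ⟨φ y a, hA y a a.2⟩
      invFun := fun a => ⟨φ y⁻¹ a, hA y⁻¹ a a.2⟩
      left_inv := fun a => Subtype.ext (act_inv_act' φ y a)
      right_inv := fun a => Subtype.ext (act_act_inv' φ y a)
      map_mul' := fun a b => Subtype.ext (map_mul (φ y) a.1 b.1) }
  map_one' := by
    ext a
    change φ 1 a = a
    rw [map_one]; rfl
  map_mul' y z := by
    ext a
    exact act_mul' φ y z a

theorem restrInv_apply {A : Subgroup P} (hA : CopAut.Inv φ A) (y : Y) (a : A) :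
    (restrInv hA y a : P) = φ y a := rfl

/-- A minimal invariant extension of `A`, central and elementary modulo `A`. -/
structure InvCover (φ : Y →* MulAut P) (A C : Subgroup P) [A.Normal] : Prop where
  lt : A < C
  le : C ≤ covZ A
  inv : CopAut.Inv φ C
  irr : ∀ K : Subgroup P, A ≤ K → K ≤ C → CopAut.Inv φ K → K = A ∨ K = C

theorem exists_invCover (hP : IsPGroup 2 P) {A N : Subgroup P} [A.Normal] [N.Normal]
    (hA : CopAut.Inv φ A) (hN : CopAut.Inv φ N) (h : A < N) : ∃ C ≤ N, InvCover φ A C := by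
  have : Fact (Nat.Prime 2) := ⟨Nat.prime_two⟩
  obtain ⟨x, hxN, hxA, hx2, hx⟩ := PGrp.exists_central_mod_pow_mem hP A N (not_le_of_gt h)
  have hA' : A ≤ covZ A := fun a ha => mem_covZ.2 ⟨fun g => by
    rw [commutatorElement_def, mul_assoc, mul_assoc, ← mul_assoc g]
    exact mul_mem ha (‹A.Normal›.conj_mem _ (inv_mem ha) g), pow_mem ha 2⟩
  obtain ⟨C, hC, hmin⟩ := exists_minimal_of_wellFoundedLT
    (fun K : Subgroup P => A < K ∧ K ≤ N ⊓ covZ A ∧ CopAut.Inv φ K)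
    ⟨N ⊓ covZ A, lt_of_le_of_ne (le_inf h.le hA') (fun h' => hxA (h' ▸ ⟨hxN, mem_covZ.2 ⟨hx, hx2⟩⟩)),
      le_rfl, inv_inf' hN (inv_covZ hA)⟩
  refine ⟨C, hC.2.1.trans inf_le_left, hC.1, hC.2.1.trans inf_le_right, hC.2.2,
    fun K h1 h2 h3 => ?_⟩
  rcases h1.eq_or_lt with h4 | h4
  · exact Or.inl h4.symm
  · exact Or.inr (le_antisymm h2 (hmin ⟨h4, h2.trans hC.2.1, h3⟩ h2))

/-- The hypotheses on a Suzuki 2-group (commutativity allowed). -/
structure HigSetup (φ : Y →* MulAut P) : Prop where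
  p2 : IsPGroup 2 P
  odd : Odd (Nat.card Y)
  sol : Group.IsSolvable Y
  tr : ∀ x y : P, x ≠ 1 → x ^ 2 = 1 → y ≠ 1 → y ^ 2 = 1 → ∃ a, φ a x = y
  two : ∃ x y : P, x ≠ y ∧ x ≠ 1 ∧ x ^ 2 = 1 ∧ y ≠ 1 ∧ y ^ 2 = 1

theorem exists_invol_of_isPGroup (hP : IsPGroup 2 P) {x : P} (hx : x ≠ 1) :
    x ^ (orderOf x / 2) ≠ 1 ∧ (x ^ (orderOf x / 2)) ^ 2 = 1 := by
  have : Fact (Nat.Prime 2) := ⟨Nat.prime_two⟩
  obtain ⟨k, hk⟩ := IsPGroup.iff_orderOf.1 hP x
  have hk0 : k ≠ 0 := by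
    rintro rfl
    exact hx (orderOf_eq_one_iff.1 hk)
  obtain ⟨k, rfl⟩ := Nat.exists_eq_succ_of_ne_zero hk0
  have h1 : orderOf x / 2 = 2 ^ k := by rw [hk, pow_succ]; omega
  constructor
  · refine pow_ne_one_of_lt_orderOf ?_ ?_
    · rw [h1]; positivity
    · rw [h1, hk]; exact Nat.pow_lt_pow_right (by norm_num) (Nat.lt_succ_self k)
  · rw [← pow_mul, h1, ← pow_succ, ← hk, pow_orderOf_eq_one]

namespace HigSetup

variable (h : HigSetup φ)
include h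

theorem mem_omZ {x : P} : x ∈ omZ P ↔ x ^ 2 = 1 := by
  refine ⟨fun hx => hx.2, fun hx => ⟨?_, hx⟩⟩
  by_cases hx1 : x = 1
  · rw [hx1]; exact one_mem _
  have : Fact (Nat.Prime 2) := ⟨Nat.prime_two⟩
  have := h.p2.isNilpotent
  obtain ⟨z, -, hz1, hz⟩ := PGrp.exists_ne_one_mem_center_of_normal (⊤ : Subgroup P) (by
    intro h'
    have : x ∈ (⊤ : Subgroup P) := mem_top x
    rw [h', mem_bot] at this
    exact hx1 this)
  obtain ⟨h1, h2⟩ := exists_invol_of_isPGroup h.p2 hz1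
  obtain ⟨a, ha⟩ := h.tr _ _ h1 h2 hx1 hx
  rw [← ha]
  exact inv_of_characteristic (φ := φ) (center P) a _ (pow_mem hz _)

theorem comm_of_sq {x : P} (hx : x ^ 2 = 1) (g : P) : g * x = x * g :=
  mem_center_iff.1 (h.mem_omZ.2 hx).1 g

theorem conj_of_sq {x : P} (hx : x ^ 2 = 1) (g : P) : g * x * g⁻¹ = x := by
  rw [h.comm_of_sq hx, mul_inv_cancel_right]

theorem inv_omZ : CopAut.Inv φ (omZ P) := fun y x hx => by
  rw [h.mem_omZ] at hx ⊢
  rw [← map_pow, hx, map_one]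

theorem omZ_le {H : Subgroup P} (hH : CopAut.Inv φ H) (hH1 : H ≠ ⊥) : omZ P ≤ H := by
  obtain ⟨⟨x, hx⟩, hx1⟩ := (Subgroup.ne_bot_iff_exists_ne_one).1 hH1
  have hx1' : x ≠ 1 := fun h => hx1 (Subtype.ext h)
  obtain ⟨h1, h2⟩ := exists_invol_of_isPGroup h.p2 hx1'
  intro z hz
  by_cases hz1 : z = 1
  · rw [hz1]; exact one_mem _
  obtain ⟨a, ha⟩ := h.tr _ _ h1 h2 hz1 hz.2
  rw [← ha]
  exact hH a _ (pow_mem hx _)

theorem mem_of_sq {H : Subgroup P} (hH : CopAut.Inv φ H) (hH1 : H ≠ ⊥) {x : P} (hx : x ^ 2 = 1) :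
    x ∈ H := h.omZ_le hH hH1 (h.mem_omZ.2 hx)

theorem two_lt_card_omZ : 2 < Nat.card (omZ P) := by
  classical
  obtain ⟨x, y, hxy, hx1, hx, hy1, hy⟩ := h.two
  have := Fintype.ofFinite (omZ P)
  rw [Nat.card_eq_fintype_card, Fintype.two_lt_card_iff]
  exact ⟨⟨x, h.mem_omZ.2 hx⟩, ⟨y, h.mem_omZ.2 hy⟩, 1, fun h' => hxy (congrArg Subtype.val h'),
    fun h' => hx1 (congrArg Subtype.val h'), fun h' => hy1 (congrArg Subtype.val h')⟩

theorem omZ_ne_bot : omZ P ≠ ⊥ := by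
  intro h'
  have := h.two_lt_card_omZ
  rw [h', card_bot] at this
  omega

theorem card_dvd {X : Set P} (hX : ∀ y, ∀ x ∈ X, φ y x ∈ X) (h1 : (1 : P) ∉ X) :
    Nat.card (omZ P) - 1 ∣ X.ncard := by
  classical
  have := Fintype.ofFinite P
  set ι : P → P := fun x => x ^ (orderOf x / 2) with hι
  have hιe : ∀ y x, ι (φ y x) = φ y (ι x) := fun y x => by
    simp only [hι, map_pow, MulEquiv.orderOf_eq]
  set I : Finset P := Finset.univ.filter fun z => z ≠ 1 ∧ z ^ 2 = 1 with hI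
  have hIc : I.card = Nat.card (omZ P) - 1 := by
    have h2 : I = (Finset.univ.filter fun z => z ∈ omZ P).erase 1 := by
      ext z
      simp only [hI, Finset.mem_filter, Finset.mem_univ, true_and, Finset.mem_erase, h.mem_omZ]
    rw [h2, Finset.card_erase_of_mem (by simp [one_mem]), Nat.card_eq_fintype_card,
      Fintype.card_subtype]
  obtain ⟨x₀, -, -, hx₀1, hx₀, -⟩ := h.two
  rw [Set.ncard_eq_toFinset_card', Finset.card_eq_sum_card_fiberwise (f := ι) (t := I) (by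
    intro x hx
    have hx1 : x ≠ 1 := fun h' => h1 (h' ▸ by simpa using hx)
    simpa [hI] using exists_invol_of_isPGroup h.p2 hx1), ← hIc]
  have key : ∀ z ∈ I, (X.toFinset.filter fun x => ι x = z).card =
      (X.toFinset.filter fun x => ι x = x₀).card := by
    intro z hz
    simp only [hI, Finset.mem_filter, Finset.mem_univ, true_and] at hz
    obtain ⟨a, ha⟩ := h.tr _ _ hz.1 hz.2 hx₀1 hx₀
    refine Finset.card_bij' (fun x _ => φ a x) (fun x _ => φ a⁻¹ x) ?_ ?_ ?_ ?_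
    · intro x hx
      simp only [Finset.mem_filter, Set.mem_toFinset] at hx ⊢
      exact ⟨hX a x hx.1, by rw [hιe, hx.2, ha]⟩
    · intro x hx
      simp only [Finset.mem_filter, Set.mem_toFinset] at hx ⊢
      exact ⟨hX a⁻¹ x hx.1, by rw [hιe, hx.2, ← ha, act_inv_act']⟩
    · exact fun x _ => act_inv_act' φ a x
    · exact fun x _ => act_act_inv' φ a x
  rw [Finset.sum_congr rfl key, Finset.sum_const, smul_eq_mul]
  exact dvd_mul_right _ _

theorem card_subgroup_pow (A : Subgroup P) : ∃ k, Nat.card A = 2 ^ k :=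
  have : Fact (Nat.Prime 2) := ⟨Nat.prime_two⟩
  IsPGroup.iff_card.1 (h.p2.to_subgroup A)

theorem card_sub_one_dvd {A C : Subgroup P} (hA : CopAut.Inv φ A) (hC : CopAut.Inv φ C)
    (hAC : A ≤ C) : Nat.card (omZ P) - 1 ∣ A.relIndex C - 1 := by
  have h1 := h.card_dvd (X := (C : Set P) \ A)
    (fun y x hx => ⟨hC y x hx.1, fun h' => hx.2 ((Inv.mem_iff' hA y).1 h')⟩)
    (fun h' => h'.2 (one_mem _))
  rw [Set.ncard_sdiff (by exact hAC), ← Nat.card_coe_set_eq, ← Nat.card_coe_set_eq] at h1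
  have h2 : Nat.card A * A.relIndex C = Nat.card C := by
    rw [← Nat.card_congr (subgroupOfEquivOfLe hAC).toEquiv]
    exact (A.subgroupOf C).card_mul_index
  change _ ∣ Nat.card C - Nat.card A at h1
  rw [← h2, ← Nat.mul_sub_one] at h1
  refine Nat.Coprime.dvd_of_dvd_mul_left ?_ h1
  obtain ⟨k, hk⟩ := h.card_subgroup_pow A
  obtain ⟨n, hn⟩ := h.card_subgroup_pow (omZ P)
  have h3 := h.two_lt_card_omZ
  rw [hk, hn]
  rw [hn] at h3
  refine Nat.Coprime.pow_right _ (Nat.Coprime.symm (Nat.coprime_two_left.2 ?_))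
  have hn0 : n ≠ 0 := by rintro rfl; omega
  exact Nat.Even.sub_odd (by omega) (Nat.even_pow.2 ⟨even_two, hn0⟩) odd_one

theorem card_mul_le {A C : Subgroup P} (hA : CopAut.Inv φ A) (hC : CopAut.Inv φ C)
    (hAC : A < C) : Nat.card (omZ P) * Nat.card A ≤ Nat.card C := by
  have h1 := h.card_sub_one_dvd hA hC hAC.le
  have h2 : Nat.card A * A.relIndex C = Nat.card C := by
    rw [← Nat.card_congr (subgroupOfEquivOfLe hAC.le).toEquiv]
    exact (A.subgroupOf C).card_mul_index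
  have h3 : A.relIndex C ≠ 1 := fun h' => hAC.not_ge (relIndex_eq_one.1 h')
  have h4 : A.relIndex C ≠ 0 := index_ne_zero_of_finite
  have h5 := Nat.le_of_dvd (by omega) h1
  rw [← h2, mul_comm]
  exact Nat.mul_le_mul_left _ (by omega)

/-- An invariant extension has index greater than two. -/
theorem exists_mul_not_mem {A C : Subgroup P} (hA : CopAut.Inv φ A) (hC : CopAut.Inv φ C)
    (hAC : A < C) : ∃ u ∈ C, ∃ w ∈ C, u ∉ A ∧ w ∉ A ∧ u * w ∉ A := by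
  by_contra hcon
  push Not at hcon
  obtain ⟨u, huC, huA⟩ := SetLike.exists_of_lt hAC
  have h1 : A.relIndex C = 2 := by
    refine relIndex_eq_two_iff.2 ⟨u, huC, fun b hb => ?_⟩
    by_cases hbA : b ∈ A
    · exact Or.inr ⟨hbA, fun h' => huA ((mul_mem_cancel_left hbA).1 h')⟩
    · exact Or.inl ⟨hcon b hb u huC hbA huA, hbA⟩
  have h2 := h.card_sub_one_dvd hA hC hAC.le
  have h3 := h.two_lt_card_omZ
  rw [h1] at h2
  have := Nat.le_of_dvd (by norm_num) h2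
  omega

theorem exists_field : ∃ (F : Type) (_ : Field F) (_ : Fintype F) (_ : CharP F 2) (e : P → F),
    Set.BijOn e (omZ P) Set.univ ∧ (∀ v ∈ omZ P, ∀ w ∈ omZ P, e (v * w) = e v + e w) ∧
    (∀ y, ∃ (c : F) (j : ℕ), c ≠ 0 ∧ ∀ v ∈ omZ P, e (φ y v) = c * e v ^ 2 ^ j) := by
  classical
  have : Fact (Nat.Prime 2) := ⟨Nat.prime_two⟩
  have : IsMulCommutative (omZ P) :=
    ⟨⟨fun a b => Subtype.ext (mem_center_iff.1 b.2.1 a)⟩⟩
  have : Nontrivial (omZ P) := (nontrivial_iff_ne_bot _).2 h.omZ_ne_bot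
  obtain ⟨F, i1, i2, i3, e, h1, h2, h3⟩ := huppert_field (r := 2) (φ := restrInv h.inv_omZ)
    h.odd h.sol (fun v => Subtype.ext v.2.2) (Nat.Coprime.symm (Nat.coprime_two_left.2 h.odd))
    (fun a b ha hb => by
      obtain ⟨y, hy⟩ := h.tr a b (fun h' => ha (Subtype.ext h')) a.2.2
        (fun h' => hb (Subtype.ext h')) b.2.2
      exact ⟨y, Subtype.ext hy⟩)
  refine ⟨F, i1, i2, i3, fun x => if hx : x ∈ omZ P then e ⟨x, hx⟩ else 0,
    ⟨fun _ _ => trivial, fun x hx y hy hxy => ?_, fun a _ => ?_⟩, fun v hv w hw => ?_, fun y => ?_⟩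
  · have hx' : x ∈ omZ P := hx
    have hy' : y ∈ omZ P := hy
    simp only [dif_pos hx', dif_pos hy'] at hxy
    exact congrArg Subtype.val (h1.1 hxy)
  · obtain ⟨v, rfl⟩ := h1.2 a
    exact ⟨v, v.2, dif_pos v.2⟩
  · simp only [dif_pos hv, dif_pos hw, dif_pos (mul_mem hv hw)]
    exact h2 ⟨v, hv⟩ ⟨w, hw⟩
  · obtain ⟨c, j, hc, hj⟩ := h3 y
    refine ⟨c, j, hc, fun v hv => ?_⟩
    simp only [dif_pos hv, dif_pos (h.inv_omZ y v hv)]
    exact hj ⟨v, hv⟩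

/-- The division lemma in group-theoretic form. -/
theorem div {A C D : Subgroup P} (hA : CopAut.Inv φ A) (hC : CopAut.Inv φ C)
    (hD : CopAut.Inv φ D) (hAC : A < C)
    (hirr : ∀ K : Subgroup P, A ≤ K → K ≤ C → CopAut.Inv φ K → K = A ∨ K = C)
    (l : P → P) (hl1 : ∀ v ∈ D, l v ^ 2 = 1) (hl2 : ∀ v ∈ D, ∀ w ∈ D, l (v * w) = l v * l w)
    (hl3 : ∀ z, z ^ 2 = 1 → ∃ v ∈ D, l v = z) (hl4 : ∀ y, ∀ v ∈ D, l (φ y v) = φ y (l v))
    (B : P → P → P) (hB1 : ∀ u ∈ C, ∀ v ∈ D, B u v ^ 2 = 1)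
    (hB2 : ∀ u ∈ C, ∀ w ∈ C, ∀ v ∈ D, B (u * w) v = B u v * B w v)
    (hB3 : ∀ u ∈ C, ∀ v ∈ D, ∀ w ∈ D, B u (v * w) = B u v * B u w)
    (hB4 : ∀ u ∈ A, ∀ v ∈ D, B u v = 1) (hB5 : ∀ u ∈ C, ∀ v ∈ D, l v = 1 → B u v = 1)
    (hB6 : ∀ y, ∀ u ∈ C, ∀ v ∈ D, B (φ y u) (φ y v) = φ y (B u v)) :
    (∀ u ∈ C, ∀ v ∈ D, B u v = 1) ∨ ∀ u ∈ C, u ∉ A → ∀ v ∈ D, B u v = 1 → l v = 1 := by
  obtain ⟨F, _, _, _, e, he1, he2, he3⟩ := h.exists_field
  choose c j hc0 hcj using he3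
  have he0 : e 1 = 0 := by
    have := he2 1 (one_mem _) 1 (one_mem _)
    rw [mul_one] at this
    exact left_eq_add.1 this
  have hez : ∀ z, z ^ 2 = 1 → e z = 0 → z = 1 := fun z hz h0 =>
    he1.injOn (h.mem_omZ.2 hz) (one_mem _) (h0.trans he0.symm)
  have hg : ∀ a : F, ∃ v ∈ D, e (l v) = a := by
    intro a
    obtain ⟨z, hz, rfl⟩ := he1.surjOn (Set.mem_univ a)
    obtain ⟨v, hv, rfl⟩ := hl3 z hz.2
    exact ⟨v, hv, rfl⟩
  choose g hg1 hg2 using hg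
  have hT : ∀ u ∈ C, ∀ v ∈ D, B u (g (e (l v))) = B u v := by
    intro u hu v hv
    have h1 : l (g (e (l v))) = l v :=
      he1.injOn (h.mem_omZ.2 (hl1 _ (hg1 _))) (h.mem_omZ.2 (hl1 v hv)) (hg2 _)
    have h2 : g (e (l v)) = g (e (l v)) * v⁻¹ * v := by group
    have h3 : g (e (l v)) * v⁻¹ ∈ D := mul_mem (hg1 _) (inv_mem hv)
    have h4 : l (g (e (l v)) * v⁻¹) = 1 := by
      rw [h2, hl2 _ h3 v hv] at h1
      exact mul_eq_right.1 h1
    rw [h2, hB3 u hu _ h3 v hv, hB5 u hu _ h3 h4, one_mul]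
  have hcard : Nat.card F = Nat.card (omZ P) := by
    rw [← Nat.card_congr (Equiv.Set.univ F)]
    exact (Nat.card_congr he1.equiv).symm
  rcases div_core (F := F) (fun y u => φ y u) hAC.le hC hirr (hcard ▸ h.card_mul_le hA hC hAC)
    (fun u a => e (B u (g a))) (fun u hu w hw a => by
      rw [hB2 u hu w hw _ (hg1 a),
        he2 _ (h.mem_omZ.2 (hB1 u hu _ (hg1 a))) _ (h.mem_omZ.2 (hB1 w hw _ (hg1 a)))])
    (fun u hu a b => by
      have h1 : a + b = e (l (g a * g b)) := by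
        rw [hl2 _ (hg1 a) _ (hg1 b), he2 _ (h.mem_omZ.2 (hl1 _ (hg1 a))) _
          (h.mem_omZ.2 (hl1 _ (hg1 b))), hg2, hg2]
      rw [h1, hT u hu _ (mul_mem (hg1 a) (hg1 b)), hB3 u hu _ (hg1 a) _ (hg1 b),
        he2 _ (h.mem_omZ.2 (hB1 u hu _ (hg1 a))) _ (h.mem_omZ.2 (hB1 u hu _ (hg1 b)))])
    (fun u hu a => by rw [hB4 u hu _ (hg1 a), he0]) c j hc0
    (fun x hx => by
      obtain ⟨z, hz, rfl⟩ := he1.surjOn (Set.mem_univ x)
      obtain ⟨z₁, hz₁, hz₁e⟩ := he1.surjOn (Set.mem_univ 1)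
      obtain ⟨y, hy⟩ := h.tr z₁ z (fun h' => by rw [h', he0] at hz₁e; exact zero_ne_one hz₁e) hz₁.2
        (fun h' => hx (by rw [h', he0])) hz.2
      refine ⟨y, ?_⟩
      rw [← hy, hcj y z₁ hz₁, hz₁e, one_pow, mul_one])
    (fun y u hu a => by
      have h1 : c y * a ^ 2 ^ j y = e (l (φ y (g a))) := by
        rw [hl4 y _ (hg1 a), hcj y _ (h.mem_omZ.2 (hl1 _ (hg1 a))), hg2]
      rw [h1, hT _ (hC y u hu) _ (hD y _ (hg1 a)), hB6 y u hu _ (hg1 a),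
        hcj y _ (h.mem_omZ.2 (hB1 u hu _ (hg1 a)))]) with h1 | h1
  · left
    intro u hu v hv
    have h2 := h1 u hu (e (l v))
    rw [hT u hu v hv] at h2
    exact hez _ (hB1 u hu v hv) h2
  · right
    intro u hu huA v hv hB
    refine hez _ (hl1 v hv) (h1 u hu huA _ ?_)
    rw [hT u hu v hv, hB, he0]

section Abelian

variable {A : Subgroup P} (hA : CopAut.Inv φ A) (hc : ∀ a ∈ A, ∀ b ∈ A, a * b = b * a)
include hA hc

theorem card_eq_mul_pwSub (hA1 : A ≠ ⊥) :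
    Nat.card A = Nat.card (omZ P) * Nat.card (pwSub A 2) := by
  set f : A →* P := MonoidHom.mk' (fun a => (a : P) ^ 2)
    (fun a b => (show Commute (a : P) b from hc a a.2 b b.2).mul_pow 2) with hf
  have h1 : f.ker = (omZ P).subgroupOf A := by
    ext a
    exact h.mem_omZ.symm
  have h2 : f.range = pwSub A 2 := by
    ext x
    rw [mem_pwSub hc]
    exact ⟨fun ⟨a, ha⟩ => ⟨a, a.2, ha⟩, fun ⟨a, ha, hx⟩ => ⟨⟨a, ha⟩, hx⟩⟩
  rw [← f.ker.card_mul_index, index_ker, h1, h2,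
    Nat.card_congr (subgroupOfEquivOfLe (h.omZ_le hA hA1)).toEquiv]

theorem eq_pwSub_or_eq {B : Subgroup P} (hB : CopAut.Inv φ B) (h1 : pwSub A 2 ≤ B) (h2 : B ≤ A) :
    B = pwSub A 2 ∨ B = A := by
  rcases h1.eq_or_lt with h3 | h3
  · exact Or.inl h3.symm
  · right
    have hA1 : A ≠ ⊥ := fun h' => by
      rw [h', le_bot_iff] at h2
      exact not_lt_bot (h2 ▸ h3)
    exact eq_of_le_of_card_ge h2
      (h.card_eq_mul_pwSub hA hc hA1 ▸ h.card_mul_le (inv_pwSub hA 2) hB h3)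

theorem le_pwSub_of_lt {B : Subgroup P} (hB : CopAut.Inv φ B) (hBA : B < A) : B ≤ pwSub A 2 := by
  rcases h.eq_pwSub_or_eq hA hc (inv_sup' hB (inv_pwSub hA 2)) le_sup_right
    (sup_le hBA.le (pwSub_le A 2)) with h1 | h1
  · exact h1 ▸ le_sup_left
  exfalso
  apply hBA.not_ge
  have h2 : ∀ a ∈ A, ∃ b ∈ B, ∃ c ∈ A, a = b * c ^ 2 := by
    intro a ha
    rw [← h1, sup_eq_closure] at ha
    induction ha using closure_induction with
    | mem x hx =>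
      rcases hx with hx | hx
      · exact ⟨x, hx, 1, one_mem _, by simp⟩
      · obtain ⟨c, hc', rfl⟩ := (mem_pwSub hc).1 hx
        exact ⟨1, one_mem _, c, hc', by simp⟩
    | one => exact ⟨1, one_mem _, 1, one_mem _, by simp⟩
    | mul x y _ _ hx hy =>
      obtain ⟨b, hb, c, hc', rfl⟩ := hx
      obtain ⟨b', hb', c', hc'', rfl⟩ := hy
      refine ⟨b * b', mul_mem hb hb', c * c', mul_mem hc' hc'', ?_⟩
      rw [(show Commute c c' from hc c hc' c' hc'').mul_pow, mul_assoc, mul_assoc,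
        ← mul_assoc (c ^ 2), hc _ (pow_mem hc' 2) b' (hBA.le hb'), mul_assoc]
    | inv x _ hx =>
      obtain ⟨b, hb, c, hc', rfl⟩ := hx
      refine ⟨b⁻¹, inv_mem hb, c⁻¹, inv_mem hc', ?_⟩
      rw [mul_inv_rev, inv_pow, hc _ (inv_mem (pow_mem hc' 2)) _ (inv_mem (hBA.le hb))]
  have h3 : ∀ k, ∀ a ∈ A, ∃ b ∈ B, ∃ c ∈ A, a = b * c ^ 2 ^ k := by
    intro k
    induction k with
    | zero => exact fun a ha => ⟨1, one_mem _, a, ha, by simp⟩
    | succ k ih =>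
      intro a ha
      obtain ⟨b, hb, c, hc', rfl⟩ := ih a ha
      obtain ⟨b', hb', c', hc'', rfl⟩ := h2 c hc'
      refine ⟨b * b' ^ 2 ^ k, mul_mem hb (pow_mem hb' _), c', hc'', ?_⟩
      rw [(show Commute b' (c' ^ 2) from hc _ (hBA.le hb') _ (pow_mem hc'' 2)).mul_pow, ← pow_mul,
        ← pow_succ', mul_assoc]
  intro a ha
  obtain ⟨k, hk⟩ := h.card_subgroup_pow ⊤
  obtain ⟨b, hb, c, -, rfl⟩ := h3 k a ha
  rw [← hk, Subgroup.card_top, pow_card_eq_one', mul_one]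
  exact hb

theorem exists_sq_of_pow_eq_one {e : ℕ} (he1 : ∀ a ∈ A, a ^ 2 ^ (e + 1) = 1)
    (he2 : ∃ a ∈ A, a ^ 2 ^ e ≠ 1) {a : P} (ha : a ∈ A) (hae : a ^ 2 ^ e = 1) :
    ∃ b ∈ A, b ^ 2 = a := by
  set K : Subgroup P :=
    { carrier := {a | a ∈ A ∧ a ^ 2 ^ e = 1}
      mul_mem' := fun {x y} hx hy => ⟨mul_mem hx.1 hy.1, by
        rw [(show Commute x y from hc x hx.1 y hy.1).mul_pow, hx.2, hy.2, one_mul]⟩
      one_mem' := ⟨one_mem _, one_pow _⟩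
      inv_mem' := fun {x} hx => ⟨inv_mem hx.1, by rw [inv_pow, hx.2, inv_one]⟩ } with hK
  have hKi : CopAut.Inv φ K := fun y x hx => ⟨hA y x hx.1, by rw [← map_pow, hx.2, map_one]⟩
  rcases h.eq_pwSub_or_eq hA hc hKi (fun x hx => by
    obtain ⟨b, hb, rfl⟩ := (mem_pwSub hc).1 hx
    exact ⟨pow_mem hb 2, by rw [← pow_mul, ← pow_succ', he1 b hb]⟩) (fun x hx => hx.1) with h1 | h1
  · exact (mem_pwSub hc).1 (h1 ▸ (show a ∈ K from ⟨ha, hae⟩))
  · obtain ⟨x, hx, hxe⟩ := he2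
    exact absurd (show x ∈ K from h1 ▸ hx).2 hxe

theorem exists_pow_eq {k : ℕ} (he2 : ∃ a ∈ A, a ^ k ≠ 1) {z : P} (hz : z ^ 2 = 1) :
    ∃ a ∈ A, a ^ k = z := by
  refine (mem_pwSub hc).1 (h.mem_of_sq (inv_pwSub hA k) (fun h' => ?_) hz)
  obtain ⟨a, ha, hak⟩ := he2
  have : a ^ k ∈ pwSub A k := (mem_pwSub hc).2 ⟨a, ha, rfl⟩
  rw [h', mem_bot] at this
  exact hak this

end Abelian

omit h in
theorem exists_exponent (hP : IsPGroup 2 P) {S : Set P} (hS : ∃ a ∈ S, a ≠ 1) :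
    ∃ e, (∀ a ∈ S, a ^ 2 ^ (e + 1) = 1) ∧ ∃ a ∈ S, a ^ 2 ^ e ≠ 1 := by
  classical
  have : Fact (Nat.Prime 2) := ⟨Nat.prime_two⟩
  have hex : ∃ e, ∀ a ∈ S, a ^ 2 ^ e = 1 := by
    obtain ⟨k, hk⟩ := IsPGroup.iff_card.1 hP
    exact ⟨k, fun a _ => by rw [← hk, pow_card_eq_one']⟩
  have h0 : Nat.find hex ≠ 0 := by
    intro h0
    obtain ⟨a, ha, ha1⟩ := hS
    have := Nat.find_spec hex a ha
    rw [h0, pow_zero, pow_one] at this
    exact ha1 this
  obtain ⟨e, he⟩ := Nat.exists_eq_succ_of_ne_zero h0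
  refine ⟨e, fun a ha => by have := Nat.find_spec hex a ha; rwa [he] at this, ?_⟩
  have := Nat.find_min hex (m := e) (by omega)
  push Not at this
  exact this

section Cover

variable {A : Subgroup P} [hAn : A.Normal] (hA : CopAut.Inv φ A)
  (hc : ∀ a ∈ A, ∀ b ∈ A, a * b = b * a)
include hA hc

omit h hA hc in
theorem comm_mem {a : P} (ha : a ∈ A) (u : P) : ⁅a, u⁆ ∈ A := by
  rw [commutatorElement_def, mul_assoc, mul_assoc, ← mul_assoc u]
  exact mul_mem ha (hAn.conj_mem _ (inv_mem ha) u)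

omit h hA in
theorem comm_mul_left_ab {a b : P} (ha : a ∈ A) (hb : b ∈ A) (u : P) :
    ⁅a * b, u⁆ = ⁅a, u⁆ * ⁅b, u⁆ := by
  rw [comm_mul_left_of_commute (hc a ha _ (comm_mem hb u)), hc _ (comm_mem hb u) _ (comm_mem ha u)]

omit h hA in
theorem comm_pow_left_ab {a : P} (ha : a ∈ A) (u : P) (k : ℕ) : ⁅a ^ k, u⁆ = ⁅a, u⁆ ^ k :=
  comm_pow_left (hc a ha _ (comm_mem ha u)) k

/-- Higman's Lemma 2. -/
theorem mem_of_sq_of_comm (hA1 : A ≠ ⊥) {u : P} (h1 : ∃ b ∈ A, b ^ 2 = u ^ 2)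
    (h2 : ∀ a ∈ A, ∃ b ∈ A, b ^ 4 = ⁅a, u⁆) : u ∈ A := by
  have key : ∀ j, ∃ a ∈ A, ∃ b ∈ A, (a * u) ^ 2 = b ^ 2 ^ (j + 1) := by
    intro j
    induction j with
    | zero =>
      obtain ⟨b, hb, hbu⟩ := h1
      exact ⟨1, one_mem _, b, hb, by rw [one_mul, ← hbu]; simp⟩
    | succ j ih =>
      obtain ⟨a, ha, b, hb, hab⟩ := ih
      obtain ⟨d, hd, hdb⟩ := h2 b hb
      set c := b ^ 2 ^ j with hcdef
      have hcA : c ∈ A := pow_mem hb _
      refine ⟨c⁻¹ * a, mul_mem (inv_mem hcA) ha, d, hd, ?_⟩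
      have e1 : (a * u) ^ 2 = c ^ 2 := by rw [hab, hcdef, ← pow_mul, ← pow_succ]
      have e2 : ⁅c, a * u⁆ = ⁅c, u⁆ := by
        rw [comm_mul_right, commutatorElement_eq_one_iff_mul_comm.2 (hc c hcA a ha), one_mul,
          hc a ha _ (comm_mem hcA u), mul_inv_cancel_right]
      have e3 : (c⁻¹ * a * u) ^ 2 = c⁻¹ * c⁻¹ * ⁅c, a * u⁆ * (a * u) ^ 2 := by
        rw [commutatorElement_def, sq, sq]; group
      rw [e3, e1, e2, mul_assoc, hc _ (comm_mem hcA u) _ (pow_mem hcA 2), ← mul_assoc,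
        show c⁻¹ * c⁻¹ * c ^ 2 = 1 by group, one_mul, hcdef, comm_pow_left_ab hc hb, ← hdb,
        ← pow_mul]
      congr 1
      ring
  obtain ⟨k, hk⟩ := h.card_subgroup_pow ⊤
  obtain ⟨a, ha, b, -, hab⟩ := key k
  rw [pow_succ 2 k, pow_mul, ← hk, Subgroup.card_top, pow_card_eq_one', one_pow] at hab
  exact (mul_mem_cancel_left ha).1 (h.mem_of_sq hA hA1 hab)

theorem comm_mem_pwSub (hA1 : A ≠ ⊥) {a : P} (ha : a ∈ A) (u : P) : ∃ b ∈ A, b ^ 2 = ⁅a, u⁆ := by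
  have : Fact (Nat.Prime 2) := ⟨Nat.prime_two⟩
  have hlt : ⁅A, (⊤ : Subgroup P)⁆ < A := by
    refine lt_of_le_of_ne (commutator_le_left _ _) fun h' => hA1 ?_
    have := h.p2.isNilpotent
    exact eq_bot_of_le_commutator_of_isNilpotent (H := ⊤) inferInstance le_top h'.ge
  have hinv : CopAut.Inv φ ⁅A, (⊤ : Subgroup P)⁆ :=
    inv_closure fun y _ ⟨a, ha, g, _, hx⟩ =>
      ⟨φ y a, hA y a ha, φ y g, mem_top _, by rw [← hx, map_commutatorElement]⟩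
  exact (mem_pwSub hc).1 (h.le_pwSub_of_lt hA hc hinv hlt (commutator_mem_commutator ha (mem_top u)))

theorem cover_cases {C : Subgroup P} (hC : InvCover φ A C)
    (hnc : ∃ u ∈ C, ∃ v ∈ C, ⁅u, v⁆ ≠ 1) (hA2 : ∃ a ∈ A, a ^ 2 ≠ 1) :
    (∀ a ∈ A, a ^ 4 = 1) ∧ (∀ u ∈ C, u ^ 4 = 1) ∧
      ∀ u ∈ C, u ∉ A → ∀ a ∈ A, ⁅a, u⁆ = 1 → a ^ 2 = 1 := by
  have hA1 : A ≠ ⊥ := by
    rintro rfl
    obtain ⟨a, ha, ha2⟩ := hA2
    rw [mem_bot.1 ha, one_pow] at ha2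
    exact ha2 rfl
  obtain ⟨e, he1, he2⟩ := exists_exponent h.p2 (S := A) (by
    obtain ⟨a, ha, ha2⟩ := hA2
    exact ⟨a, ha, fun h' => ha2 (by rw [h', one_pow])⟩)
  have he0 : e ≠ 0 := by
    rintro rfl
    obtain ⟨a, ha, ha2⟩ := hA2
    exact ha2 (by simpa using he1 a ha)
  obtain ⟨f, rfl⟩ := Nat.exists_eq_succ_of_ne_zero he0
  simp only [Nat.succ_eq_add_one, SetLike.mem_coe] at he1 he2
  have hC2 : ∀ u ∈ C, u ^ 2 ∈ A := fun u hu => (mem_covZ.1 (hC.le hu)).2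
  have hCc : ∀ u ∈ C, ∀ v : P, ⁅u, v⁆ ∈ A := fun u hu => (mem_covZ.1 (hC.le hu)).1
  have hl1 : ∀ a ∈ A, (a ^ 2 ^ (f + 1)) ^ 2 = 1 := fun a ha => by
    rw [← pow_mul, ← pow_succ, he1 a ha]
  have hker : ∀ a ∈ A, a ^ 2 ^ (f + 1) = 1 → ∃ b ∈ A, b ^ 2 = a := fun a ha hae =>
    h.exists_sq_of_pow_eq_one hA hc he1 he2 ha hae
  have hB1 : ∀ u : P, ∀ a ∈ A, (⁅a, u⁆ ^ 2 ^ f) ^ 2 = 1 := by
    intro u a ha
    obtain ⟨b, hb, hba⟩ := h.comm_mem_pwSub hA hc hA1 ha u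
    rw [← hba, ← pow_mul, ← pow_mul, ← he1 b hb]
    congr 1
    ring
  have hB2 : ∀ u w : P, ∀ a ∈ A, ⁅a, u * w⁆ ^ 2 ^ f = ⁅a, u⁆ ^ 2 ^ f * ⁅a, w⁆ ^ 2 ^ f := by
    intro u w a ha
    rw [comm_mul_right, (show Commute _ _ from hc _ (comm_mem ha u) _
      (hAn.conj_mem _ (comm_mem ha w) u)).mul_pow, conj_pow, h.conj_of_sq (hB1 w a ha)]
  have hB3 : ∀ u : P, ∀ a ∈ A, ∀ b ∈ A, ⁅a * b, u⁆ ^ 2 ^ f = ⁅a, u⁆ ^ 2 ^ f * ⁅b, u⁆ ^ 2 ^ f := by
    intro u a ha b hb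
    rw [comm_mul_left_ab hc ha hb,
      (show Commute _ _ from hc _ (comm_mem ha u) _ (comm_mem hb u)).mul_pow]
  have hdiv := h.div hA hC.inv hA hC.lt hC.irr (fun a => a ^ 2 ^ (f + 1)) hl1
    (fun a ha b hb => (show Commute a b from hc a ha b hb).mul_pow _)
    (fun z hz => h.exists_pow_eq hA hc he2 hz) (fun y a _ => (map_pow _ _ _).symm)
    (fun u a => ⁅a, u⁆ ^ 2 ^ f) (fun u _ => hB1 u) (fun u _ w _ => hB2 u w) (fun u _ => hB3 u)
    (fun u hu a ha => by rw [commutatorElement_eq_one_iff_mul_comm.2 (hc a ha u hu), one_pow])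
    (fun u _ a ha hae => by
      obtain ⟨b, hb, rfl⟩ := hker a ha hae
      rw [comm_pow_left_ab hc hb, ← pow_mul, mul_comm, pow_mul, hB1 u b hb])
    (fun y u _ a _ => by rw [map_pow, map_commutatorElement])
  rcases hdiv with hI | hII
  · exfalso
    have h4 : ∀ u ∈ C, ∀ a ∈ A, ∃ b ∈ A, b ^ 4 = ⁅a, u⁆ := by
      intro u hu a ha
      obtain ⟨b, hb, hba⟩ := h.comm_mem_pwSub hA hc hA1 ha u
      have h1 := hI u hu a ha
      rw [← hba, ← pow_mul, ← pow_succ'] at h1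
      obtain ⟨d, hd, rfl⟩ := hker b hb h1
      exact ⟨d, hd, by rw [← hba, ← pow_mul]⟩
    have hμ : ∀ u ∈ C, (u ^ 2) ^ 2 ^ (f + 1) = 1 → u ∈ A := fun u hu hu' =>
      h.mem_of_sq_of_comm hA hc hA1 (hker _ (hC2 u hu) hu') (h4 u hu)
    have hcom : ∀ u ∈ C, ∀ v ∈ C, ⁅u, v⁆ ^ 2 ^ (f + 1) = 1 := by
      intro u hu v hv
      obtain ⟨b, hb, hb'⟩ := h4 v hv _ (hC2 u hu)
      obtain ⟨d, hd, hd'⟩ := h4 u hu _ (hCc u hu v)
      set c := ⁅u, v⁆ with hcdef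
      have hcA : c ∈ A := hCc u hu v
      have e1 : u * c * u⁻¹ = (d ^ 4)⁻¹ * c := by
        rw [hd', commutatorElement_inv, commutatorElement_def]; group
      rw [sq, comm_mul_left, ← hcdef, e1, mul_assoc, ← sq, eq_inv_mul_iff_mul_eq] at hb'
      have e2 : (c * ((d * b) ^ 2)⁻¹) ^ 2 = 1 := by
        rw [(show Commute c _ from hc c hcA _ (inv_mem (pow_mem (mul_mem hd hb) 2))).mul_pow,
          ← hb', inv_pow, ← pow_mul, (show Commute d b from hc d hd b hb).mul_pow, mul_inv_cancel]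
      have e3 : c = c * ((d * b) ^ 2)⁻¹ * (d * b) ^ 2 := by group
      rw [e3, (show Commute _ _ from (h.comm_of_sq e2 _).symm).mul_pow, pow_succ' 2 f, pow_mul,
        e2, one_pow, one_mul, ← pow_mul, ← pow_succ', ← pow_succ', he1 _ (mul_mem hd hb)]
    have hμmul : ∀ u ∈ C, ∀ v ∈ C, ((u * v) ^ 2) ^ 2 ^ (f + 1) =
        (u ^ 2) ^ 2 ^ (f + 1) * (v ^ 2) ^ 2 ^ (f + 1) := by
      intro u hu v hv
      have e1 : (u * v) ^ 2 = u ^ 2 * ⁅u⁻¹, v⁆ * v ^ 2 := by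
        rw [commutatorElement_def, sq, sq, sq]; group
      rw [e1, (show Commute _ _ from hc _ (mul_mem (hC2 u hu) (hCc _ (inv_mem hu) v)) _
        (hC2 v hv)).mul_pow, (show Commute _ _ from hc _ (hC2 u hu) _
        (hCc _ (inv_mem hu) v)).mul_pow, hcom _ (inv_mem hu) v hv, mul_one]
    have hμsurj : ∀ z, z ^ 2 = 1 → ∃ v ∈ C, (v ^ 2) ^ 2 ^ (f + 1) = z := by
      set R : Subgroup P :=
        { carrier := {z | ∃ v ∈ C, (v ^ 2) ^ 2 ^ (f + 1) = z}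
          mul_mem' := by
            rintro _ _ ⟨u, hu, rfl⟩ ⟨v, hv, rfl⟩
            exact ⟨u * v, mul_mem hu hv, hμmul u hu v hv⟩
          one_mem' := ⟨1, one_mem _, by simp⟩
          inv_mem' := by
            rintro _ ⟨u, hu, rfl⟩
            exact ⟨u⁻¹, inv_mem hu, by simp⟩ } with hR
      have hRi : CopAut.Inv φ R := by
        rintro y _ ⟨u, hu, rfl⟩
        exact ⟨φ y u, hC.inv y u hu, by simp⟩
      have hR1 : R ≠ ⊥ := by
        intro h'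
        obtain ⟨u, huC, huA⟩ := SetLike.exists_of_lt hC.lt
        have : (u ^ 2) ^ 2 ^ (f + 1) ∈ R := ⟨u, huC, rfl⟩
        rw [h', mem_bot] at this
        exact huA (hμ u huC this)
      exact fun z hz => h.mem_of_sq hRi hR1 hz
    obtain ⟨m, hm1, hm2⟩ := exists_exponent h.p2 (S := {x | ∃ u ∈ C, ∃ v ∈ C, ⁅u, v⁆ = x}) (by
      obtain ⟨u, hu, v, hv, huv⟩ := hnc
      exact ⟨_, ⟨u, hu, v, hv, rfl⟩, huv⟩)
    have hB1' : ∀ u ∈ C, ∀ v ∈ C, (⁅u, v⁆ ^ 2 ^ m) ^ 2 = 1 := fun u hu v hv => by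
      rw [← pow_mul, ← pow_succ, hm1 _ ⟨u, hu, v, hv, rfl⟩]
    have hB2' : ∀ u ∈ C, ∀ w ∈ C, ∀ v ∈ C,
        ⁅u * w, v⁆ ^ 2 ^ m = ⁅u, v⁆ ^ 2 ^ m * ⁅w, v⁆ ^ 2 ^ m := by
      intro u hu w hw v hv
      rw [comm_mul_left, (show Commute _ _ from hc _ (hAn.conj_mem _ (hCc w hw v) u) _
        (hCc u hu v)).mul_pow, conj_pow, h.conj_of_sq (hB1' w hw v hv),
        h.comm_of_sq (hB1' u hu v hv)]
    have hB3' : ∀ u ∈ C, ∀ v ∈ C, ∀ w ∈ C,
        ⁅u, v * w⁆ ^ 2 ^ m = ⁅u, v⁆ ^ 2 ^ m * ⁅u, w⁆ ^ 2 ^ m := by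
      intro u hu v hv w hw
      rw [comm_mul_right, (show Commute _ _ from hc _ (hCc u hu v) _
        (hAn.conj_mem _ (hCc u hu w) v)).mul_pow, conj_pow, h.conj_of_sq (hB1' u hu w hw)]
    have hB4' : ∀ a ∈ A, ∀ v ∈ C, ⁅a, v⁆ ^ 2 ^ m = 1 := by
      intro a ha v hv
      obtain ⟨u, hu, hua⟩ := hμsurj _ (hl1 a ha)
      obtain ⟨b, hb, hb'⟩ := hker (a * (u ^ 2)⁻¹) (mul_mem ha (inv_mem (hC2 u hu))) (by
        rw [(show Commute _ _ from hc a ha _ (inv_mem (hC2 u hu))).mul_pow, inv_pow, hua,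
          mul_inv_cancel])
      have e1 : a = b * b * (u * u) := by rw [← sq, ← sq, hb']; group
      have hbC := hC.lt.le hb
      rw [e1, hB2' _ (mul_mem hbC hbC) _ (mul_mem hu hu) v hv, hB2' b hbC b hbC v hv,
        hB2' u hu u hu v hv, ← sq, ← sq, hB1' b hbC v hv, hB1' u hu v hv, one_mul]
    rcases h.div hA hC.inv hC.inv hC.lt hC.irr (fun v => (v ^ 2) ^ 2 ^ (f + 1))
      (fun v hv => hl1 _ (hC2 v hv)) hμmul hμsurj (fun y v _ => by simp only [map_pow])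
      (fun u v => ⁅u, v⁆ ^ 2 ^ m) hB1' hB2' hB3' hB4'
      (fun u hu v hv hv' => by
        rw [← commutatorElement_inv, inv_pow, hB4' v (hμ v hv hv') u hu, inv_one])
      (fun y u _ a _ => by rw [map_pow, map_commutatorElement]) with h1 | h1
    · obtain ⟨_, ⟨u, hu, v, hv, rfl⟩, huv⟩ := hm2
      exact huv (h1 u hu v hv)
    · obtain ⟨u, huC, huA⟩ := SetLike.exists_of_lt hC.lt
      exact huA (hμ u huC (h1 u huC huA u huC (by rw [commutatorElement_self, one_pow])))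
  · have hf : f = 0 := by
      by_contra hf
      obtain ⟨g, rfl⟩ := Nat.exists_eq_succ_of_ne_zero hf
      simp only [Nat.succ_eq_add_one] at *
      have key : ∀ u ∈ C, u ∉ A → ∀ a ∈ A, ⁅a, u⁆ ^ 2 ^ (g + 1) = a ^ 2 ^ (g + 1 + 1) := by
        intro u hu huA a ha
        obtain ⟨b, hb, hba⟩ := h.comm_mem_pwSub hA hc hA1 ha u
        have e1 : ⁅a, u * u⁆ = 1 :=
          commutatorElement_eq_one_iff_mul_comm.2 (hc a ha _ (sq u ▸ hC2 u hu))
        have e2 : u * b * u⁻¹ = ⁅b, u⁆⁻¹ * b := by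
          rw [commutatorElement_inv, commutatorElement_def]; group
        rw [comm_mul_right, ← hba, ← conj_pow, e2, (show Commute _ _ from hc _
          (inv_mem (comm_mem hb u)) _ hb).mul_pow, hc _ (pow_mem (inv_mem (comm_mem hb u)) 2) _
          (pow_mem hb 2), ← mul_assoc, ← pow_add, inv_pow, mul_inv_eq_one] at e1
        have e3 : ⁅b, u⁆ ^ 2 ^ (g + 1) = b ^ 2 ^ (g + 1 + 1) := by
          rw [pow_succ' 2 g, pow_mul, ← e1, ← pow_mul]
          congr 1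
          ring
        have e4 : ⁅a, u⁆ ^ 2 ^ (g + 1) = b ^ 2 ^ (g + 1 + 1) := by
          rw [← hba, ← pow_mul, ← pow_succ']
        have e5 := hII u hu huA (a * b) (mul_mem ha hb) (by
          rw [hB3 u a ha b hb, e3, e4, ← sq, hl1 b hb])
        rw [(show Commute a b from hc a ha b hb).mul_pow, mul_eq_one_iff_eq_inv] at e5
        rw [e4, e5, eq_inv_iff_mul_eq_one, ← sq, hl1 b hb]
      obtain ⟨u, hu, w, hw, huA, hwA, huw⟩ := h.exists_mul_not_mem hA hC.inv hC.lt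
      obtain ⟨a, ha, hae⟩ := he2
      apply hae
      rw [← key _ (mul_mem hu hw) huw a ha, hB2 u w a ha, key u hu huA a ha, key w hw hwA a ha,
        ← sq, hl1 a ha]
    subst hf
    refine ⟨fun a ha => by simpa using he1 a ha, fun u hu => ?_, fun u hu huA a ha hau => ?_⟩
    · by_cases huA : u ∈ A
      · simpa using he1 u huA
      · have := hII u hu huA _ (hC2 u hu) (by
          rw [commutatorElement_eq_one_iff_commute.2 ((Commute.refl u).pow_left 2), one_pow])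
        rw [← pow_mul] at this
        simpa using this
    · simpa using hII u hu huA a ha (by rw [hau, one_pow])

end Cover

theorem pow_four_eq_one (hnc : ∃ u v : P, ⁅u, v⁆ ≠ 1) (x : P) : x ^ 4 = 1 := by
  have : Fact (Nat.Prime 2) := ⟨Nat.prime_two⟩
  by_contra hx
  have := omZ_normal P
  have hZi := h.inv_omZ
  set Φ : Subgroup P := pwSub ⊤ 2 with hΦ
  have hΦi : CopAut.Inv φ Φ := inv_pwSub inv_top 2
  have hΦm : ∀ g : P, g ^ 2 ∈ Φ := fun g => subset_closure ⟨g, mem_top g, rfl⟩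
  have hΦn : Φ.Normal := by
    refine ⟨fun a ha g => ?_⟩
    exact inv_pwSub (φ := MulAut.conj) inv_top 2 g a ha
  have hx2 : x ^ 2 ∉ omZ P := fun h' => hx (by rw [← h'.2, ← pow_mul])
  have hlt : omZ P < Φ := by
    refine lt_of_le_of_ne (h.omZ_le hΦi fun h' => hx2 ?_) fun h' => hx2 (h' ▸ hΦm x)
    have := hΦm x
    rw [h', mem_bot] at this
    rw [this]; exact one_mem _
  obtain ⟨U, hUΦ, hU⟩ := exists_invCover h.p2 hZi hΦi hlt
  have hUc : ∀ u ∈ U, ∀ g : P, ⁅u, g⁆ ^ 2 = 1 := fun u hu g => ((mem_covZ.1 (hU.le hu)).1 g).2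
  have hUΦ' : ∀ u ∈ U, Φ ≤ centralizer {u} := by
    intro u hu
    rw [hΦ, pwSub, closure_le]
    rintro _ ⟨g, -, rfl⟩
    rw [SetLike.mem_coe, mem_centralizer_singleton_iff, eq_comm,
      ← commutatorElement_eq_one_iff_mul_comm, comm_pow_right (h.comm_of_sq (hUc u hu g) g),
      hUc u hu g]
  have hUcomm : ∀ u ∈ U, ∀ g ∈ Φ, g * u = u * g := fun u hu g hg =>
    mem_centralizer_singleton_iff.1 (hUΦ' u hu hg)
  have hUn : U.Normal := normal_of_le_covZ hU.lt.le hU.le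
  obtain ⟨A, hUA, hAmax⟩ := Finite.exists_le_maximal
    (p := fun A : Subgroup P => A.Normal ∧ CopAut.Inv φ A ∧ ∀ a ∈ A, ∀ b ∈ A, a * b = b * a)
    (a := U) ⟨hUn, hU.inv, fun a ha b hb => hUcomm b hb a (hUΦ ha)⟩
  obtain ⟨hAn, hA, hc⟩ := hAmax.prop
  obtain ⟨a₀, ha₀U, ha₀⟩ := SetLike.exists_of_lt hU.lt
  rw [h.mem_omZ] at ha₀
  have hA1 : A ≠ ⊥ := by
    intro h'
    have := hUA ha₀U
    rw [h', mem_bot] at this
    exact ha₀ (by rw [this, one_pow])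
  have hcov : ∀ C, InvCover φ A C → (∀ a ∈ A, a ^ 4 = 1) ∧ (∀ u ∈ C, u ^ 4 = 1) ∧
      ∀ u ∈ C, u ∉ A → ∀ a ∈ A, ⁅a, u⁆ = 1 → a ^ 2 = 1 := by
    intro C hC
    refine h.cover_cases hA hc hC ?_ ⟨a₀, hUA ha₀U, ha₀⟩
    by_contra hcon
    push Not at hcon
    exact hC.lt.not_ge (hAmax.le_of_ge ⟨normal_of_le_covZ hC.lt.le hC.le, hC.inv,
      fun a ha b hb => commutatorElement_eq_one_iff_mul_comm.1 (hcon a ha b hb)⟩ hC.lt.le)
  have hAtop : A < ⊤ := by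
    refine lt_top_iff_ne_top.2 fun h' => ?_
    obtain ⟨u, v, huv⟩ := hnc
    exact huv (commutatorElement_eq_one_iff_mul_comm.2
      (hc u (h' ▸ mem_top u) v (h' ▸ mem_top v)))
  obtain ⟨C₀, -, hC₀⟩ := exists_invCover h.p2 hA inv_top hAtop
  have hA4 := (hcov C₀ hC₀).1
  have hAU : A = U := by
    symm
    apply eq_of_le_of_card_ge hUA
    refine le_trans ?_ (h.card_mul_le hZi hU.inv hU.lt)
    rw [h.card_eq_mul_pwSub hA hc hA1]
    refine Nat.mul_le_mul_left _ (card_le_of_le fun z hz => ?_)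
    obtain ⟨a, ha, rfl⟩ := (mem_pwSub hc).1 hz
    rw [h.mem_omZ, ← pow_mul, hA4 a ha]
  subst hAU
  have hCA : centralizer (A : Set P) ≤ A := by
    by_contra hcon
    have hlt' : A < centralizer (A : Set P) :=
      lt_of_le_of_ne (fun a ha b hb => hc b hb a ha) fun h' => hcon h'.ge
    obtain ⟨C, hCle, hC⟩ := exists_invCover h.p2 hA (inv_centralizer' hA) hlt'
    obtain ⟨u, huC, huA⟩ := SetLike.exists_of_lt hC.lt
    exact ha₀ ((hcov C hC).2.2 u huC huA a₀ ha₀U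
      (commutatorElement_eq_one_iff_mul_comm.2 (hCle huC a₀ ha₀U)))
  have hP2 : ∀ g : P, g ^ 2 ∈ A := fun g => hCA fun a ha => (hUcomm a ha _ (hΦm g)).symm
  have hPc : ∀ g k : P, ⁅g, k⁆ ∈ A := by
    intro g k
    have : ⁅g, k⁆ = g ^ 2 * (g⁻¹ * k) ^ 2 * (k ^ 2)⁻¹ := by
      rw [commutatorElement_def, sq, sq, sq]; group
    rw [this]
    exact mul_mem (mul_mem (hP2 _) (hP2 _)) (inv_mem (hP2 _))
  have hJ : ∀ K : Subgroup P, (∀ C, InvCover φ A C → C ≤ K) → K = ⊤ := by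
    intro K hK
    set J : Subgroup P := closure {x | ∃ C, InvCover φ A C ∧ x ∈ C} with hJ
    have hJi : CopAut.Inv φ J := inv_closure fun y x ⟨C, hC, hx⟩ => ⟨C, hC, hC.inv y x hx⟩
    have hCJ : ∀ C, InvCover φ A C → C ≤ J := fun C hC x hx => subset_closure ⟨C, hC, hx⟩
    have hAJ : A ≤ J := hC₀.lt.le.trans (hCJ C₀ hC₀)
    obtain ⟨W, hW, h1, h2⟩ := maschke_section_aut (p := 2) (φ := φ) (E := ⊤) (U := J) (N := A)
      (Nat.Coprime.symm (Nat.coprime_two_left.2 h.odd)) hAJ le_top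
      (commutator_le.2 fun g _ k _ => hPc g k) (fun g _ => hP2 g) inv_top hJi hA
    have hAW : A ≤ W := h1 ▸ inf_le_right
    rcases hAW.eq_or_lt with h3 | h3
    · rw [← h3, sup_eq_left.2 hAJ] at h2
      rw [eq_top_iff, ← h2, hJ, closure_le]
      rintro x ⟨C, hC, hx⟩
      exact hK C hC hx
    · exfalso
      have hWn : W.Normal := normal_of_le_covZ hAW fun g _ => mem_covZ.2 ⟨hPc g, hP2 g⟩
      obtain ⟨C, hCW, hC⟩ := exists_invCover h.p2 hA hW h3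
      exact hC.lt.not_ge (h1 ▸ le_inf (hCJ C hC) hCW)
  obtain ⟨C₁, hC₁, C₂, hC₂, u, hu, v₀, hv₀, huv⟩ : ∃ C₁, InvCover φ A C₁ ∧ ∃ C₂, InvCover φ A C₂ ∧
      ∃ u ∈ C₁, ∃ v ∈ C₂, ⁅u, v⁆ ^ 2 ≠ 1 := by
    by_contra hcon
    push Not at hcon
    have h1 : covZ (omZ P) = ⊤ := by
      refine hJ _ fun C hC v hv => mem_covZ.2 ⟨fun g => ?_, ?_⟩
      · have h2 : relCent (omZ P) {v} = ⊤ := by
          refine hJ _ fun C' hC' w hw => mem_relCent.2 ⟨?_, ?_⟩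
          · rw [normalizer_eq_top]; exact mem_top _
          · rintro _ rfl
            exact h.mem_omZ.2 (hcon C' hC' C hC w hw _ hv)
        have h3 : g ∈ relCent (omZ P) {v} := h2 ▸ mem_top g
        rw [← commutatorElement_inv]
        exact inv_mem ((mem_relCent.1 h3).2 v rfl)
      · rw [h.mem_omZ, ← pow_mul]
        exact (hcov C hC).2.1 v hv
    exact hx2 (mem_covZ.1 (h1 ▸ mem_top x)).2
  have hAc : ∀ a ∈ A, ∀ g : P, ⁅a, g⁆ ^ 2 = 1 := hUc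
  have huA : u ∉ A := fun h' => huv (hAc u h' v₀)
  have hid : ∀ c ∈ A, ∀ g : P, g * c * g⁻¹ * c = 1 → ⁅c, g⁆ = c ^ 2 := by
    intro c _ g hg
    have : ⁅c, g⁆ = c ^ 2 * (g * c * g⁻¹ * c)⁻¹ := by
      rw [commutatorElement_def, sq]; group
    rw [this, hg, inv_one, mul_one]
  have hid1 : ∀ g : P, ⁅⁅u, g⁆, u⁆ = ⁅u, g⁆ ^ 2 := by
    intro g
    refine hid _ (hPc u g) u ?_
    rw [← comm_mul_left, ← sq, commutatorElement_eq_one_iff_mul_comm]
    exact (h.comm_of_sq (by rw [← pow_mul]; exact (hcov C₁ hC₁).2.1 u hu) g).symm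
  have hid2 : ∀ v ∈ C₂, ⁅⁅u, v⁆, v⁆ = ⁅u, v⁆ ^ 2 := by
    intro v hv
    refine hid _ (hPc u v) v ?_
    rw [hc _ (hAn.conj_mem _ (hPc u v) v) _ (hPc u v), ← comm_mul_right, ← sq,
      commutatorElement_eq_one_iff_mul_comm]
    exact h.comm_of_sq (by rw [← pow_mul]; exact (hcov C₂ hC₂).2.1 v hv) u
  have hBm : ∀ a ∈ A, ∀ g k : P, ⁅a, g * k⁆ = ⁅a, g⁆ * ⁅a, k⁆ := fun a ha g k =>
    comm_mul_right_of_commute (h.comm_of_sq (hAc a ha k) g)
  have hsq : ∀ a ∈ A, ∀ b ∈ A, a ^ 2 = b ^ 2 → ∀ g : P, ⁅a, g⁆ = ⁅b, g⁆ := by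
    intro a ha b hb hab g
    have h1 : (a * b⁻¹) ^ 2 = 1 := by
      rw [(show Commute _ _ from hc a ha _ (inv_mem hb)).mul_pow, hab, inv_pow, mul_inv_cancel]
    have h2 : a = a * b⁻¹ * b := by group
    rw [h2, comm_mul_left_ab hc (mul_mem ha (inv_mem hb)) hb,
      commutatorElement_eq_one_iff_mul_comm.2 (h.comm_of_sq h1 g).symm, one_mul]
  have hνmul : ∀ g k : P, ⁅u, g * k⁆ ^ 2 = ⁅u, g⁆ ^ 2 * ⁅u, k⁆ ^ 2 := by
    intro g k
    rw [comm_mul_right, (show Commute _ _ from hc _ (hPc u g) _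
      (hAn.conj_mem _ (hPc u k) g)).mul_pow, conj_pow,
      h.conj_of_sq (by rw [← pow_mul]; exact hA4 _ (hPc u k))]
  set ν : C₂ →* P := MonoidHom.mk' (fun v => ⁅u, (v : P)⁆ ^ 2) (fun v w => hνmul v w) with hν
  have hνker : ν.ker = A.subgroupOf C₂ := by
    ext w
    change ⁅u, (w : P)⁆ ^ 2 = 1 ↔ (w : P) ∈ A
    constructor
    · intro hw
      by_contra hwA
      have e1 : ⁅u, v₀ * w⁆ ^ 2 = ⁅u, v₀⁆ ^ 2 := by rw [hνmul, hw, mul_one]
      have e2 := hid2 _ (mul_mem hv₀ w.2)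
      rw [hsq _ (hPc _ _) _ (hPc _ _) e1, e1, hBm _ (hPc u v₀), hid2 v₀ hv₀, mul_eq_left] at e2
      exact huv ((hcov C₂ hC₂).2.2 w w.2 hwA _ (hPc u v₀) e2)
    · intro hw
      rw [← commutatorElement_inv, inv_pow, hAc w hw u, inv_one]
  have hνr : ν.range = omZ P := by
    apply eq_of_le_of_card_ge
    · rintro _ ⟨w, rfl⟩
      change ⁅u, (w : P)⁆ ^ 2 ∈ _
      rw [h.mem_omZ, ← pow_mul]
      exact hA4 _ (hPc u w)
    · have e1 := h.card_mul_le hA hC₂.inv hC₂.lt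
      rw [← ν.ker.card_mul_index, index_ker, hνker,
        Nat.card_congr (subgroupOfEquivOfLe hC₂.lt.le).toEquiv, mul_comm] at e1
      exact Nat.le_of_mul_le_mul_left e1 Nat.card_pos
  have hTu : ∀ a ∈ A, ⁅a, u⁆ = a ^ 2 := by
    intro a ha
    obtain ⟨w, hw⟩ : a ^ 2 ∈ ν.range := by
      rw [hνr, h.mem_omZ, ← pow_mul]; exact hA4 a ha
    change ⁅u, (w : P)⁆ ^ 2 = _ at hw
    rw [← hsq _ (hPc u w) a ha hw, hid1, hw]
  set K : Subgroup P :=
    { carrier := {w | w ∈ A ∨ ∀ a ∈ A, ⁅a, w⁆ = a ^ 2}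
      mul_mem' := by
        rintro w w' (hw | hw) (hw' | hw')
        · exact Or.inl (mul_mem hw hw')
        · exact Or.inr fun a ha => by
            rw [hBm a ha, hw' a ha, commutatorElement_eq_one_iff_mul_comm.2 (hc a ha w hw), one_mul]
        · exact Or.inr fun a ha => by
            rw [hBm a ha, hw a ha, commutatorElement_eq_one_iff_mul_comm.2 (hc a ha w' hw'), mul_one]
        · refine Or.inl (hCA fun a ha => ?_)
          rw [← commutatorElement_eq_one_iff_mul_comm, hBm a ha, hw a ha, hw' a ha, ← pow_add,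
            hA4 a ha]
      one_mem' := Or.inl (one_mem _)
      inv_mem' := by
        rintro w (hw | hw)
        · exact Or.inl (inv_mem hw)
        · refine Or.inr fun a ha => ?_
          have e1 := hBm a ha w w⁻¹
          rw [mul_inv_cancel, commutatorElement_one_right, hw a ha, eq_comm,
            mul_eq_one_iff_eq_inv'] at e1
          rw [e1, inv_eq_iff_mul_eq_one, ← pow_add, hA4 a ha] } with hK
  have hKi : CopAut.Inv φ K := by
    rintro y w (hw | hw)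
    · exact Or.inl (hA y w hw)
    · refine Or.inr fun a ha => ?_
      rw [← act_act_inv' φ y a, ← map_commutatorElement, hw _ (hA y⁻¹ a ha), map_pow]
  obtain ⟨w, hw, w', hw', hwA, hwA', hww⟩ := h.exists_mul_not_mem hA hKi
    (lt_of_le_of_ne (fun a ha => Or.inl ha) fun h' => huA (h' ▸ (show u ∈ K from Or.inr hTu)))
  apply hww
  refine hCA fun a ha => ?_
  rw [← commutatorElement_eq_one_iff_mul_comm, hBm a ha, hw.resolve_left hwA a ha,
    hw'.resolve_left hwA' a ha, ← pow_add, hA4 a ha]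

theorem commutatorElement_sq (hnc : ∃ u v : P, ⁅u, v⁆ ≠ 1) (g k : P) : ⁅g, k⁆ ^ 2 = 1 := by
  have e1 : ⁅g, k⁆ = g ^ 2 * (g⁻¹ * k) ^ 2 * (k ^ 2)⁻¹ := by
    rw [commutatorElement_def, sq, sq, sq]; group
  have e2 : ∀ x : P, x ^ 2 ∈ omZ P := fun x => by
    rw [h.mem_omZ, ← pow_mul]; exact h.pow_four_eq_one hnc x
  rw [← h.mem_omZ, e1]
  exact mul_mem (mul_mem (e2 _) (e2 _)) (inv_mem (e2 _))

theorem commutator_eq (hnc : ∃ u v : P, ⁅u, v⁆ ≠ 1) : _root_.commutator P = omZ P := by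
  refine le_antisymm (commutator_le.2 fun g _ k _ => h.mem_omZ.2 (h.commutatorElement_sq hnc g k))
    (h.omZ_le (inv_of_characteristic _) fun h' => ?_)
  obtain ⟨u, v, huv⟩ := hnc
  have : ⁅u, v⁆ ∈ _root_.commutator P := commutator_mem_commutator (mem_top u) (mem_top v)
  rw [h', mem_bot] at this
  exact huv this

theorem frattini_eq (hnc : ∃ u v : P, ⁅u, v⁆ ≠ 1) : frattini P = omZ P := by
  have : Fact (Nat.Prime 2) := ⟨Nat.prime_two⟩
  refine le_antisymm ((BurnsideBasis.frattini_le_iff h.p2).2 ⟨(h.commutator_eq hnc).le, fun x => ?_⟩)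
    (h.commutator_eq hnc ▸ BurnsideBasis.commutator_le_frattini h.p2)
  rw [h.mem_omZ, ← pow_mul]; exact h.pow_four_eq_one hnc x

theorem center_eq (hnc : ∃ u v : P, ⁅u, v⁆ ≠ 1) : center P = omZ P := by
  refine le_antisymm (fun z hz => ?_) fun z hz => hz.1
  by_contra hz2
  rw [h.mem_omZ] at hz2
  have hc : ∀ a ∈ center P, ∀ b ∈ center P, a * b = b * a := fun a _ b hb => mem_center_iff.1 hb a
  obtain ⟨u, v, huv⟩ := hnc
  obtain ⟨c, hcZ, hcu⟩ := h.exists_pow_eq (inv_of_characteristic (center P)) hc ⟨z, hz, hz2⟩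
    (z := u ^ 2) (by rw [← pow_mul]; exact h.pow_four_eq_one ⟨u, v, huv⟩ u)
  have e1 : (u * c⁻¹) ^ 2 = 1 := by
    rw [(show Commute _ _ from mem_center_iff.1 (inv_mem hcZ) u).mul_pow, inv_pow, hcu,
      mul_inv_cancel]
  have e2 : u ∈ center P := by
    have := mul_mem (h.mem_omZ.2 e1).1 hcZ
    rwa [inv_mul_cancel_right] at this
  exact huv (commutatorElement_eq_one_iff_mul_comm.2 (mem_center_iff.1 e2 v).symm)

end HigSetup

end CfsgLib.Suz
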