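import Mathlib
import Cfsg.Agent.Lib.Suz.HigmanA
import Cfsg.Agent.Lib.Suz.FieldAut

/-! Higman's theorem on Suzuki 2-groups, part (b) and type A coordinates. -/

set_option autoImplicit false
set_option linter.unusedSectionVars false

namespace CfsgLib.Suz

open Subgroup Cfsg CfsgLib.CopAut CfsgLib.CommCalc
open scoped commutatorElement IsMulCommutative

section Quad

variable {V U : Type*} [AddCommGroup V] [AddCommGroup U] [Module (ZMod 2) V] [Module (ZMod 2) U]
  [Finite V] [Finite U]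

theorem zmod_two_cases (a : ZMod 2) : a = 0 ∨ a = 1 := by
  revert a; decide

theorem exists_bilin_of_quad (q : V → U) (b : V → V → U) (h1 : ∀ x y, q (x + y) = q x + q y + b x y)
    (h2 : ∀ x x' y, b (x + x') y = b x y + b x' y) :
    ∃ B : V →ₗ[ZMod 2] V →ₗ[ZMod 2] U, ∀ x, B x x = q x := by
  have hb0 : ∀ y, b 0 y = 0 := fun y => by
    have := h2 0 0 y
    rw [add_zero] at this
    exact left_eq_add.1 this
  have hq0 : q 0 = 0 := by
    have := h1 0 0
    rw [add_zero, hb0, add_zero] at this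
    exact left_eq_add.1 this
  have hp : ∀ x y, QuadraticMap.polar q x y = b x y := fun x y => by
    rw [QuadraticMap.polar, h1]; abel
  set Q : QuadraticMap (ZMod 2) V U := QuadraticMap.ofPolar q
    (fun a x => by rcases zmod_two_cases a with rfl | rfl <;> simp [hq0])
    (fun x x' y => by rw [hp, hp, hp, h2])
    (fun a x y => by rcases zmod_two_cases a with rfl | rfl <;> simp [hp, hb0]) with hQ
  obtain ⟨B, hB⟩ := LinearMap.BilinMap.toQuadraticMap_surjective Q
  exact ⟨B, fun x => DFunLike.congr_fun hB x⟩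

open MvPolynomial in
theorem card_le_sq_of_anisotropic (B : V →ₗ[ZMod 2] V →ₗ[ZMod 2] U) (h : ∀ x, B x x = 0 → x = 0) :
    Nat.card V ≤ Nat.card U ^ 2 := by
  classical
  have : Fact (Nat.Prime 2) := ⟨Nat.prime_two⟩
  set bV := Module.finBasis (ZMod 2) V
  set bU := Module.finBasis (ZMod 2) U
  rw [Module.natCard_eq_pow_finrank (K := ZMod 2), Module.natCard_eq_pow_finrank (K := ZMod 2)
    (V := U), Nat.card_zmod, ← pow_mul]
  refine Nat.pow_le_pow_right (by norm_num) ?_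
  by_contra hlt
  push Not at hlt
  set f : Fin (Module.finrank (ZMod 2) U) → MvPolynomial (Fin (Module.finrank (ZMod 2) V)) (ZMod 2) :=
    fun k => ∑ i, ∑ j, C (bU.repr (B (bV i) (bV j)) k) * (X i * X j) with hf
  have hdeg : ∀ k, (f k).totalDegree ≤ 2 := by
    intro k
    refine totalDegree_finsetSum_le fun i _ => totalDegree_finsetSum_le fun j _ => ?_
    refine (totalDegree_mul _ _).trans ?_
    rw [totalDegree_C, zero_add]
    refine (totalDegree_mul _ _).trans ?_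
    rw [totalDegree_X, totalDegree_X]
  have heval : ∀ (x : Fin (Module.finrank (ZMod 2) V) → ZMod 2) k,
      eval x (f k) = bU.repr (B (∑ i, x i • bV i) (∑ i, x i • bV i)) k := by
    intro x k
    simp only [hf, map_sum, map_mul, eval_C, eval_X, LinearMap.sum_apply, map_smul,
      LinearMap.smul_apply, Finsupp.coe_finsetSum, Finset.sum_apply, Finsupp.coe_smul,
      Pi.smul_apply, smul_eq_mul, Finset.mul_sum]
    rw [Finset.sum_comm]
    refine Finset.sum_congr rfl fun i _ => Finset.sum_congr rfl fun j _ => ?_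
    ring
  have h1 := char_dvd_card_solutions_of_fintype_sum_lt (K := ZMod 2) 2 (f := f) (by
    refine lt_of_le_of_lt (Finset.sum_le_card_nsmul _ _ 2 fun k _ => hdeg k) ?_
    simpa using hlt)
  have h2 : Nat.card { x : Fin (Module.finrank (ZMod 2) V) → ZMod 2 //
      ∀ i, eval x (f i) = 0 } = 1 := by
    rw [Nat.card_eq_one_iff_exists]
    refine ⟨⟨0, fun k => by rw [heval]; simp⟩, fun ⟨x, hx⟩ => Subtype.ext ?_⟩
    have h3 : ∑ i, x i • bV i = 0 := by
      apply h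
      apply bU.repr.injective
      ext k
      rw [← heval, hx k]; simp
    funext i
    exact Fintype.linearIndependent_iff.1 bV.linearIndependent x h3 i
  rw [Fintype.card_eq_nat_card, h2] at h1
  omega

end Quad

section Mult

variable {F : Type*} [Field F] [Fintype F] [CharP F 2]

/-- A multiplicative quadratic map on a finite field of characteristic two is a product of two
automorphisms. -/
theorem exists_eq_mul_of_quad (q : F → F) (b : F → F → F)
    (h1 : ∀ x y, q (x + y) = q x + q y + b x y) (h2 : ∀ x x' y, b (x + x') y = b x y + b x' y)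
    (h3 : q 1 = 1) (h4 : ∀ x y, q (x * y) = q x * q y) :
    ∃ i j : ℕ, ∀ x, q x = x ^ 2 ^ i * x ^ 2 ^ j := by
  classical
  have : Fact (Nat.Prime 2) := ⟨Nat.prime_two⟩
  let _ : Algebra (ZMod 2) F := ZMod.algebra F 2
  obtain ⟨⟨n, hn⟩, -, hF⟩ := FiniteField.card F 2
  simp only [PNat.mk_coe] at hF
  obtain ⟨B, hB⟩ := exists_bilin_of_quad q b h1 h2
  have e1 : ∀ x : F, ∃ a : Fin n → F, ∀ y, B x y = ∑ j, a j * y ^ 2 ^ (j : ℕ) := fun x =>
    exists_linpoly hF (B x) (map_add (B x))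
  choose a ha using e1
  have e2 : ∀ j, ∃ c : Fin n → F, ∀ x, a x j = ∑ i, c i * x ^ 2 ^ (i : ℕ) := by
    intro j
    refine exists_linpoly hF (fun x => a x j) fun x y => ?_
    refine congrFun (linpoly_inj hF (a := a (x + y)) (b := a x + a y) fun z => ?_) j
    rw [← ha, map_add, LinearMap.add_apply, ha, ha]
    simp only [Pi.add_apply, add_mul, Finset.sum_add_distrib]
  choose c hc using e2
  set χ : ℕ × ℕ → (F →* F) := fun p => powMonoidHom (2 ^ p.1) * powMonoidHom (2 ^ p.2) with hχ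
  set Q : F →* F := ⟨⟨q, h3⟩, h4⟩ with hQ
  by_contra hcon
  push Not at hcon
  have hnot : Q ∉ Set.range χ := by
    rintro ⟨⟨i, j⟩, hij⟩
    obtain ⟨x, hx⟩ := hcon i j
    exact hx (DFunLike.congr_fun hij x).symm
  apply (linearIndependent_monoidHom F F).notMem_span_image hnot
  have e3 : (Q : F → F) = ∑ j : Fin n, ∑ i : Fin n, c j i • (χ (i, j) : F → F) := by
    funext x
    change q x = _
    rw [← hB, ha]
    simp only [Finset.sum_apply, Pi.smul_apply, smul_eq_mul, hc, Finset.sum_mul, mul_assoc]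
    rfl
  rw [e3]
  exact Submodule.sum_mem _ fun j _ => Submodule.sum_mem _ fun i _ =>
    Submodule.smul_mem _ _ (Submodule.subset_span ⟨_, ⟨_, rfl⟩, rfl⟩)

end Mult

variable {P Y : Type*} [Group P] [Finite P] [Group Y] [Finite Y] {φ : Y →* MulAut P}

/-- Action on the quotient by an invariant normal subgroup. -/
def quotInv {A : Subgroup P} [A.Normal] (hA : CopAut.Inv φ A) : Y →* MulAut (P ⧸ A) where
  toFun y := QuotientGroup.congr A A (φ y) (inv_iff_map_eq.1 hA y)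
  map_one' := by
    ext x
    induction x using QuotientGroup.induction_on with | H x => ?_
    change ((φ 1 x : P) : P ⧸ A) = x
    rw [map_one]; rfl
  map_mul' y z := by
    ext x
    induction x using QuotientGroup.induction_on with | H x => ?_
    change ((φ (y * z) x : P) : P ⧸ A) = ((φ y (φ z x) : P) : P ⧸ A)
    rw [act_mul']

theorem quotInv_mk {A : Subgroup P} [A.Normal] (hA : CopAut.Inv φ A) (y : Y) (x : P) :
    quotInv hA y (x : P ⧸ A) = ((φ y x : P) : P ⧸ A) := rfl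

/-- Type synonym carrying a twisted multiplication. -/
def TwistedCopy (P : Type*) : Type _ := P

namespace HigSetup

variable (h : HigSetup φ) (hnc : ∃ u v : P, ⁅u, v⁆ ≠ 1)
include h hnc

theorem sq_sq (x : P) : (x ^ 2) ^ 2 = 1 := by
  rw [← pow_mul]; exact h.pow_four_eq_one hnc x

theorem comm_mul_left' (x x' y : P) : ⁅x * x', y⁆ = ⁅x, y⁆ * ⁅x', y⁆ := by
  rw [comm_mul_left_of_commute (h.comm_of_sq (h.commutatorElement_sq hnc x' y) x),
    h.comm_of_sq (h.commutatorElement_sq hnc x y)]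

theorem comm_mul_right' (x y y' : P) : ⁅x, y * y'⁆ = ⁅x, y⁆ * ⁅x, y'⁆ :=
  comm_mul_right_of_commute (h.comm_of_sq (h.commutatorElement_sq hnc x y') y)

theorem mul_sq (x y : P) : (x * y) ^ 2 = x ^ 2 * y ^ 2 * ⁅x, y⁆ := by
  have e1 : (x * y) ^ 2 = x * (⁅x, y⁆⁻¹ * x * y) * y := by
    rw [commutatorElement_inv, commutatorElement_def, sq]; group
  have e2 := h.commutatorElement_sq hnc x y
  rw [e1, inv_eq_of_mul_eq_one_left (by rw [← sq, e2]), ← h.comm_of_sq e2, mul_assoc x ⁅x, y⁆,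
    ← h.comm_of_sq e2, mul_assoc, mul_assoc, mul_assoc, ← h.comm_of_sq e2, sq, sq]
  simp only [mul_assoc]

theorem exists_quad {V U : Type*} [AddCommGroup V] [AddCommGroup U] (a : P → V)
    (ha1 : ∀ x y, a (x * y) = a x + a y) (ha2 : ∀ x, a x = 0 → x ^ 2 = 1)
    (ha3 : Function.Surjective a) (e : P → U)
    (he : ∀ v ∈ omZ P, ∀ w ∈ omZ P, e (v * w) = e v + e w) :
    ∃ (q : V → U) (b : V → V → U), (∀ x, q (a x) = e (x ^ 2)) ∧ (∀ x y, b (a x) (a y) = e ⁅x, y⁆) ∧
      (∀ x y, q (x + y) = q x + q y + b x y) ∧ ∀ x x' y, b (x + x') y = b x y + b x' y := by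
  choose g hg using ha3
  have hz : ∀ x, ∃ z, z ^ 2 = 1 ∧ g (a x) = x * z := by
    intro x
    refine ⟨x⁻¹ * g (a x), ha2 _ ?_, by group⟩
    have e1 := ha1 x (x⁻¹ * g (a x))
    rw [mul_inv_cancel_left, hg] at e1
    exact left_eq_add.1 e1
  have e1 : ∀ x, g (a x) ^ 2 = x ^ 2 := by
    intro x
    obtain ⟨z, hz1, hz2⟩ := hz x
    rw [hz2, (show Commute x z from h.comm_of_sq hz1 x).mul_pow, hz1, mul_one]
  have e2 : ∀ x y, ⁅g (a x), g (a y)⁆ = ⁅x, y⁆ := by
    intro x y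
    obtain ⟨z, hz1, hz2⟩ := hz x
    obtain ⟨w, hw1, hw2⟩ := hz y
    rw [hz2, hw2, h.comm_mul_left' hnc, h.comm_mul_right' hnc,
      commutatorElement_eq_one_iff_mul_comm.2 (h.comm_of_sq hw1 x),
      commutatorElement_eq_one_iff_mul_comm.2 (h.comm_of_sq hz1 _).symm, mul_one, mul_one]
  have m1 : ∀ x : P, x ^ 2 ∈ omZ P := fun x => h.mem_omZ.2 (h.sq_sq hnc x)
  have m2 : ∀ x y : P, ⁅x, y⁆ ∈ omZ P := fun x y => h.mem_omZ.2 (h.commutatorElement_sq hnc x y)
  refine ⟨fun v => e (g v ^ 2), fun v w => e ⁅g v, g w⁆, fun x => by simp only [e1],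
    fun x y => by simp only [e2], fun v w => ?_, fun v v' w => ?_⟩
  · simp only
    conv_lhs => rw [← hg v, ← hg w, ← ha1, e1]
    rw [h.mul_sq hnc, he _ (mul_mem (m1 _) (m1 _)) _ (m2 _ _), he _ (m1 _) _ (m1 _)]
  · simp only
    conv_lhs => rw [← hg v, ← hg v', ← hg w, ← ha1, e2]
    rw [h.comm_mul_left' hnc, he _ (m2 _ _) _ (m2 _ _)]

theorem index_omZ_le : (omZ P).index ≤ Nat.card (omZ P) ^ 2 := by
  have : Fact (Nat.Prime 2) := ⟨Nat.prime_two⟩
  have := omZ_normal P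
  obtain ⟨F, _, _, _, e, he1, he2, -⟩ := h.exists_field
  let _ : Algebra (ZMod 2) F := ZMod.algebra F 2
  have : IsMulCommutative (P ⧸ omZ P) :=
    Subgroup.Normal.quotient_commutative_iff_commutator_le.2 (h.commutator_eq hnc).le
  obtain ⟨inst⟩ := BurnsideBasis.nonempty_elemAbModule (p := 2) (Q := P ⧸ omZ P) (fun x => by
    induction x using QuotientGroup.induction_on with | H x => ?_
    rw [← QuotientGroup.mk_pow, QuotientGroup.eq_one_iff]
    exact h.mem_omZ.2 (h.sq_sq hnc x))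
  obtain ⟨q, b, h1, -, h3, h4⟩ := h.exists_quad hnc
    (fun x => Additive.ofMul (x : P ⧸ omZ P)) (fun _ _ => rfl)
    (fun x hx => h.mem_omZ.1 ((QuotientGroup.eq_one_iff x).1 hx))
    (Additive.ofMul.surjective.comp QuotientGroup.mk_surjective) e he2
  obtain ⟨B, hB⟩ := exists_bilin_of_quad q b h3 h4
  have he0 : e 1 = 0 := by
    have := he2 1 (one_mem _) 1 (one_mem _)
    rw [mul_one] at this
    exact left_eq_add.1 this
  have hcard : Nat.card F = Nat.card (omZ P) := by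
    rw [← Nat.card_congr (Equiv.Set.univ F)]
    exact (Nat.card_congr he1.equiv).symm
  rw [← hcard]
  refine card_le_sq_of_anisotropic (V := Additive (P ⧸ omZ P)) B fun v hv => ?_
  obtain ⟨x, hx⟩ := QuotientGroup.mk_surjective (Additive.toMul v)
  have hv' : v = Additive.ofMul (x : P ⧸ omZ P) := by rw [hx]; rfl
  rw [hB, hv', h1, ← he0] at hv
  have h5 := he1.injOn (h.mem_omZ.2 (h.sq_sq hnc x)) (one_mem _) hv
  rw [hv', (QuotientGroup.eq_one_iff x).2 (h.mem_omZ.2 h5)]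
  rfl

theorem card_eq : Nat.card P = Nat.card (omZ P) ^ 2 ∨ Nat.card P = Nat.card (omZ P) ^ 3 := by
  have : Fact (Nat.Prime 2) := ⟨Nat.prime_two⟩
  have h1 := h.index_omZ_le hnc
  have h2 := h.card_sub_one_dvd h.inv_omZ inv_top le_top
  rw [relIndex_top_right] at h2
  obtain ⟨n, hn⟩ := h.card_subgroup_pow (omZ P)
  obtain ⟨d, hd⟩ := h.p2.index (omZ P)
  have hd0 : d ≠ 0 := by
    rintro rfl
    obtain ⟨u, v, huv⟩ := hnc
    have : u ∈ omZ P := by rw [index_eq_one.1 hd]; exact mem_top u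
    exact huv (commutatorElement_eq_one_iff_mul_comm.2 (h.comm_of_sq this.2 v).symm)
  rw [← (omZ P).card_mul_index, hd, hn]
  rw [hd, hn] at h1 h2
  rw [← pow_mul] at h1
  have h3 := (Nat.pow_le_pow_iff_right (by norm_num)).1 h1
  have h4 : Nat.gcd n d = n := by
    have h5 := Nat.gcd_eq_left h2
    rw [Nat.pow_sub_one_gcd_pow_sub_one] at h5
    have h6 : 1 ≤ 2 ^ n.gcd d := Nat.one_le_two_pow
    have h7 : 1 ≤ 2 ^ n := Nat.one_le_two_pow
    exact Nat.pow_right_injective le_rfl (show 2 ^ n.gcd d = 2 ^ n by omega)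
  obtain ⟨k, rfl⟩ := Nat.gcd_eq_left_iff_dvd.1 h4
  have hn0 : 0 < n := Nat.pos_of_ne_zero fun h0 => hd0 (by rw [h0, zero_mul])
  have hk0 : k ≠ 0 := fun h0 => hd0 (by rw [h0, mul_zero])
  have hk2 : k ≤ 2 := Nat.le_of_mul_le_mul_left h3 hn0
  rw [pow_mul]
  interval_cases k
  · exact absurd rfl hk0
  · left; ring
  · right; ring

omit hnc in
/-- Field model of `Ω₁` for a commutative fixed point free group. -/
theorem exists_field_scalar (hY : IsMulCommutative Y)
    (hfpf : ∀ y : Y, y ≠ 1 → ∀ x, φ y x = x → x = 1) :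
    ∃ (F : Type) (_ : Field F) (_ : Fintype F) (_ : CharP F 2) (e : P → F),
      Set.BijOn e (omZ P) Set.univ ∧ (∀ v ∈ omZ P, ∀ w ∈ omZ P, e (v * w) = e v + e w) ∧
      (∀ y, ∃ c : F, ∀ v ∈ omZ P, e (φ y v) = c * e v) := by
  classical
  have : Fact (Nat.Prime 2) := ⟨Nat.prime_two⟩
  have : IsMulCommutative (omZ P) :=
    ⟨⟨fun a b => Subtype.ext (mem_center_iff.1 b.2.1 a)⟩⟩
  have : Nontrivial (omZ P) := (nontrivial_iff_ne_bot _).2 h.omZ_ne_bot
  obtain ⟨F, i1, i2, i3, e, h1, h2, -, h3⟩ := huppert_field_faithful (r := 2)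
    (φ := restrInv h.inv_omZ) (by
      rw [injective_iff_map_eq_one]
      intro y hy
      by_contra hy1
      obtain ⟨z, hz⟩ := exists_ne (1 : omZ P)
      exact hz (Subtype.ext (hfpf y hy1 z (congrArg Subtype.val (DFunLike.congr_fun hy z)))))
    h.odd h.sol (fun v => Subtype.ext v.2.2) (Nat.Coprime.symm (Nat.coprime_two_left.2 h.odd))
    (fun a b ha hb => by
      obtain ⟨y, hy⟩ := h.tr a b (fun h' => ha (Subtype.ext h')) a.2.2
        (fun h' => hb (Subtype.ext h')) b.2.2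
      exact ⟨y, Subtype.ext hy⟩)
  refine ⟨F, i1, i2, i3, fun x => if hx : x ∈ omZ P then e ⟨x, hx⟩ else 0,
    ⟨fun _ _ => trivial, fun x hx y hy hxy => ?_, fun a _ => ?_⟩, fun v hv w hw => ?_, fun y => ?_⟩
  · have hx' : x ∈ omZ P := hx
    have hy' : y ∈ omZ P := hy
    simp only [dif_pos hx', dif_pos hy'] at hxy
    exact congrArg Subtype.val (h1.1 hxy)
  · obtain ⟨v, rfl⟩ := h1.2 a
    exact ⟨v, v.2, dif_pos v.2⟩
  · simp only [dif_pos hv, dif_pos hw, dif_pos (mul_mem hv hw)]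
    exact h2 ⟨v, hv⟩ ⟨w, hw⟩
  · obtain ⟨c, hc⟩ := (h3 y).1 (by
      rw [fitting_eq_top_iff.2 inferInstance]; exact mem_top y)
    refine ⟨c, fun v hv => ?_⟩
    simp only [dif_pos hv, dif_pos (h.inv_omZ y v hv)]
    exact hc ⟨v, hv⟩

/-- Field model of `P / Ω₁` when `|P| = q²`. -/
theorem exists_field_quot (hY : IsMulCommutative Y)
    (hfpf : ∀ y : Y, y ≠ 1 → ∀ x, φ y x = x → x = 1) (hc : Nat.card P = Nat.card (omZ P) ^ 2) :
    ∃ (F : Type) (_ : Field F) (_ : Fintype F) (_ : CharP F 2) (a : P → F),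
      Fintype.card F = Nat.card (omZ P) ∧ Function.Surjective a ∧
      (∀ x y, a (x * y) = a x + a y) ∧ (∀ x, a x = 0 ↔ x ^ 2 = 1) ∧
      (∀ y, ∃ c : F, ∀ x, a (φ y x) = c * a x) ∧
      ∀ x x', a x ≠ 0 → a x' ≠ 0 → ∃ y, a (φ y x) = a x' := by
  classical
  have : Fact (Nat.Prime 2) := ⟨Nat.prime_two⟩
  have := omZ_normal P
  have : IsMulCommutative (P ⧸ omZ P) :=
    Subgroup.Normal.quotient_commutative_iff_commutator_le.2 (h.commutator_eq hnc).le
  have hq := h.two_lt_card_omZ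
  have hidx : Nat.card (P ⧸ omZ P) = Nat.card (omZ P) := by
    have e1 := (omZ P).card_mul_index
    rw [hc, sq] at e1
    exact Nat.eq_of_mul_eq_mul_left (by omega) e1
  have : Nontrivial (P ⧸ omZ P) := Finite.one_lt_card_iff_nontrivial.1 (by omega)
  have hsq : ∀ x z : P, z ^ 2 = 1 → (x * z) ^ 2 = x ^ 2 := fun x z hz => by
    rw [(show Commute x z from h.comm_of_sq hz x).mul_pow, hz, mul_one]
  -- squaring is a bijection from the quotient onto `Ω₁`
  set s : P ⧸ omZ P → omZ P := fun v => Quotient.liftOn' v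
    (fun x => (⟨x ^ 2, h.mem_omZ.2 (h.sq_sq hnc x)⟩ : omZ P)) (fun x y hxy => by
      rw [QuotientGroup.leftRel_apply] at hxy
      apply Subtype.ext
      change x ^ 2 = y ^ 2
      rw [← hsq x _ hxy.2, mul_inv_cancel_left]) with hs
  have hs1 : ∀ x : P, (s x : P) = x ^ 2 := fun _ => rfl
  obtain ⟨x₀, hx₀⟩ : ∃ x : P, x ^ 2 ≠ 1 := by
    by_contra hcon
    push Not at hcon
    obtain ⟨u, v, huv⟩ := hnc
    exact huv (commutatorElement_eq_one_iff_mul_comm.2 (h.comm_of_sq (hcon v) u))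
  have hsurj : Function.Surjective s := by
    intro z
    by_cases hz : (z : P) = 1
    · exact ⟨((1 : P) : P ⧸ omZ P), Subtype.ext (by rw [hs1, hz, one_pow])⟩
    · obtain ⟨y, hy⟩ := h.tr _ _ hx₀ (h.sq_sq hnc x₀) hz z.2.2
      exact ⟨((φ y x₀ : P) : P ⧸ omZ P), Subtype.ext (by rw [hs1, ← map_pow, hy])⟩
  have hinj : Function.Injective s :=
    ((Nat.bijective_iff_surjective_and_card s).2 ⟨hsurj, hidx⟩).1
  have hne : ∀ x : P, (x : P ⧸ omZ P) ≠ 1 → x ^ 2 ≠ 1 := fun x hx h' =>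
    hx ((QuotientGroup.eq_one_iff x).2 (h.mem_omZ.2 h'))
  have htr : ∀ v w : P ⧸ omZ P, v ≠ 1 → w ≠ 1 → ∃ y, quotInv h.inv_omZ y v = w := by
    intro v w
    induction v using QuotientGroup.induction_on with | H x => ?_
    induction w using QuotientGroup.induction_on with | H x' => ?_
    intro hv hw
    obtain ⟨y, hy⟩ := h.tr _ _ (hne x hv) (h.sq_sq hnc x) (hne x' hw) (h.sq_sq hnc x')
    exact ⟨y, hinj (Subtype.ext (by rw [quotInv_mk, hs1, hs1, ← map_pow, hy]))⟩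
  obtain ⟨F, i1, i2, i3, e, h1, h2, -, h3⟩ := huppert_field_faithful (r := 2)
    (φ := quotInv h.inv_omZ) (by
      rw [injective_iff_map_eq_one]
      intro y hy
      by_contra hy1
      apply hx₀
      apply hfpf y hy1
      have e1 := congrArg (fun v => (s v : P)) (DFunLike.congr_fun hy (x₀ : P ⧸ omZ P))
      simp only [quotInv_mk, MulAut.one_apply, hs1] at e1
      rw [map_pow, e1])
    h.odd h.sol (fun x => by
      induction x using QuotientGroup.induction_on with | H x => ?_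
      rw [← QuotientGroup.mk_pow, QuotientGroup.eq_one_iff]
      exact h.mem_omZ.2 (h.sq_sq hnc x))
    (Nat.Coprime.symm (Nat.coprime_two_left.2 h.odd)) htr
  have he0 : e 1 = 0 := by
    have := h2 1 1
    rw [mul_one] at this
    exact left_eq_add.1 this
  refine ⟨F, i1, i2, i3, fun x => e x, ?_, h1.2.comp QuotientGroup.mk_surjective,
    fun x y => h2 x y, fun x => ?_, fun y => ?_, fun x x' hx hx' => ?_⟩
  · rw [← hidx, ← Nat.card_eq_fintype_card]
    exact (Nat.card_congr (Equiv.ofBijective e h1)).symm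
  · rw [← he0, h1.1.eq_iff, QuotientGroup.eq_one_iff, h.mem_omZ]
  · obtain ⟨c, hc⟩ := (h3 y).1 (by
      rw [fitting_eq_top_iff.2 inferInstance]; exact mem_top y)
    exact ⟨c, fun x => hc x⟩
  · obtain ⟨y, hy⟩ := htr x x' (fun h' => hx (by simp only [h', he0]))
      (fun h' => hx' (by simp only [h', he0]))
    exact ⟨y, congrArg e hy⟩

omit hnc in
/-- Splitting of the symmetric cocycle. -/
theorem exists_retraction {F : Type*} [Field F] [CharP F 2] (a e : P → F) (β : F → F → F)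
    (ha1 : ∀ x y, a (x * y) = a x + a y) (ha2 : ∀ x, x ^ 2 = 1 → a x = 0)
    (he1 : Set.BijOn e (omZ P) Set.univ) (he2 : ∀ v ∈ omZ P, ∀ w ∈ omZ P, e (v * w) = e v + e w)
    (hβ1 : ∀ x x' y, β (x + x') y = β x y + β x' y) (hβ2 : ∀ x y y', β x (y + y') = β x y + β x y')
    (hsq : ∀ x, x ^ 2 ∈ omZ P ∧ e (x ^ 2) = β (a x) (a x)) :
    ∃ f : P → F, (∀ x y, f (x * y) = f x + f y + β (a x) (a y)) ∧ ∀ z ∈ omZ P, f z = e z := by
  have : Fact (Nat.Prime 2) := ⟨Nat.prime_two⟩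
  have e0 : ∀ b : F, ∃ z ∈ omZ P, e z = b := fun b => he1.surjOn (Set.mem_univ b)
  choose ζ hζ1 hζ2 using e0
  have hζe : ∀ z ∈ omZ P, ζ (e z) = z := fun z hz => he1.injOn (hζ1 _) hz (hζ2 _)
  have hζadd : ∀ b c, ζ (b + c) = ζ b * ζ c := fun b c => by
    rw [← hζe _ (mul_mem (hζ1 b) (hζ1 c)), he2 _ (hζ1 b) _ (hζ1 c), hζ2, hζ2]
  have hζ0 : ζ 0 = 1 := by
    have := hζadd 0 0
    rw [add_zero] at this
    exact left_eq_mul.1 this
  have hζc : ∀ b (x : P), x * ζ b = ζ b * x := fun b x => mem_center_iff.1 (hζ1 b).1 x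
  have haζ : ∀ b, a (ζ b) = 0 := fun b => ha2 _ (hζ1 b).2
  have hβ01 : ∀ y, β 0 y = 0 := fun y => by
    have := hβ1 0 0 y
    rw [add_zero] at this
    exact left_eq_add.1 this
  have hβ02 : ∀ y, β y 0 = 0 := fun y => by
    have := hβ2 y 0 0
    rw [add_zero] at this
    exact left_eq_add.1 this
  have ha0 : a 1 = 0 := ha2 1 (one_pow _)
  set m : P → P → P := fun x y => x * y * ζ (β (a x) (a y)) with hm
  have hself : ∀ x, m x x = 1 := fun x => by
    simp only [hm]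
    rw [← (hsq x).2, hζe _ (hsq x).1, ← sq, ← sq, (hsq x).1.2]
  let _ : Mul (TwistedCopy P) := ⟨m⟩
  let _ : One (TwistedCopy P) := ⟨(1 : P)⟩
  let _ : Inv (TwistedCopy P) := ⟨id⟩
  let _ : Group (TwistedCopy P) := Group.ofLeftAxioms
    (fun (x y w : P) => by
      change m (m x y) w = m x (m y w)
      simp only [hm, ha1, haζ, add_zero, hβ1, hβ2, hζadd]
      rw [mul_assoc (x * y), ← hζc, ← mul_assoc (x * y), mul_assoc (x * y * w), ← hζadd, ← hζadd,
        ← mul_assoc x, ← mul_assoc x, mul_assoc (x * y * w), ← hζadd, ← hζadd]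
      congr 2
      ring)
    (fun (x : P) => by
      change m 1 x = x
      simp only [hm, ha0, hβ01, hζ0, one_mul, mul_one])
    (fun (x : P) => hself x)
  have hpow : ∀ x : TwistedCopy P, x ^ 2 = 1 := fun x => by rw [sq]; exact hself x
  let _ : CommGroup (TwistedCopy P) :=
    { mul_comm := fun x y => by
        have e1 : ∀ w : TwistedCopy P, w⁻¹ = w := fun _ => rfl
        rw [← e1 (x * y), mul_inv_rev, e1, e1] }
  have hmz : ∀ x ∈ omZ P, ∀ y, m x y = x * y := fun x hx y => by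
    simp only [hm, ha2 x hx.2, hβ01, hζ0, mul_one]
  have hmz' : ∀ x ∈ omZ P, ∀ y ∈ omZ P, m x y ∈ omZ P := fun x hx y hy => by
    rw [hmz x hx]; exact mul_mem hx hy
  set U : Subgroup (TwistedCopy P) :=
    { carrier := {x : P | x ∈ omZ P}
      mul_mem' := fun {x y} hx hy => hmz' x hx y hy
      one_mem' := one_mem (omZ P)
      inv_mem' := fun {x} hx => hx } with hU
  obtain ⟨π, hπ1, hπ2, hπm⟩ : ∃ π : P → P, (∀ x, π x ∈ omZ P) ∧ (∀ x ∈ omZ P, π x = x) ∧
      ∀ x y : P, π (m x y) = m (π x) (π y) := by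
    obtain ⟨π, hπ1, hπ2⟩ := exists_proj_of_pow_eq_one hpow U
    exact ⟨π, hπ1, hπ2, π.map_mul⟩
  refine ⟨fun x => e (π x), fun x y => ?_, fun z hz => congrArg e (hπ2 z hz)⟩
  have e1 : x * y = m (ζ (β (a x) (a y))) (m x y) := by
    rw [hmz _ (hζ1 _)]
    simp only [hm]
    rw [← hζc, mul_assoc (x * y), ← hζadd, CharTwo.add_self_eq_zero, hζ0, mul_one]
  have e2 : π (ζ (β (a x) (a y))) = ζ (β (a x) (a y)) := hπ2 _ (hζ1 _)
  simp only
  rw [e1, hπm, hπm, e2, hmz _ (hζ1 _), hmz _ (hπ1 x), he2 _ (hζ1 _) _ (mul_mem (hπ1 x) (hπ1 y)),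
    he2 _ (hπ1 x) _ (hπ1 y), hζ2, add_comm]

/-- Type A coordinates. -/
theorem typeA (hY : IsMulCommutative Y) (hfpf : ∀ y : Y, y ≠ 1 → ∀ x, φ y x = x → x = 1)
    (hc : Nat.card P = Nat.card (omZ P) ^ 2) :
    ∃ (F : Type) (_ : Field F) (_ : Fintype F) (_ : CharP F 2) (θ : F ≃+* F) (χ : Y → F)
      (a f : P → F), θ ≠ RingEquiv.refl F ∧ Fintype.card F = Nat.card (omZ P) ∧
      Function.Bijective (fun x => (a x, f x)) ∧ (∀ x y, a (x * y) = a x + a y) ∧
      (∀ x y, f (x * y) = f x + f y + a x * θ (a y)) ∧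
      Function.Injective χ ∧ (∀ c, c ≠ 0 ↔ ∃ y, χ y = c) ∧ (∀ y z, χ (y * z) = χ y * χ z) ∧
      (∀ y x, a (φ y x) = χ y * a x) ∧ ∀ y x, f (φ y x) = χ y * θ (χ y) * f x := by
  classical
  have : Fact (Nat.Prime 2) := ⟨Nat.prime_two⟩
  obtain ⟨F, i1, i2, i3, a, hF, ha1, ha2, ha3, ha4, ha5⟩ := h.exists_field_quot hnc hY hfpf hc
  obtain ⟨F', _, _, _, e', he1', he2', he3'⟩ := h.exists_field_scalar hY hfpf
  have hF' : Fintype.card F' = Fintype.card F := by
    rw [hF, ← Nat.card_eq_fintype_card, ← Nat.card_congr (Equiv.Set.univ F')]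
    exact (Nat.card_congr he1'.equiv).symm
  set ι := FiniteField.ringEquivOfCardEq hF'
  have he0' : e' 1 = 0 := by
    have := he2' 1 (one_mem _) 1 (one_mem _)
    rw [mul_one] at this
    exact left_eq_add.1 this
  have m1 : ∀ x : P, x ^ 2 ∈ omZ P := fun x => h.mem_omZ.2 (h.sq_sq hnc x)
  obtain ⟨x₁, hx₁⟩ := ha1 1
  have hx₁0 : ι (e' (x₁ ^ 2)) ≠ 0 := by
    rw [map_ne_zero, ← he0']
    intro h'
    have := (ha3 x₁).2 (he1'.injOn (m1 x₁) (one_mem _) h')
    rw [hx₁] at this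
    exact one_ne_zero this
  set e : P → F := fun x => ι (e' x) / ι (e' (x₁ ^ 2)) with he
  have he1 : Set.BijOn e (omZ P) Set.univ := by
    refine ⟨fun _ _ => trivial, fun x hx y hy hxy => ?_, fun b _ => ?_⟩
    · simp only [he, div_left_inj' hx₁0, EmbeddingLike.apply_eq_iff_eq] at hxy
      exact he1'.injOn hx hy hxy
    · obtain ⟨z, hz, hzb⟩ := he1'.surjOn (Set.mem_univ (ι.symm (b * ι (e' (x₁ ^ 2)))))
      refine ⟨z, hz, ?_⟩
      simp only [he, hzb, RingEquiv.apply_symm_apply]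
      exact mul_div_cancel_right₀ _ hx₁0
  have he2 : ∀ v ∈ omZ P, ∀ w ∈ omZ P, e (v * w) = e v + e w := fun v hv w hw => by
    simp only [he, he2' v hv w hw, map_add, add_div]
  have he3 : ∀ y, ∃ c : F, ∀ v ∈ omZ P, e (φ y v) = c * e v := fun y => by
    obtain ⟨c, hc⟩ := he3' y
    exact ⟨ι c, fun v hv => by simp only [he, hc v hv, map_mul, mul_div_assoc]⟩
  have he4 : e (x₁ ^ 2) = 1 := div_self hx₁0
  have he0 : e 1 = 0 := by simp only [he, he0', map_zero, zero_div]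
  choose χ₁ hχ₁ using ha4
  choose χ₀ hχ₀ using he3
  obtain ⟨q, b, hq1, hq2, hq3, hq4⟩ := h.exists_quad hnc a ha2 (fun x => (ha3 x).1) ha1 e he2
  have hq5 : q 1 = 1 := by rw [← hx₁, hq1, he4, hx₁]
  have hq6 : ∀ y c, q (χ₁ y * c) = χ₀ y * q c := by
    intro y c
    obtain ⟨x, rfl⟩ := ha1 c
    rw [← hχ₁, hq1, hq1, ← map_pow, hχ₀ y _ (m1 x)]
  have hq7 : ∀ y, q (χ₁ y) = χ₀ y := fun y => by
    have := hq6 y 1
    rwa [mul_one, hq5, mul_one] at this
  have hχs : ∀ c, c ≠ 0 → ∃ y, χ₁ y = c := by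
    intro c hc
    obtain ⟨x, rfl⟩ := ha1 c
    obtain ⟨y, hy⟩ := ha5 x₁ x (by rw [hx₁]; exact one_ne_zero) hc
    exact ⟨y, by rw [← hy, hχ₁, hx₁, mul_one]⟩
  have ha0 : a 1 = 0 := (ha3 1).2 (one_pow _)
  have hq0 : q 0 = 0 := by rw [← ha0, hq1, one_pow, he0, ha0]
  obtain ⟨i, j, hij⟩ := exists_eq_mul_of_quad q b hq3 hq4 hq5 (fun c d => by
    by_cases hc : c = 0
    · rw [hc, zero_mul, hq0, zero_mul]
    · obtain ⟨y, rfl⟩ := hχs c hc
      rw [hq6, hq7])
  set σ := iterateFrobeniusEquiv F 2 i with hσ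
  set τ := iterateFrobeniusEquiv F 2 j with hτ
  set θ := σ.symm.trans τ with hθ
  have hq8 : ∀ c, q c = σ c * θ (σ c) := fun c => by
    rw [hij, hθ, RingEquiv.trans_apply, RingEquiv.symm_apply_apply]; rfl
  set a' : P → F := fun x => σ (a x) with ha'
  set χ : Y → F := fun y => σ (χ₁ y) with hχ
  have hχ0 : ∀ y, χ₀ y = χ y * θ (χ y) := fun y => by rw [← hq7, hq8]
  have hχa : ∀ y x, a' (φ y x) = χ y * a' x := fun y x => by
    simp only [ha', hχ, hχ₁, map_mul]
  have ha'1 : ∀ x y, a' (x * y) = a' x + a' y := fun x y => by simp only [ha', ha2, map_add]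
  have ha'3 : ∀ x, a' x = 0 ↔ x ^ 2 = 1 := fun x => by simp only [ha', map_eq_zero, ha3]
  have hx₁' : a' x₁ = 1 := by simp only [ha', hx₁, map_one]
  have hχne : ∀ y, χ y ≠ 0 := by
    intro y h0
    have e1 := hχa y x₁
    rw [h0, zero_mul, ha'3, ← map_pow, MulEquiv.map_eq_one_iff, ← ha'3, hx₁'] at e1
    exact one_ne_zero e1
  have hχmul : ∀ y z, χ (y * z) = χ y * χ z := fun y z => by
    have e1 := hχa (y * z) x₁
    rw [act_mul', hχa, hχa, hx₁', mul_one, mul_one] at e1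
    exact e1.symm
  obtain ⟨f₀, hf₀1, hf₀2⟩ := h.exists_retraction a' e (fun c d => c * θ d) ha'1
    (fun x => (ha'3 x).2) he1 he2 (fun _ _ _ => add_mul _ _ _)
    (fun _ _ _ => by rw [map_add, mul_add]) (fun x => ⟨m1 x, by rw [← hq1, hq8]⟩)
  have := Fintype.ofFinite Y
  have hYc : (Fintype.card Y : F) = 1 := by
    obtain ⟨k, hk⟩ := h.odd
    rw [← Nat.card_eq_fintype_card, hk]
    push_cast
    rw [CharTwo.two_eq_zero, zero_mul, zero_add]
  have hχ₀ne : ∀ y, χ₀ y ≠ 0 := fun y => by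
    rw [hχ0]; exact mul_ne_zero (hχne y) ((map_ne_zero θ).2 (hχne y))
  set f : P → F := fun x => ∑ y, (χ₀ y)⁻¹ * f₀ (φ y x) with hf
  have hf1 : ∀ x x', f (x * x') = f x + f x' + a' x * θ (a' x') := by
    intro x x'
    simp only [hf, map_mul, hf₀1, mul_add, Finset.sum_add_distrib, hχa]
    congr 1
    rw [Finset.sum_congr rfl (g := fun _ => a' x * θ (a' x')) fun y _ => by
      have := hχ₀ne y
      rw [show χ y * a' x * (θ (χ y) * θ (a' x')) = χ₀ y * (a' x * θ (a' x')) by rw [hχ0]; ring,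
        inv_mul_cancel_left₀ this]]
    rw [Finset.sum_const, Finset.card_univ, nsmul_eq_mul, hYc, one_mul]
  have hf2 : ∀ z ∈ omZ P, f z = e z := by
    intro z hz
    simp only [hf]
    rw [Finset.sum_congr rfl (g := fun _ => e z) fun y _ => by
      rw [hf₀2 _ (h.inv_omZ y z hz), hχ₀ y z hz, inv_mul_cancel_left₀ (hχ₀ne y)]]
    rw [Finset.sum_const, Finset.card_univ, nsmul_eq_mul, hYc, one_mul]
  have hf3 : ∀ y x, f (φ y x) = χ y * θ (χ y) * f x := by
    intro y x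
    simp only [hf]
    rw [← hχ0, Finset.mul_sum]
    refine Fintype.sum_equiv (Equiv.mulRight y) _ _ fun z => ?_
    rw [Equiv.coe_mulRight, act_mul', hχ0 (z * y), hχ0 y, hχ0 z, hχmul, map_mul]
    have e1 := hχne y
    have e2 := hχne z
    have e3 := (map_ne_zero θ).2 e1
    have e4 := (map_ne_zero θ).2 e2
    field_simp
  refine ⟨F, i1, i2, i3, θ, χ, a', f, fun hθ1 => ?_, hF, ?_, ha'1, hf1, ?_, fun c => ?_, hχmul,
    hχa, hf3⟩
  · obtain ⟨u, v, huv⟩ := hnc
    apply huv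
    have e1 := hq3 (a u) (a v)
    rw [hq8, hq8, hq8, hθ1, hq2] at e1
    simp only [RingEquiv.refl_apply, map_add] at e1
    refine he1.injOn (h.mem_omZ.2 (h.commutatorElement_sq ⟨u, v, huv⟩ u v)) (one_mem _) ?_
    rw [he0]
    have e2 : (2 : F) = 0 := CharTwo.two_eq_zero
    linear_combination (-1 : F) * e1 + σ (a u) * σ (a v) * e2
  · rw [Nat.bijective_iff_injective_and_card]
    refine ⟨fun x x' hxx => ?_, by rw [Nat.card_prod, hc, Nat.card_eq_fintype_card (α := F), hF, sq]⟩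
    simp only [Prod.mk.injEq] at hxx
    have e1 := ha'1 x (x⁻¹ * x')
    have e2 := hf1 x (x⁻¹ * x')
    rw [mul_inv_cancel_left] at e1 e2
    rw [hxx.1] at e1
    have e3 := left_eq_add.1 e1
    have e4 := h.mem_omZ.2 ((ha'3 _).1 e3)
    rw [e3, map_zero, mul_zero, add_zero, hxx.2, left_eq_add, hf2 _ e4, ← he0] at e2
    exact inv_mul_eq_one.1 (he1.injOn e4 (one_mem _) e2)
  · intro y z hyz
    by_contra hne
    have e1 : φ y (x₁ ^ 2) = φ z (x₁ ^ 2) := by
      refine he1.injOn (h.inv_omZ y _ (m1 x₁)) (h.inv_omZ z _ (m1 x₁)) ?_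
      rw [hχ₀ y _ (m1 x₁), hχ₀ z _ (m1 x₁), hχ0, hχ0, hyz]
    have e2 := hfpf (z⁻¹ * y) (fun h' => hne (inv_mul_eq_one.1 h').symm) (x₁ ^ 2)
      (by rw [act_mul', e1, act_inv_act'])
    rw [← ha'3, hx₁'] at e2
    exact one_ne_zero e2
  · refine ⟨fun hc => ?_, fun ⟨y, hy⟩ => hy ▸ hχne y⟩
    obtain ⟨y, hy⟩ := hχs (σ.symm c) ((map_ne_zero σ.symm).2 hc)
    exact ⟨y, by simp only [hχ, hy, RingEquiv.apply_symm_apply]⟩

end HigSetup

end CfsgLib.Suz
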