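import Mathlib
import Cfsg.Agent.Lib.Suz.Basic2
import Cfsg.Agent.Lib.Suz.HigmanB

/-! Project D: Higman's theorem on Suzuki 2-groups, in the form needed (cyclic `K` regular on the
involutions, fixed-point-free).

Sketch.  `Z₀ = Q0g S` is central of order `q`; every irreducible `K`-section is `≅ F_q` with `K` acting
regularly on the non-zero vectors.  Linear algebra: (M) a biadditive `β : U × U' → U`, `K`-equivariant,
is `0` or non-degenerate (`β z u = 0 → z = 0 ∨ u = 0`) [expand `β = Σ c_{στ} σ(z)τ(u)`; two pairs in the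
support give `η(k)σ'(k) = k ησ(k)`, and `α β = γ δ` on `F` forces `{α,β} = {γ,δ}` by polarizing];
(Alt) an alternating equivariant `U × U → U` is `0`.
L1 invariant abelian subgroups are homocyclic, their invariant subgroups are the `A^(2^i)`.
L2 `A` abelian normal invariant, `u ∉ A`: not both `u² ∈ A²` and `[A,u] ≤ A⁴`.
Let `A` be maximal abelian normal invariant, `C/A` an invariant chief factor.
L3 `exp A ≥ 8` ⇒ `[A,C] ≤ A⁴` (by (M): `[a,u] ≡ a²` for all `a ∉ A²`, `u ∉ A`, not additive in `u`).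
L7 `A = Φ(C)`, `C' ≤ A²` ⇒ `C` abelian (Alt, squaring is an isomorphism `C/A ≅ A/A²`).
`C' = A`, `[A,C] ≤ A⁴` impossible by `[u²,v] = [u,v]²[u,v,u]`.  So `exp A ≤ 4`.
L8 `C' = A`, `exp A = 4` impossible (`[u²,u] = 1`, `u² ∉ A²` by transitivity, (M), so `[A,C] = 1`).
L9 `Φ(S) ≤ A` (take `C ≤ AΦ(S)`; `Φ(S)` centralizes chains of length 2).
If `Φ(S) = A` has exponent 4: all covers `C` have `Φ(C) = Z₀`; two covers with `[X₁,X₂]Z₀ = A`;
`[[u,v],u] = [u,v]² = [[u,v],v]`; by (M) for fixed `u` at most one non-zero value of `[u,·]`, and a value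
determines `v`: `q/2 = 1`, absurd.  So `Φ(S) = Z₀`, squaring is an anisotropic quadratic map
`S/Z₀ → Z₀`, Chevalley–Warning gives `|S/Z₀| ≤ q²`.
Type A coordinates: `Q(x) = c σ(x) τ(x)`; split the symmetric cocycle `φ(a,c) - a θ(c)` (an elementary
abelian extension splits; average over `K`). -/

set_option autoImplicit false
set_option linter.unusedSectionVars false

namespace CfsgLib.Suz
open Subgroup
open scoped commutatorElement

variable {G : Type*} [Group G]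

/-- the cyclic group `K` acts on the 2-group `S` fixed-point-freely and transitively on the
(at least two) involutions -/
structure Sz2 (S K : Subgroup G) : Prop where
  pS : IsPGroup 2 S
  norm : ∀ k ∈ K, ∀ x ∈ S, k⁻¹ * x * k ∈ S
  cyc : IsCyclic K
  rank2 : Rank2 S
  trans : ∀ u ∈ S, ∀ v ∈ S, u ≠ 1 → u * u = 1 → v ≠ 1 → v * v = 1 → ∃ k ∈ K, v = k⁻¹ * u * k
  fpf : ∀ k ∈ K, k ≠ 1 → ∀ x ∈ S, k * x = x * k → x = 1

variable [Finite G] {S K : Subgroup G}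

theorem Sz2.inv (h : Sz2 S K) : CopAut.Inv (MulAut.conj.comp K.subtype) S := by
  intro k x hx
  have := h.norm _ (K.inv_mem k.2) x hx
  rwa [inv_inv] at this

/-- the conjugation action of `K` on `S` -/
def Sz2.act (h : Sz2 S K) : K →* MulAut S := restrInv h.inv

theorem Sz2.act_apply (h : Sz2 S K) (k : K) (x : S) : (h.act k x : G) = k * x * (k : G)⁻¹ := rfl

theorem Sz2.act_fpf (h : Sz2 S K) (k : K) (hk : k ≠ 1) (x : S) (hx : h.act k x = x) : x = 1 := by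
  have h1 := congrArg Subtype.val hx
  rw [h.act_apply, mul_inv_eq_iff_eq_mul] at h1
  exact Subtype.ext (h.fpf k k.2 (fun h' => hk (Subtype.ext h')) x x.2 h1)

theorem Sz2.odd_card (h : Sz2 S K) : Odd (Nat.card K) := by
  have : Fact (Nat.Prime 2) := ⟨Nat.prime_two⟩
  by_contra hev
  obtain ⟨k, hk, hk1, hkk⟩ := exists_invol_of_even (Nat.not_odd_iff_even.1 hev)
  set k' : K := ⟨k, hk⟩ with hk'
  have hk'1 : k' ≠ 1 := fun h' => hk1 (congrArg Subtype.val h')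
  have h1 : IsPGroup 2 (zpowers (h.act k')) := by
    refine IsPGroup.of_card_dvd_pow (n := 1) ?_
    rw [Nat.card_zpowers]
    apply orderOf_dvd_of_pow_eq_one
    rw [pow_one, ← map_pow, sq, show k' * k' = 1 from Subtype.ext hkk, map_one]
  obtain ⟨x, hx, -, -, hx1, -, -, hxx, -⟩ := h.rank2
  obtain ⟨b, hb, hb1⟩ := h1.exists_fixed_point_of_prime_dvd_card_of_fixed_point S
    (even_iff_two_dvd.1 (even_card_of_invol hx hx1 hxx)) (a := 1)
    (fun g => map_one (g : MulAut S))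
  exact hb1 (h.act_fpf k' hk'1 b (hb ⟨_, mem_zpowers _⟩)).symm

theorem Sz2.higSetup (h : Sz2 S K) : HigSetup h.act := by
  have := h.cyc
  refine ⟨h.pS, h.odd_card, inferInstance, fun x y hx1 hx hy1 hy => ?_, ?_⟩
  · obtain ⟨k, hk, hky⟩ := h.trans x x.2 y y.2 (fun h' => hx1 (Subtype.ext h'))
      (by rw [← sq]; exact congrArg Subtype.val hx) (fun h' => hy1 (Subtype.ext h'))
      (by rw [← sq]; exact congrArg Subtype.val hy)
    exact ⟨⟨k⁻¹, K.inv_mem hk⟩, Subtype.ext (by rw [h.act_apply, hky, inv_inv])⟩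
  · obtain ⟨x, hx, y, hy, hx1, hy1, hxy, hxx, hyy⟩ := h.rank2
    exact ⟨⟨x, hx⟩, ⟨y, hy⟩, fun h' => hxy (congrArg Subtype.val h'),
      fun h' => hx1 (congrArg Subtype.val h'), Subtype.ext (by rw [sq]; exact hxx),
      fun h' => hy1 (congrArg Subtype.val h'), Subtype.ext (by rw [sq]; exact hyy)⟩

theorem Sz2.Q0g_eq (h : Sz2 S K) : Q0g S = (omZ S).map S.subtype := by
  apply le_antisymm
  · rw [Q0g, closure_le]
    rintro x ⟨hx, hxx⟩
    exact ⟨⟨x, hx⟩, h.higSetup.mem_omZ.2 (Subtype.ext (by rw [sq]; exact hxx)), rfl⟩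
  · rintro _ ⟨x, hx, rfl⟩
    exact mem_Q0g_of x.2 (by rw [← sq]; exact congrArg Subtype.val hx.2)

theorem Sz2.mem_Q0g (h : Sz2 S K) {x : G} : x ∈ Q0g S ↔ x ∈ S ∧ x * x = 1 := by
  refine ⟨fun hx => ?_, fun hx => mem_Q0g_of hx.1 hx.2⟩
  rw [h.Q0g_eq] at hx
  obtain ⟨x, hx, rfl⟩ := hx
  exact ⟨x.2, by rw [← sq]; exact congrArg Subtype.val hx.2⟩

theorem Sz2.card_Q0g (h : Sz2 S K) : Nat.card (Q0g S) = Nat.card (omZ S) := by
  rw [h.Q0g_eq, card_map_of_injective (subtype_injective S)]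

theorem exists_comm_ne_one {P : Type*} [Group P] (hna : ¬ IsMulCommutative P) :
    ∃ u v : P, ⁅u, v⁆ ≠ 1 := by
  by_contra hcon
  push Not at hcon
  exact hna ⟨⟨fun a b => commutatorElement_eq_one_iff_mul_comm.1 (hcon a b)⟩⟩

/-- Higman's theorem, parts (a), (b) -/
theorem Sz2.higman (h : Sz2 S K) (hna : ¬ IsMulCommutative S) :
    (∀ x ∈ S, x * x ∈ Q0g S) ∧ (∀ x ∈ S, ∀ y ∈ S, ⁅x, y⁆ ∈ Q0g S) ∧
      (∀ x ∈ S, (∀ y ∈ S, x * y = y * x) ↔ x * x = 1) ∧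
      (Nat.card S = Nat.card (Q0g S) ^ 2 ∨ Nat.card S = Nat.card (Q0g S) ^ 3) := by
  have hnc := exists_comm_ne_one hna
  have H := h.higSetup
  refine ⟨fun x hx => h.mem_Q0g.2 ⟨mul_mem hx hx, ?_⟩, fun x hx y hy => h.mem_Q0g.2 ⟨?_, ?_⟩,
    fun x hx => ?_, h.card_Q0g ▸ H.card_eq hnc⟩
  · rw [← sq, ← sq]
    exact congrArg Subtype.val (H.sq_sq hnc ⟨x, hx⟩)
  · exact (⁅(⟨x, hx⟩ : S), (⟨y, hy⟩ : S)⁆).2
  · rw [← sq]
    exact congrArg Subtype.val (H.commutatorElement_sq hnc ⟨x, hx⟩ ⟨y, hy⟩)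
  · have h1 : (⟨x, hx⟩ : S) ∈ center S ↔ (⟨x, hx⟩ : S) ^ 2 = 1 := by
      rw [H.center_eq hnc, H.mem_omZ]
    rw [mem_center_iff, Subtype.ext_iff, sq] at h1
    refine Iff.trans ?_ h1
    exact ⟨fun h2 y => Subtype.ext (h2 y y.2).symm,
      fun h2 y hy => (congrArg Subtype.val (h2 ⟨y, hy⟩)).symm⟩

/-- `K`-equivariant coordinates for a Suzuki 2-group of type A -/
theorem Sz2.typeA (h : Sz2 S K) (hna : ¬ IsMulCommutative S)
    (hc : Nat.card S = Nat.card (Q0g S) ^ 2) :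
    ∃ (F : Type) (_ : Field F) (_ : Fintype F) (_ : CharP F 2) (θ : F ≃+* F) (χ : G → F)
      (e : F → F → G), θ ≠ RingEquiv.refl F ∧ Fintype.card F = Nat.card (Q0g S) ∧
      (∀ a b, e a b ∈ S) ∧ (∀ x ∈ S, ∃ a b, x = e a b) ∧
      (∀ a b c d, e a b = e c d → a = c ∧ b = d) ∧
      (∀ a b c d, e a b * e c d = e (a + c) (b + d + a * θ c)) ∧
      Set.BijOn χ K {a | a ≠ 0} ∧ (∀ a ∈ K, ∀ b ∈ K, χ (a * b) = χ a * χ b) ∧
      (∀ k ∈ K, ∀ a b, k⁻¹ * e a b * k = e (χ k * a) (χ k * θ (χ k) * b)) := by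
  classical
  have := h.cyc
  obtain ⟨F, i1, i2, i3, θ, χ, a, f, h1, h2, h3, h4, h5, h6, h7, h8, h9, h10⟩ :=
    h.higSetup.typeA (exists_comm_ne_one hna) inferInstance h.act_fpf (h.card_Q0g ▸ hc)
  set E := Equiv.ofBijective _ h3 with hE
  have hE1 : ∀ p : F × F, a (E.symm p) = p.1 := fun p => congrArg Prod.fst (E.apply_symm_apply p)
  have hE2 : ∀ p : F × F, f (E.symm p) = p.2 := fun p => congrArg Prod.snd (E.apply_symm_apply p)
  set χ' : G → F := fun g => if hg : g ∈ K then χ ⟨g, hg⟩⁻¹ else 0 with hχ'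
  have hχ : ∀ g (hg : g ∈ K), χ' g = χ ⟨g, hg⟩⁻¹ := fun g hg => dif_pos hg
  refine ⟨F, i1, i2, i3, θ, χ', fun x y => E.symm (x, y), h1, h.card_Q0g ▸ h2,
    fun _ _ => (E.symm _).2, fun x hx => ⟨a ⟨x, hx⟩, f ⟨x, hx⟩, ?_⟩, fun x y z w hxy => ?_,
    fun x y z w => ?_, ⟨fun k hk => ?_, fun k hk l hl hkl => ?_, fun c hc => ?_⟩,
    fun k hk l hl => ?_, fun k hk x y => ?_⟩
  · exact (congrArg Subtype.val (E.symm_apply_apply ⟨x, hx⟩)).symm
  · exact Prod.mk.inj (E.symm.injective (Subtype.ext hxy))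
  · rw [← Subgroup.coe_mul]
    congr 1
    apply h3.1
    simp only [h4, h5, hE1, hE2]
  · rw [Set.mem_ofPred_eq, hχ k hk, h7]
    exact ⟨_, rfl⟩
  · rw [hχ k hk, hχ l hl] at hkl
    exact congrArg Subtype.val (inv_injective (h6 hkl))
  · obtain ⟨y, rfl⟩ := (h7 c).1 hc
    exact ⟨(y⁻¹ : K), (y⁻¹).2, by rw [hχ _ (y⁻¹).2, Subtype.coe_eta, inv_inv]⟩
  · rw [hχ k hk, hχ l hl, hχ _ (mul_mem hk hl), mul_comm, ← h8, ← mul_inv_rev]
    rfl
  · have e1 : k⁻¹ * E.symm (x, y) * k = h.act ⟨k, hk⟩⁻¹ (E.symm (x, y)) := by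
      rw [h.act_apply, Subgroup.coe_inv, inv_inv]
    rw [e1, hχ k hk]
    congr 1
    apply h3.1
    simp only [h9, h10, hE1, hE2]

end CfsgLib.Suz
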