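import Mathlib
import Cfsg.Agent.Lib.Suz.Basic2
import Cfsg.Agent.Lib.Suz.HigmanA
import Cfsg.Agent.Lib.Suz.FieldAut
import Cfsg.Agent.Lib.FT.Main

/-! Project D: Peterfalvi II, Ch. I §2 Prop. 2 and 3 (`K` is a cyclic normal subgroup of `D`,
field model).  No faithfulness is needed.

Sketch (Prop 2): `D̄ = D/W` acts faithfully and transitively on `Q₀#`, odd order, solvable (FT).
`Ā = F(D̄)` is cyclic and fixed-point-free (Huppert).  `t` acts on `D̄`; it inverts `Ā`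
(`C_Ā(t)` is the image of elements of `V`, which fix `s`).  For `k ∈ K`: `k̄` acts on the cyclic `Ā`,
`t` acts on `Ā` as inversion, `Aut Ā` abelian, so `k̄` and `k̄^t = k̄⁻¹` act alike, so `k̄ ∈ C(Ā) ≤ Ā`.
`k ↦ k̄` is injective on `K` (`K_inj`), `|K| = q-1 ≥ |Ā|`, so `K̄ = Ā = ⟨k̄₀⟩`, powers of `k₀` lie in
`K`, so `K = ⟨k₀⟩`. -/

set_option autoImplicit false
set_option linter.unusedSectionVars false

namespace CfsgLib.Suz
open Subgroup Cfsg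
open scoped IsMulCommutative

variable {G : Type*} [Group G] [Finite G] {H Q : Subgroup G} {t : G}

theorem RO.inv_Q0 (R : RO H Q t) (h2 : Rank2 Q) :
    CopAut.Inv (MulAut.conj.comp (Dg H t).subtype) (Q0g Q) := by
  intro d u hu
  have := R.Q0_norm h2 (H.inv_mem (Dg_le d.2)) hu
  rwa [inv_inv] at this

/-- the action of `D` on `Q₀` -/
def RO.actQ0 (R : RO H Q t) (h2 : Rank2 Q) : Dg H t →* MulAut (Q0g Q) := restrInv (R.inv_Q0 h2)

theorem RO.actQ0_apply (R : RO H Q t) (h2 : Rank2 Q) (d : Dg H t) (u : Q0g Q) :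
    (R.actQ0 h2 d u : G) = d * u * (d : G)⁻¹ := rfl

theorem RO.actQ0_eq_one_iff (R : RO H Q t) (h2 : Rank2 Q) {d : Dg H t} :
    R.actQ0 h2 d = 1 ↔ (d : G) ∈ Wg H Q t := by
  constructor
  · intro h
    refine ⟨d.2, fun u hu => ?_⟩
    have h1 := congrArg Subtype.val (DFunLike.congr_fun h ⟨u, hu⟩)
    rw [R.actQ0_apply, mul_inv_eq_iff_eq_mul] at h1
    exact h1.symm
  · intro h
    ext u
    rw [R.actQ0_apply, mul_inv_eq_iff_eq_mul]
    exact (h.2 u u.2).symm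

/-- conjugation by `t` on `D` -/
def RO.tauD (R : RO H Q t) : Dg H t →* Dg H t :=
  MonoidHom.mk' (fun d => ⟨t * d * t, R.conj_t_mem_D d.2⟩) fun a b => Subtype.ext (by
    change t * (a * b) * t = t * a * t * (t * b * t)
    rw [← mul_assoc, ← mul_assoc, ← mul_assoc, R.tt''])

theorem RO.tauD_tauD (R : RO H Q t) (d : Dg H t) : R.tauD (R.tauD d) = d := Subtype.ext (by
  change t * (t * d * t) * t = d
  rw [← mul_assoc, R.tt'', R.tt'])

theorem RO.field_core (R : RO H Q t) (h2 : Rank2 Q) {s r : G} (hs : Dist Q t s r) :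
    ∃ (F : Type) (_ : Field F) (_ : Fintype F) (_ : CharP F 2) (e : G → F),
      Set.BijOn e (Q0g Q) Set.univ ∧ (∀ u ∈ Q0g Q, ∀ v ∈ Q0g Q, e (u * v) = e u + e v) ∧ e s = 1 ∧
      (∀ d ∈ Dg H t, ∃ j : ℕ, ∀ u ∈ Q0g Q, e (d⁻¹ * u * d) = e (d⁻¹ * s * d) * e u ^ 2 ^ j) ∧
      (∀ k ∈ Kset H t, ∀ u ∈ Q0g Q, e (k⁻¹ * u * k) = e (k⁻¹ * s * k) * e u) := by
  classical
  have : Fact (Nat.Prime 2) := ⟨Nat.prime_two⟩
  have hsQ : s ∈ Q0g Q := mem_Q0g_of hs.s_mem hs.ss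
  have : IsMulCommutative (Q0g Q) :=
    ⟨⟨fun a b => Subtype.ext (R.Q0_central h2 a.2 (Q0g_le b.2))⟩⟩
  have : Nontrivial (Q0g Q) := ⟨⟨⟨s, hsQ⟩, 1, fun h => hs.s_ne (congrArg Subtype.val h)⟩⟩
  set φ := R.actQ0 h2 with hφ
  have hd : Nat.card φ.range ∣ Nat.card (Dg H t) := card_range_dvd φ
  have hsol : Group.IsSolvable (Dg H t) := FT.feit_thompson R.odd
  have hsolY : Group.IsSolvable φ.range := Group.isSolvable_of_surjective φ.rangeRestrict_surjective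
  obtain ⟨F, i1, i2, i3, e₀, h1, h3, h4, h5⟩ := huppert_field_faithful (r := 2)
    (φ := φ.range.subtype) Subtype.val_injective (Odd.of_dvd_nat R.odd hd) hsolY
    (fun v => Subtype.ext (by
      change (v : G) ^ 2 = 1
      rw [sq]; exact ((R.mem_Q0 h2).1 v.2).2))
    (Nat.coprime_two_right.2 (Odd.of_dvd_nat R.odd hd))
    (fun a b ha hb => by
      obtain ⟨k, hk, hka⟩ := R.exists_K_conj hs (Q0g_le a.2) (fun h => ha (Subtype.ext h))
        ((R.mem_Q0 h2).1 a.2).2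
      obtain ⟨l, hl, hlb⟩ := R.exists_K_conj hs (Q0g_le b.2) (fun h => hb (Subtype.ext h))
        ((R.mem_Q0 h2).1 b.2).2
      refine ⟨⟨φ ⟨l⁻¹ * k, mul_mem (inv_mem hl.1) hk.1⟩, _, rfl⟩, Subtype.ext ?_⟩
      change l⁻¹ * k * a * (l⁻¹ * k)⁻¹ = b
      rw [hka, hlb]; group)
  have he0 : e₀ 1 = 0 := by
    have := h3 1 1
    rw [mul_one] at this
    exact left_eq_add.1 this
  set s₀ : Q0g Q := ⟨s, hsQ⟩ with hs₀
  have hes : e₀ s₀ ≠ 0 := fun h => hs.s_ne (congrArg Subtype.val (h1.1 (h.trans he0.symm)))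
  set ψ := φ.rangeRestrict with hψ
  have hψ1 : ∀ d, ψ d = 1 ↔ (d : G) ∈ Wg H Q t := fun d => by
    rw [← R.actQ0_eq_one_iff h2, Subtype.ext_iff]; rfl
  have hψs := φ.rangeRestrict_surjective
  have hτW : ∀ d, ψ d = 1 → ψ (R.tauD d) = 1 := by
    intro d hd
    have h6 : R.tauD d = d := Subtype.ext (by
      change t * d * t = d
      rw [(mem_Vg_iff.1 (R.W_le_V ((hψ1 d).1 hd))).2, R.tt''])
    rwa [h6]
  have hτ : ∀ a b, ψ a = ψ b → ψ (R.tauD a) = ψ (R.tauD b) := by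
    intro a b hab
    have h6 := hτW (a * b⁻¹) (by rw [map_mul, map_inv, hab, mul_inv_cancel])
    rwa [map_mul, map_mul, map_inv, map_inv, mul_inv_eq_one] at h6
  have hFc : ∀ x ∈ fittingSubgroup φ.range, ∀ y ∈ fittingSubgroup φ.range, x * y = y * x := by
    intro x hx y hy
    obtain ⟨c, hc⟩ := (h5 x).1 hx
    obtain ⟨c', hc'⟩ := (h5 y).1 hy
    apply Subtype.ext
    ext v : 1
    apply h1.1
    change e₀ (φ.range.subtype (x * y) v) = e₀ (φ.range.subtype (y * x) v)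
    rw [act_mul, act_mul, hc, hc', hc', hc]
    ring
  have hτA : ∀ a, ψ a ∈ fittingSubgroup φ.range → ψ (R.tauD a) ∈ fittingSubgroup φ.range := by
    set N := (((fittingSubgroup φ.range).comap ψ).comap R.tauD).map ψ with hN
    have : N.Normal := Subgroup.Normal.map inferInstance _ hψs
    have : IsMulCommutative N := by
      refine ⟨⟨?_⟩⟩
      rintro ⟨_, x, hx, rfl⟩ ⟨_, y, hy, rfl⟩
      apply Subtype.ext
      change ψ x * ψ y = ψ y * ψ x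
      have h6 : ψ (R.tauD (x * y)) = ψ (R.tauD (y * x)) := by
        simp only [map_mul]
        exact hFc _ hx _ hy
      have h7 := hτ _ _ h6
      rwa [R.tauD_tauD, R.tauD_tauD, map_mul, map_mul] at h7
    intro a ha
    refine le_fitting_of_isMulCommutative (N := N) ⟨R.tauD a, ?_, rfl⟩
    change ψ (R.tauD (R.tauD a)) ∈ fittingSubgroup φ.range
    rwa [R.tauD_tauD]
  have hinv : ∀ a, ψ a ∈ fittingSubgroup φ.range → ψ (R.tauD a) = (ψ a)⁻¹ := by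
    intro a ha
    set b := a * R.tauD a with hb
    have hbF : ψ b ∈ fittingSubgroup φ.range := by
      rw [hb, map_mul]; exact mul_mem ha (hτA a ha)
    have hbτ : ψ (R.tauD b) = ψ b := by
      rw [hb, map_mul R.tauD, R.tauD_tauD, map_mul, map_mul, hFc _ ha _ (hτA a ha)]
    obtain ⟨v, hv, k, hk, hvk⟩ := R.D_eq_V_mul_K b.2
    have h6 : (R.tauD b : G) = v * k⁻¹ := by
      change t * b * t = _
      rw [hvk, ← hk.2, ← mul_assoc, (mem_Vg_iff.1 hv).2]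
      group
    have h7 : ((b⁻¹ * R.tauD b : Dg H t) : G) ∈ Wg H Q t := by
      rw [← hψ1, map_mul, map_inv, hbτ, inv_mul_cancel]
    have h8 : ((b⁻¹ * R.tauD b : Dg H t) : G) = (k ^ 2)⁻¹ := by
      rw [Subgroup.coe_mul, Subgroup.coe_inv, h6, hvk, sq]; group
    rw [h8] at h7
    have h9 : k ^ 2 = 1 := by
      by_contra hne
      exact hs.s_ne (R.K_fpf (R.K_pow hk 2) hne hs.s_mem ((inv_mem_iff.1 h7).2 s hsQ).symm)
    have h10 : k = 1 := R.D_eq_of_sq hk.1 (one_mem _) (by rw [← sq, h9, one_mul])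
    rw [h10, mul_one] at hvk
    obtain ⟨c, hc⟩ := (h5 _).1 hbF
    have h11 : φ.range.subtype (ψ b) s₀ = s₀ := Subtype.ext (by
      change (b : G) * s * (b : G)⁻¹ = s
      rw [hvk, ← R.V_comm_s hs hv, mul_inv_cancel_right])
    have h12 := hc s₀
    rw [h11] at h12
    have h13 : c = 1 := (mul_eq_right₀ hes).1 h12.symm
    have h14 : ψ b = 1 := by
      apply Subtype.ext
      ext v : 1
      apply h1.1
      have := hc v
      rwa [h13, one_mul] at this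
    rw [hb, map_mul] at h14
    exact eq_inv_of_mul_eq_one_right h14
  have hK : ∀ k (hk : k ∈ Kset H t), ψ ⟨k, hk.1⟩ ∈ fittingSubgroup φ.range := by
    intro k hk
    set k' : Dg H t := ⟨k, hk.1⟩ with hk'
    have hτk : R.tauD k' = k'⁻¹ := Subtype.ext hk.2
    have h6 : ψ k' * ψ k' ∈ fittingSubgroup φ.range := by
      apply centralizer_fitting_le
      intro x hx
      obtain ⟨a, rfl⟩ := hψs x
      have h7 := hinv (k' * a * k'⁻¹) (by
        rw [map_mul, map_mul, map_inv]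
        exact (inferInstance : (fittingSubgroup φ.range).Normal).conj_mem _ hx _)
      simp only [map_mul, map_inv, hτk, inv_inv, hinv a hx] at h7
      change ψ a * _ = _ * ψ a
      calc ψ a * (ψ k' * ψ k') = ψ k' * ((ψ k')⁻¹ * (ψ a)⁻¹ * ψ k')⁻¹ * ψ k' := by group
        _ = ψ k' * ψ k' * ψ a := by rw [h7]; group
    obtain ⟨j, hj⟩ := exists_sq_eq_of_odd R.odd (pow_card_eq_one' (x := k'))
    have h8 : ψ k' = (ψ k' * ψ k') ^ j := by
      rw [← sq, ← pow_mul, two_mul, pow_add, ← map_pow, ← map_mul, hj]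
    rw [h8]
    exact pow_mem h6 j
  set e : G → F := fun x => if hx : x ∈ Q0g Q then e₀ ⟨x, hx⟩ / e₀ s₀ else 0 with he
  have hea : ∀ x (hx : x ∈ Q0g Q), e x = e₀ ⟨x, hx⟩ / e₀ s₀ := fun x hx => dif_pos hx
  have hes1 : e s = 1 := by rw [hea s hsQ]; exact div_self hes
  refine ⟨F, i1, i2, i3, e, ⟨fun _ _ => trivial, fun x hx y hy hxy => ?_, fun a _ => ?_⟩,
    fun v hv w hw => ?_, hes1, fun d hd => ?_, fun k hk u hu => ?_⟩
  · rw [hea x hx, hea y hy, div_left_inj' hes] at hxy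
    exact congrArg Subtype.val (h1.1 hxy)
  · obtain ⟨v, hv⟩ := h1.2 (a * e₀ s₀)
    exact ⟨v, v.2, by rw [hea v v.2, hv, mul_div_cancel_right₀ _ hes]⟩
  · rw [hea v hv, hea w hw, hea _ (mul_mem hv hw), ← add_div]
    exact congrArg (· / e₀ s₀) (h3 ⟨v, hv⟩ ⟨w, hw⟩)
  · obtain ⟨c, j, -, hc⟩ := h4 (ψ ⟨d, hd⟩⁻¹)
    have h6 : ∀ u (hu : u ∈ Q0g Q), e (d⁻¹ * u * d) = c * e₀ ⟨u, hu⟩ ^ 2 ^ j / e₀ s₀ := by
      intro u hu
      rw [hea _ (R.Q0_norm h2 (Dg_le hd) hu), ← hc]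
      congr 2
      apply Subtype.ext
      change _ = d⁻¹ * u * d⁻¹⁻¹
      rw [inv_inv]
    refine ⟨j, fun u hu => ?_⟩
    rw [h6 u hu, h6 s hsQ, hea u hu, div_pow, ← hs₀]
    have : e₀ s₀ ^ 2 ^ j ≠ 0 := pow_ne_zero _ hes
    field_simp
  · obtain ⟨c, hc⟩ := (h5 _).1 (inv_mem (hK k hk))
    have h6 : ∀ u (hu : u ∈ Q0g Q), e (k⁻¹ * u * k) = c * e₀ ⟨u, hu⟩ / e₀ s₀ := by
      intro u hu
      rw [hea _ (R.Q0_norm h2 (Dg_le hk.1) hu), ← hc, ← map_inv]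
      congr 2
      apply Subtype.ext
      change _ = k⁻¹ * u * k⁻¹⁻¹
      rw [inv_inv]
    rw [h6 u hu, h6 s hsQ, hea u hu, ← hs₀]
    field_simp

theorem RO.bijOn_chi (R : RO H Q t) (h2 : Rank2 Q) {s r : G} (hs : Dist Q t s r) {F : Type*}
    [Field F] {e : G → F} (he : Set.BijOn e (Q0g Q) Set.univ)
    (hadd : ∀ u ∈ Q0g Q, ∀ v ∈ Q0g Q, e (u * v) = e u + e v) :
    Set.BijOn (fun k => e (k⁻¹ * s * k)) (Kset H t) {a | a ≠ 0} := by
  have hsQ : s ∈ Q0g Q := mem_Q0g_of hs.s_mem hs.ss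
  have he0 : e 1 = 0 := by
    have := hadd 1 (one_mem _) 1 (one_mem _)
    rw [mul_one] at this
    exact left_eq_add.1 this
  refine ⟨fun k hk h0 => ?_, fun a ha b hb hab => ?_, fun a ha => ?_⟩
  · have h1 := he.injOn (R.Q0_norm h2 (Dg_le hk.1) hsQ) (one_mem _) (h0.trans he0.symm)
    apply hs.s_ne
    calc s = k * (k⁻¹ * s * k) * k⁻¹ := by group
      _ = 1 := by rw [h1]; group
  · exact R.K_inj hs ha hb
      (he.injOn (R.Q0_norm h2 (Dg_le ha.1) hsQ) (R.Q0_norm h2 (Dg_le hb.1) hsQ) hab)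
  · obtain ⟨u, hu, rfl⟩ := he.surjOn (Set.mem_univ a)
    obtain ⟨k, hk, hku⟩ := R.exists_K_conj hs (Q0g_le hu) (fun h => ha (by rw [h, he0]))
      ((R.mem_Q0 h2).1 hu).2
    exact ⟨k, hk, by rw [hku]⟩

theorem RO.exists_K_eq_zpowers (R : RO H Q t) (h2 : Rank2 Q) :
    ∃ k₀ : G, ∀ k, k ∈ Kset H t ↔ k ∈ zpowers k₀ := by
  obtain ⟨s, r, hs⟩ := R.exists_dist
  have hsQ : s ∈ Q0g Q := mem_Q0g_of hs.s_mem hs.ss
  obtain ⟨F, _, _, _, e, h1, h3, h4, -, h5⟩ := R.field_core h2 hs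
  have hχ := R.bijOn_chi h2 hs h1 h3
  obtain ⟨g, hg⟩ := IsCyclic.exists_monoid_generator (α := Fˣ)
  obtain ⟨k₀, hk₀, hkg⟩ := hχ.surjOn (show (g : F) ∈ {a | a ≠ 0} from g.ne_zero)
  simp only at hkg
  have hpow : ∀ j : ℕ, e ((k₀ ^ j)⁻¹ * s * k₀ ^ j) = g ^ j := by
    intro j
    induction j with
    | zero => simpa using h4
    | succ j ih =>
      have : (k₀ ^ (j + 1))⁻¹ * s * k₀ ^ (j + 1) = k₀⁻¹ * ((k₀ ^ j)⁻¹ * s * k₀ ^ j) * k₀ := by
        rw [pow_succ]; group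
      rw [this, h5 k₀ hk₀ _ (R.Q0_norm h2 (Dg_le (R.K_pow hk₀ j).1) hsQ), ih, hkg, pow_succ']
  refine ⟨k₀, fun k => ⟨fun hk => ?_, fun hk => ?_⟩⟩
  · obtain ⟨j, hj⟩ := hg (Units.mk0 _ (hχ.mapsTo hk))
    have h6 := congrArg Units.val hj
    simp only [Units.val_pow_eq_pow_val, Units.val_mk0] at h6
    rw [← hpow] at h6
    rw [← hχ.injOn (R.K_pow hk₀ j) hk h6]
    exact pow_mem (mem_zpowers k₀) j
  · obtain ⟨j, rfl⟩ := mem_powers_iff_mem_zpowers.2 hk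
    exact R.K_pow hk₀ j

theorem RO.Kg_eq_of (R : RO H Q t) {k₀ : G} (h : ∀ k, k ∈ Kset H t ↔ k ∈ zpowers k₀) :
    Kg H t = zpowers k₀ := by
  have _ := R
  rw [Kg, show Kset H t = zpowers k₀ from Set.ext h, closure_eq]

theorem RO.mem_Kg (R : RO H Q t) (h2 : Rank2 Q) {k : G} : k ∈ Kg H t ↔ k ∈ Kset H t := by
  obtain ⟨k₀, h⟩ := R.exists_K_eq_zpowers h2
  rw [R.Kg_eq_of h, h]

theorem RO.isCyclic_Kg (R : RO H Q t) (h2 : Rank2 Q) : IsCyclic (Kg H t) := by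
  obtain ⟨k₀, h⟩ := R.exists_K_eq_zpowers h2
  rw [R.Kg_eq_of h]
  infer_instance

theorem RO.card_Kg (R : RO H Q t) (h2 : Rank2 Q) : Nat.card (Kg H t) + 1 = Nat.card (Q0g Q) := by
  rw [← R.ncard_K h2, ← Nat.card_coe_set_eq,
    show Kset H t = (Kg H t : Set G) from Set.ext fun k => (R.mem_Kg h2).symm]
  rfl

theorem RO.K_mul (R : RO H Q t) (h2 : Rank2 Q) {k l : G} (hk : k ∈ Kset H t) (hl : l ∈ Kset H t) :
    k * l ∈ Kset H t :=
  (R.mem_Kg h2).1 (mul_mem ((R.mem_Kg h2).2 hk) ((R.mem_Kg h2).2 hl))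

theorem RO.K_comm (R : RO H Q t) (h2 : Rank2 Q) {k l : G} (hk : k ∈ Kset H t) (hl : l ∈ Kset H t) :
    k * l = l * k := by
  obtain ⟨k₀, h⟩ := R.exists_K_eq_zpowers h2
  obtain ⟨i, rfl⟩ := (h k).1 hk
  obtain ⟨j, rfl⟩ := (h l).1 hl
  exact zpow_mul_comm k₀ i j

theorem RO.K_conj_D (R : RO H Q t) (h2 : Rank2 Q) {k d : G} (hk : k ∈ Kset H t) (hd : d ∈ Dg H t) :
    d⁻¹ * k * d ∈ Kset H t := by
  obtain ⟨v, hv, l, hl, rfl⟩ := R.D_eq_V_mul_K hd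
  have : (v * l)⁻¹ * k * (v * l) = l⁻¹ * (v⁻¹ * k * v) * l := by group
  rw [this]
  exact R.K_mul h2 (R.K_mul h2 (R.K_inv hl) (R.K_conj_V hk hv)) hl

/-- field model of `Q₀ ⋊ D/W` (Prop. 3) -/
theorem RO.field_model (R : RO H Q t) (h2 : Rank2 Q) {s r : G} (hs : Dist Q t s r) :
    ∃ (F : Type) (_ : Field F) (_ : Fintype F) (_ : CharP F 2) (e χ : G → F),
      Set.BijOn e (Q0g Q) Set.univ ∧ (∀ u ∈ Q0g Q, ∀ v ∈ Q0g Q, e (u * v) = e u + e v) ∧ e s = 1 ∧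
      Set.BijOn χ (Kset H t) {a | a ≠ 0} ∧
      (∀ a ∈ Kset H t, ∀ b ∈ Kset H t, χ (a * b) = χ a * χ b) ∧
      (∀ k ∈ Kset H t, ∀ u ∈ Q0g Q, e (k⁻¹ * u * k) = χ k * e u) ∧
      (∀ v ∈ Vg H t, ∃ σ : F ≃+* F, ∀ u ∈ Q0g Q, e (v⁻¹ * u * v) = σ (e u)) := by
  have : Fact (Nat.Prime 2) := ⟨Nat.prime_two⟩
  have hsQ : s ∈ Q0g Q := mem_Q0g_of hs.s_mem hs.ss
  obtain ⟨F, i1, i2, i3, e, h1, h3, h4, h5, h6⟩ := R.field_core h2 hs
  refine ⟨F, i1, i2, i3, e, fun k => e (k⁻¹ * s * k), h1, h3, h4, R.bijOn_chi h2 hs h1 h3,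
    fun a ha b hb => ?_, h6, fun v hv => ?_⟩
  · have : (a * b)⁻¹ * s * (a * b) = b⁻¹ * (a⁻¹ * s * a) * b := by group
    simp only
    rw [this, h6 b hb _ (R.Q0_norm h2 (Dg_le ha.1) hsQ), mul_comm]
  · obtain ⟨j, hj⟩ := h5 v (Vg_le_Dg hv)
    refine ⟨iterateFrobeniusEquiv F 2 j, fun u hu => ?_⟩
    rw [hj u hu, (R.dist_conj_V hs hv).1, h4, one_mul]
    rfl

/-- Galois correspondence in `V/W` -/
theorem RO.mem_zpowers_sup_W (R : RO H Q t) (h2 : Rank2 Q) {v w : G} (hv : v ∈ Vg H t)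
    (hw : w ∈ Vg H t) (h : ∀ u ∈ Q0g Q, u * v = v * u → u * w = w * u) :
    ∃ j : ℕ, ∃ w' ∈ Wg H Q t, w = v ^ j * w' := by
  obtain ⟨s, r, hs⟩ := R.exists_dist
  obtain ⟨F, _, _, _, e, χ, h1, -, -, -, -, -, h3⟩ := R.field_model h2 hs
  obtain ⟨σ, hσ⟩ := h3 v hv
  obtain ⟨τ, hτ⟩ := h3 w hw
  have hvH : v ∈ H := Dg_le (Vg_le_Dg hv)
  have hwH : w ∈ H := Dg_le (Vg_le_Dg hw)
  obtain ⟨j, hj⟩ := ringEquiv_eq_pow_of_fix σ τ fun x hx => by
    obtain ⟨u, hu, rfl⟩ := h1.surjOn (Set.mem_univ x)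
    rw [← hσ u hu] at hx
    have h4 := h1.injOn (R.Q0_norm h2 hvH hu) hu hx
    have h5 := h u hu (by rw [mul_assoc, inv_mul_eq_iff_eq_mul] at h4; exact h4)
    rw [← hτ u hu, mul_assoc, h5, inv_mul_cancel_left]
  have hpow : ∀ i : ℕ, ∀ u ∈ Q0g Q, e ((v ^ i)⁻¹ * u * v ^ i) = (σ ^ i) (e u) := by
    intro i
    induction i with
    | zero => intro u _; simp
    | succ i ih =>
      intro u hu
      have : (v ^ (i + 1))⁻¹ * u * v ^ (i + 1) = v⁻¹ * ((v ^ i)⁻¹ * u * v ^ i) * v := by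
        rw [pow_succ]; group
      rw [this, hσ _ (R.Q0_norm h2 (pow_mem hvH i) hu), ih u hu, pow_succ']
      rfl
  refine ⟨j, (v ^ j)⁻¹ * w, ⟨(Dg H t).mul_mem (inv_mem (pow_mem (Vg_le_Dg hv) j)) (Vg_le_Dg hw),
    fun u hu => ?_⟩, by group⟩
  have hu' : v ^ j * u * (v ^ j)⁻¹ ∈ Q0g Q := by
    have := R.Q0_norm h2 (inv_mem (pow_mem hvH j)) hu
    rwa [inv_inv] at this
  have h4 := h1.injOn (R.Q0_norm h2 hwH hu') (R.Q0_norm h2 (pow_mem hvH j) hu')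
    (by rw [hτ _ hu', hpow j _ hu', hj])
  calc u * ((v ^ j)⁻¹ * w) = (v ^ j)⁻¹ * w * (w⁻¹ * (v ^ j * u * (v ^ j)⁻¹) * w) := by group
    _ = (v ^ j)⁻¹ * w * u := by rw [h4]; group

theorem RO.relIndex_W_dvd (R : RO H Q t) (h2 : Rank2 Q) {n : ℕ} (hn : Nat.card (Q0g Q) = 2 ^ n) :
    (Wg H Q t).relIndex (Vg H t) ∣ n := by
  have : Fact (Nat.Prime 2) := ⟨Nat.prime_two⟩
  obtain ⟨s, r, hs⟩ := R.exists_dist
  obtain ⟨F, _, _, _, e, χ, h1, -, -, -, -, -, h3⟩ := R.field_model h2 hs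
  have hF : Nat.card F = 2 ^ n := by
    rw [← hn, ← Nat.card_congr (Equiv.Set.univ F)]
    exact (Nat.card_congr h1.equiv).symm
  have h4 : ∀ v : Vg H t, ∃ σ : F ≃+* F, ∀ u ∈ Q0g Q, e (v * u * (v : G)⁻¹) = σ (e u) := by
    intro v
    have := h3 _ (inv_mem v.2)
    rwa [inv_inv] at this
  choose σ hσ using h4
  have hN : ∀ v : Vg H t, ∀ u ∈ Q0g Q, v * u * (v : G)⁻¹ ∈ Q0g Q := by
    intro v u hu
    have := R.Q0_norm h2 (inv_mem (Dg_le (Vg_le_Dg v.2))) hu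
    rwa [inv_inv] at this
  set f : Vg H t →* RingAut F := MonoidHom.mk' σ fun v w => by
    ext x
    obtain ⟨u, hu, rfl⟩ := h1.surjOn (Set.mem_univ x)
    change _ = σ v (σ w (e u))
    rw [← hσ _ u hu, ← hσ w u hu, ← hσ v _ (hN w u hu)]
    congr 1
    rw [Subgroup.coe_mul]; group with hf
  have hker : f.ker = (Wg H Q t).subgroupOf (Vg H t) := by
    ext v
    rw [MonoidHom.mem_ker, mem_subgroupOf]
    constructor
    · intro hv
      refine ⟨Vg_le_Dg v.2, fun u hu => ?_⟩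
      have h5 := hσ v u hu
      rw [show σ v = 1 from hv] at h5
      have h6 := h1.injOn (hN v u hu) hu h5
      rw [mul_inv_eq_iff_eq_mul] at h6
      exact h6.symm
    · intro hv
      ext x
      obtain ⟨u, hu, rfl⟩ := h1.surjOn (Set.mem_univ x)
      change σ v (e u) = e u
      rw [← hσ v u hu, ← hv.2 u hu, mul_inv_cancel_right]
  rw [relIndex, ← hker, index_ker, ← card_ringAut hF]
  exact card_subgroup_dvd_card _

end CfsgLib.Suz
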