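import Mathlib
import Cfsg.Agent.Lib.Suz.Basic2

/-! Project D: rank one subgroups and extension of homomorphisms. -/

set_option autoImplicit false

namespace CfsgLib.Suz
open Subgroup

variable {G : Type*} [Group G]

/-- `Q D ∪ Q D τ Q` is a subgroup -/
theorem exists_BN {Q D : Subgroup G} {τ : G} (hτ : τ * τ = 1)
    (hn : ∀ d ∈ D, ∀ x ∈ Q, d⁻¹ * x * d ∈ Q) (ht : ∀ d ∈ D, τ * d * τ ∈ D)
    (hf : ∀ x ∈ Q, x ≠ 1 → ∃ a ∈ Q, ∃ d ∈ D, ∃ y ∈ Q, τ * x * τ = a * d * τ * y) :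
    ∃ L : Subgroup G, ∀ g, g ∈ L ↔
      (∃ x ∈ Q, ∃ d ∈ D, g = x * d) ∨ (∃ x ∈ Q, ∃ d ∈ D, ∃ y ∈ Q, g = x * d * τ * y) := by
  set S : G → Prop := fun g =>
    (∃ x ∈ Q, ∃ d ∈ D, g = x * d) ∨ (∃ x ∈ Q, ∃ d ∈ D, ∃ y ∈ Q, g = x * d * τ * y) with hS
  have hτ' : ∀ g, τ * (τ * g) = g := fun g => by rw [← mul_assoc, hτ, one_mul]
  have hn' : ∀ d ∈ D, ∀ x ∈ Q, d * x * d⁻¹ ∈ Q := fun d hd x hx => by
    simpa using hn d⁻¹ (D.inv_mem hd) x hx
  have h1 : ∀ a ∈ Q, ∀ g, S g → S (a * g) := by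
    rintro a ha g (⟨x, hx, d, hd, rfl⟩ | ⟨x, hx, d, hd, y, hy, rfl⟩)
    · exact Or.inl ⟨a * x, Q.mul_mem ha hx, d, hd, by group⟩
    · exact Or.inr ⟨a * x, Q.mul_mem ha hx, d, hd, y, hy, by group⟩
  have h2 : ∀ a ∈ D, ∀ g, S g → S (a * g) := by
    rintro a ha g (⟨x, hx, d, hd, rfl⟩ | ⟨x, hx, d, hd, y, hy, rfl⟩)
    · exact Or.inl ⟨_, hn' a ha x hx, a * d, D.mul_mem ha hd, by group⟩
    · exact Or.inr ⟨_, hn' a ha x hx, a * d, D.mul_mem ha hd, y, hy, by group⟩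
  have h3 : ∀ g, S g → S (τ * g) := by
    rintro g (⟨x, hx, d, hd, rfl⟩ | ⟨x, hx, d, hd, y, hy, rfl⟩)
    · refine Or.inr ⟨1, Q.one_mem, _, ht d hd, _, hn d hd x hx, ?_⟩
      simp only [mul_assoc, hτ', one_mul, mul_inv_cancel_left]
    · by_cases h : x = 1
      · subst h
        refine Or.inl ⟨_, hn' _ (ht d hd) y hy, _, ht d hd, ?_⟩
        simp only [mul_assoc, one_mul, inv_mul_cancel, mul_one]
      · obtain ⟨a, ha, d', hd', y', hy', e⟩ := hf x hx h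
        refine Or.inr ⟨a, ha, d' * d, D.mul_mem hd' hd, _,
          Q.mul_mem (hn _ (ht d hd) y' hy') hy, ?_⟩
        calc τ * (x * d * τ * y) = (τ * x * τ) * (τ * d * τ) * y := by
              simp only [mul_assoc, hτ']
          _ = a * (d' * d) * τ * ((τ * d * τ)⁻¹ * y' * (τ * d * τ) * y) := by
              rw [e]
              simp only [mul_inv_rev, inv_eq_of_mul_self hτ, mul_assoc, hτ', mul_inv_cancel_left]
  have h0 : S 1 := Or.inl ⟨1, Q.one_mem, 1, D.one_mem, by simp⟩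
  refine ⟨⟨⟨⟨{g | S g}, ?_⟩, h0⟩, ?_⟩, fun g => Iff.rfl⟩
  · rintro a b (⟨x, hx, d, hd, rfl⟩ | ⟨x, hx, d, hd, y, hy, rfl⟩) hb
    · rw [mul_assoc]; exact h1 x hx _ (h2 d hd _ hb)
    · rw [mul_assoc, mul_assoc, mul_assoc]; exact h1 x hx _ (h2 d hd _ (h3 _ (h1 y hy _ hb)))
  · rintro a (⟨x, hx, d, hd, rfl⟩ | ⟨x, hx, d, hd, y, hy, rfl⟩)
    · have := h2 _ (D.inv_mem hd) _ (h1 _ (Q.inv_mem hx) _ h0)
      show S _
      simpa only [mul_inv_rev, mul_one] using this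
    · have := h1 _ (Q.inv_mem hy) _ (h3 _ (h2 _ (D.inv_mem hd) _ (h1 _ (Q.inv_mem hx) _ h0)))
      show S _
      simpa only [mul_inv_rev, mul_one, inv_eq_of_mul_self hτ, mul_assoc] using this

namespace RO
variable {H Q : Subgroup G} {t : G} (R : RO H Q t)
include R

/-- rank one subgroups -/
theorem exists_sub [Finite G] {Q' D' : Subgroup G} (hQ : Q' ≤ Q) (hD : D' ≤ Dg H t)
    (hn : ∀ d ∈ D', ∀ x ∈ Q', d⁻¹ * x * d ∈ Q') (ht : ∀ d ∈ D', t * d * t ∈ D')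
    (hf : ∀ x ∈ Q', x ≠ 1 → ∃ a ∈ Q', ∃ d ∈ D', ∃ y ∈ Q', t * x * t = a * d * t * y)
    (hev : Even (Nat.card Q')) :
    ∃ (L : Subgroup G) (htL : t ∈ L), Q ⊓ L = Q' ∧ Dg H t ⊓ L = D' ∧
      (∀ M : Subgroup G, Q' ≤ M → D' ≤ M → t ∈ M → L ≤ M) ∧
      RO (H.subgroupOf L) (Q.subgroupOf L) ⟨t, htL⟩ := by
  obtain ⟨L, hL⟩ := exists_BN R.tt hn ht hf
  have htL : t ∈ L := (hL t).2 (Or.inr ⟨1, one_mem _, 1, one_mem _, 1, one_mem _, by simp⟩)
  have hdec : ∀ x ∈ Q, ∀ d ∈ Dg H t, x * d ∈ L → x ∈ Q' ∧ d ∈ D' := by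
    intro x hx d hd h
    rcases (hL _).1 h with ⟨x', hx', d', hd', e⟩ | ⟨x', hx', d', hd', y, hy, e⟩
    · obtain ⟨rfl, rfl⟩ := R.dec_unique hx (hQ hx') hd (hD hd') e
      exact ⟨hx', hd'⟩
    · exact absurd (e ▸ H.mul_mem (R.le hx) (Dg_le hd))
        (R.notMem_canon (H.mul_mem (R.le (hQ hx')) (Dg_le (hD hd'))) (R.le (hQ hy)))
  have hQL : Q' ≤ L := fun x hx => (hL x).2 (Or.inl ⟨x, hx, 1, one_mem _, by simp⟩)
  have hDL : D' ≤ L := fun x hx => (hL x).2 (Or.inl ⟨1, one_mem _, x, hx, by simp⟩)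
  have e1 : Q ⊓ L = Q' := le_antisymm
    (fun x hx => (hdec x hx.1 1 (one_mem _) (by simpa using hx.2)).1) (le_inf hQ hQL)
  refine ⟨L, htL, e1, le_antisymm
    (fun x hx => (hdec 1 (one_mem _) x hx.1 (by simpa using hx.2)).2) (le_inf hD hDL), ?_, ?_⟩
  · intro M h1 h2 h3 g hg
    rcases (hL _).1 hg with ⟨x', hx', d', hd', rfl⟩ | ⟨x', hx', d', hd', y, hy, rfl⟩
    · exact M.mul_mem (h1 hx') (h2 hd')
    · exact M.mul_mem (M.mul_mem (M.mul_mem (h1 hx') (h2 hd')) h3) (h1 hy)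
  · refine R.sub htL (fun x hx d hd h => hQL (hdec x hx d hd h).1) ?_ (e1 ▸ hev)
    intro h hh y hy hm
    rcases (hL _).1 hm with ⟨x', hx', d', hd', e⟩ | ⟨x', hx', d', hd', y', hy', e⟩
    · exact absurd (e ▸ H.mul_mem (R.le (hQ hx')) (Dg_le (hD hd')))
        (R.notMem_canon hh (R.le hy))
    · obtain ⟨-, rfl⟩ := R.canon_unique hh (H.mul_mem (R.le (hQ hx')) (Dg_le (hD hd'))) hy
        (hQ hy') e
      exact hQL hy'

end RO

section ext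
variable {G' : Type*} [Group G']

/-- the graph of a function which is multiplicative on `A` -/
def graphOn (A : Subgroup G) (α : G → G') (hα : ∀ x ∈ A, ∀ y ∈ A, α (x * y) = α x * α y) :
    Subgroup (G × G') where
  carrier := {p | ∃ x ∈ A, p = (x, α x)}
  mul_mem' := by
    rintro _ _ ⟨a, ha, rfl⟩ ⟨b, hb, rfl⟩
    exact ⟨a * b, A.mul_mem ha hb, Prod.ext rfl (hα a ha b hb).symm⟩
  one_mem' := ⟨1, A.one_mem, Prod.ext rfl (by
    have := hα 1 A.one_mem 1 A.one_mem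
    have h1 : α 1 = 1 := by simpa using this
    exact h1.symm)⟩
  inv_mem' := by
    rintro _ ⟨a, ha, rfl⟩
    refine ⟨a⁻¹, A.inv_mem ha, Prod.ext rfl ?_⟩
    have h1 : α 1 = 1 := by simpa using hα 1 A.one_mem 1 A.one_mem
    have := hα a ha a⁻¹ (A.inv_mem ha)
    rw [mul_inv_cancel, h1] at this
    exact inv_eq_of_mul_eq_one_right this.symm

/-- data for extending homomorphisms from `Q` and `D` -/
structure ExtData (H Q : Subgroup G) (t : G) (α δ : G → G') (w : G') : Prop where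
  hα : ∀ x ∈ Q, ∀ y ∈ Q, α (x * y) = α x * α y
  hδ : ∀ x ∈ Dg H t, ∀ y ∈ Dg H t, δ (x * y) = δ x * δ y
  conj : ∀ x ∈ Q, ∀ d ∈ Dg H t, α (d⁻¹ * x * d) = (δ d)⁻¹ * α x * δ d
  ww : w * w = 1
  wδ : ∀ d ∈ Dg H t, w * δ d * w = δ (t * d * t)

/-- the relation for `t x t` holds in the image -/
def Good (H Q : Subgroup G) (t : G) (α δ : G → G') (w : G') (x : G) : Prop :=
  ∃ a ∈ Q, ∃ d ∈ Dg H t, ∃ y ∈ Q, t * x * t = a * d * t * y ∧
    w * α x * w = α a * δ d * w * α y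

variable {H Q : Subgroup G} {t : G} {α δ : G → G'} {w : G'}

theorem ExtData.α_one (E : ExtData H Q t α δ w) : α 1 = 1 := by
  simpa using E.hα 1 Q.one_mem 1 Q.one_mem

theorem ExtData.δ_one (E : ExtData H Q t α δ w) : δ 1 = 1 := by
  simpa using E.hδ 1 (one_mem _) 1 (one_mem _)

theorem ExtData.α_inv (E : ExtData H Q t α δ w) {x : G} (hx : x ∈ Q) : α x⁻¹ = (α x)⁻¹ := by
  have := E.hα x hx x⁻¹ (Q.inv_mem hx)
  rw [mul_inv_cancel, E.α_one] at this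
  exact (inv_eq_of_mul_eq_one_right this.symm).symm

theorem ExtData.δ_inv (E : ExtData H Q t α δ w) {x : G} (hx : x ∈ Dg H t) :
    δ x⁻¹ = (δ x)⁻¹ := by
  have := E.hδ x hx x⁻¹ (inv_mem hx)
  rw [mul_inv_cancel, E.δ_one] at this
  exact (inv_eq_of_mul_eq_one_right this.symm).symm

theorem RO.ext_hom (R : RO H Q t) (E : ExtData H Q t α δ w)
    (good : ∀ x ∈ Q, x ≠ 1 → Good H Q t α δ w x) :
    ∃ Φ : G →* G', (∀ x ∈ Q, Φ x = α x) ∧ (∀ d ∈ Dg H t, Φ d = δ d) ∧ Φ t = w := by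
  obtain ⟨L, hL⟩ := exists_BN (Q := graphOn Q α E.hα) (D := graphOn (Dg H t) δ E.hδ) (τ := (t, w))
    (Prod.ext R.tt E.ww)
    (by
      rintro _ ⟨d, hd, rfl⟩ _ ⟨x, hx, rfl⟩
      exact ⟨_, R.norm d (Dg_le hd) x hx, Prod.ext rfl (E.conj x hx d hd).symm⟩)
    (by
      rintro _ ⟨d, hd, rfl⟩
      exact ⟨_, R.conj_t_mem_D hd, Prod.ext rfl (E.wδ d hd)⟩)
    (by
      rintro _ ⟨x, hx, rfl⟩ h1
      obtain ⟨a, ha, d, hd, y, hy, e1, e2⟩ := good x hx (by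
        rintro (rfl : x = 1)
        exact h1 (Prod.ext rfl E.α_one))
      exact ⟨(a, α a), ⟨a, ha, rfl⟩, (d, δ d), ⟨d, hd, rfl⟩, (y, α y), ⟨y, hy, rfl⟩,
        Prod.ext e1 e2⟩)
  have hex : ∀ g : G, ∃ g', (g, g') ∈ L := by
    intro g
    by_cases hg : g ∈ H
    · obtain ⟨x, hx, d, hd, rfl⟩ := R.dec g hg
      exact ⟨_, (hL _).2 (Or.inl ⟨(x, α x), ⟨x, hx, rfl⟩, (d, δ d), ⟨d, hd, rfl⟩, rfl⟩)⟩
    · obtain ⟨x, hx, d, hd, y, hy, rfl⟩ := R.canon3 hg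
      exact ⟨_, (hL _).2 (Or.inr ⟨(x, α x), ⟨x, hx, rfl⟩, (d, δ d), ⟨d, hd, rfl⟩, (y, α y),
        ⟨y, hy, rfl⟩, rfl⟩)⟩
  have hun : ∀ g g₁ g₂, (g, g₁) ∈ L → (g, g₂) ∈ L → g₁ = g₂ := by
    intro g g₁ g₂ h₁ h₂
    have h := L.mul_mem (L.inv_mem h₁) h₂
    have : g₁⁻¹ * g₂ = 1 := by
      rcases (hL _).1 h with ⟨_, ⟨x, hx, rfl⟩, _, ⟨d, hd, rfl⟩, e⟩ |
        ⟨_, ⟨x, hx, rfl⟩, _, ⟨d, hd, rfl⟩, _, ⟨y, hy, rfl⟩, e⟩
      · have e1 : g⁻¹ * g = x * d := congrArg Prod.fst e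
        have e2 : g₁⁻¹ * g₂ = α x * δ d := congrArg Prod.snd e
        obtain ⟨rfl, rfl⟩ := R.dec_unique (one_mem _) hx (one_mem _) hd (by simpa using e1)
        rw [e2, E.α_one, E.δ_one, one_mul]
      · have e1 : g⁻¹ * g = x * d * t * y := congrArg Prod.fst e
        exact absurd (e1 ▸ by simp) (R.notMem_canon (H.mul_mem (R.le hx) (Dg_le hd)) (R.le hy))
    exact inv_mul_eq_one.1 this
  choose Φ hΦ using hex
  refine ⟨MonoidHom.mk' Φ (fun a b => hun _ _ _ (hΦ (a * b)) (L.mul_mem (hΦ a) (hΦ b))),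
    fun x hx => hun _ _ _ (hΦ x) ?_, fun x hx => hun _ _ _ (hΦ x) ?_, hun _ _ _ (hΦ t) ?_⟩
  · exact (hL _).2 (Or.inl ⟨(x, α x), ⟨x, hx, rfl⟩, 1, one_mem _, by simp⟩)
  · exact (hL _).2 (Or.inl ⟨1, one_mem _, (x, δ x), ⟨x, hx, rfl⟩, by simp⟩)
  · exact (hL _).2 (Or.inr ⟨1, one_mem _, 1, one_mem _, 1, one_mem _, by simp⟩)

/-- a homomorphism which is injective on `H` is injective -/
theorem RO.injective_of [Finite G] (R : RO H Q t) (h2 : Rank2 Q) (Φ : G →* G')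
    (h : ∀ x ∈ Q, ∀ d ∈ Dg H t, Φ (x * d) = 1 → x * d = 1) : Function.Injective Φ := by
  rw [injective_iff_map_eq_one]
  intro g hg
  rcases Nat.even_or_odd (Nat.card Φ.ker) with hev | hodd
  · obtain ⟨x, hx, y, -, hx1, -⟩ := id h2
    have hx' := (R.le_normal_of_even h2 hev).2.2 hx
    exact absurd (by simpa using h x hx 1 (one_mem _) (by simpa using hx')) hx1
  · obtain ⟨x, hx, d, hd, rfl⟩ := R.dec g (R.normal_le_of_odd h2 hodd hg)
    exact h x hx d hd hg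

theorem Good.conj (R : RO H Q t) (E : ExtData H Q t α δ w) {x : G} (hx : x ∈ Q)
    (h : Good H Q t α δ w x) {k : G} (hk : k ∈ Dg H t) : Good H Q t α δ w (k⁻¹ * x * k) := by
  obtain ⟨a, ha, d, hd, y, hy, e1, e2⟩ := h
  have hk' := R.conj_t_mem_D hk
  have ww' : ∀ g, w * (w * g) = g := fun g => by rw [← mul_assoc, E.ww, one_mul]
  refine ⟨_, R.norm _ (Dg_le hk') a ha, (t * k * t)⁻¹ * d * k,
    mul_mem (mul_mem (inv_mem hk') hd) hk, _, R.norm _ (Dg_le hk') y hy, ?_, ?_⟩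
  · calc t * (k⁻¹ * x * k) * t = (t * k * t)⁻¹ * (t * x * t) * (t * k * t) := by
          simp only [mul_inv_rev, R.t_inv, mul_assoc, R.tt']
      _ = _ := by
          rw [e1]
          simp only [mul_inv_rev, R.t_inv, mul_assoc, R.tt', mul_inv_cancel_left]
  · rw [E.conj x hx k hk, E.conj a ha _ hk', E.conj y hy _ hk',
      E.hδ _ (mul_mem (inv_mem hk') hd) k hk, E.hδ _ (inv_mem hk') d hd, E.δ_inv hk',
      ← E.wδ k hk]
    calc w * ((δ k)⁻¹ * α x * δ k) * w = (w * δ k * w)⁻¹ * (w * α x * w) * (w * δ k * w) := by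
          simp only [mul_inv_rev, inv_eq_of_mul_self E.ww, mul_assoc, ww']
      _ = _ := by
          rw [e2]
          simp only [mul_inv_rev, inv_eq_of_mul_self E.ww, mul_assoc, ww', mul_inv_cancel_left]

/-- multiplication rule -/
theorem Good.mul (R : RO H Q t) (E : ExtData H Q t α δ w) {x x' a d y a' d' y' : G}
    (hx : x ∈ Q) (hx' : x' ∈ Q) (ha : a ∈ Q) (hd : d ∈ Dg H t) (hy : y ∈ Q)
    (ha' : a' ∈ Q) (hd' : d' ∈ Dg H t) (hy' : y' ∈ Q)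
    (e1 : t * x * t = a * d * t * y) (e2 : w * α x * w = α a * δ d * w * α y)
    (e1' : t * x' * t = a' * d' * t * y') (e2' : w * α x' * w = α a' * δ d' * w * α y')
    (h : Good H Q t α δ w (y * a')) : Good H Q t α δ w (x * x') := by
  obtain ⟨b, hb, c, hc, z, hz, f1, f2⟩ := h
  have ww' : ∀ g, w * (w * g) = g := fun g => by rw [← mul_assoc, E.ww, one_mul]
  have hd'' := R.conj_t_mem_D hd'
  have hdb := R.norm _ (Dg_le (inv_mem hd)) b hb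
  refine ⟨a * (d⁻¹⁻¹ * b * d⁻¹), mul_mem ha hdb, d * c * d', mul_mem (mul_mem hd hc) hd',
    (t * d' * t)⁻¹ * z * (t * d' * t) * y', mul_mem (R.norm _ (Dg_le hd'') z hz) hy', ?_, ?_⟩
  · calc t * (x * x') * t = (t * x * t) * (t * x' * t) := by simp only [mul_assoc, R.tt']
      _ = a * d * (t * (y * a') * t) * (t * d' * t) * y' := by
          rw [e1, e1']; simp only [mul_assoc, R.tt']
      _ = _ := by
          rw [f1]
          simp only [mul_inv_rev, R.t_inv, mul_assoc, R.tt', mul_inv_cancel_left, inv_inv,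
            inv_mul_cancel_left]
  · rw [E.hα x hx x' hx', E.hα a ha _ hdb, E.conj b hb _ (inv_mem hd), E.δ_inv hd,
      E.hδ _ (mul_mem hd hc) _ hd', E.hδ d hd c hc, E.hα _ (R.norm _ (Dg_le hd'') z hz) _ hy',
      E.conj z hz _ hd'', ← E.wδ d' hd']
    rw [E.hα y hy a' ha'] at f2
    calc w * (α x * α x') * w = (w * α x * w) * (w * α x' * w) := by simp only [mul_assoc, ww']
      _ = α a * δ d * (w * (α y * α a') * w) * (w * δ d' * w) * α y' := by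
          rw [e2, e2']; simp only [mul_assoc, ww']
      _ = _ := by
          rw [f2]
          simp only [mul_inv_rev, inv_eq_of_mul_self E.ww, mul_assoc, ww', mul_inv_cancel_left,
            inv_inv, inv_mul_cancel_left]

end ext

end CfsgLib.Suz
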