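import Mathlib
import Cfsg.Agent.Lib.Suz.KCyclic
import Cfsg.Agent.Lib.Suz.Ext

/-! Project D: the Zassenhaus case (`t` inverts `D ≠ 1`), basic facts. -/

set_option autoImplicit false

namespace CfsgLib.Suz
open Subgroup

variable {G : Type*} [Group G]

/-- Zassenhaus groups of odd degree -/
structure ZT (H Q : Subgroup G) (t : G) : Prop extends RO H Q t where
  inv : ∀ d ∈ Dg H t, t * d * t = d⁻¹
  ne : Dg H t ≠ ⊥

namespace ZT
variable {H Q : Subgroup G} {t : G} (Z : ZT H Q t)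
include Z

theorem mem_K {d : G} (hd : d ∈ Dg H t) : d ∈ Kset H t := ⟨hd, Z.inv d hd⟩

theorem Kset_eq : Kset H t = (Dg H t : Set G) := Set.ext fun _ => ⟨fun h => h.1, Z.mem_K⟩

theorem Kg_eq : Kg H t = Dg H t := by rw [Kg, Z.Kset_eq, closure_eq]

theorem V_eq {v : G} (hv : v ∈ Dg H t) (h : t * v = v * t) : v = 1 :=
  Z.eq_one_of_K_of_V (Z.mem_K hv) (mem_Vg_iff.2 ⟨hv, h⟩)

theorem D_comm {a b : G} (ha : a ∈ Dg H t) (hb : b ∈ Dg H t) : a * b = b * a := by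
  have h := Z.inv _ (mul_mem ha hb)
  have h2 : t * (a * b) * t = (t * a * t) * (t * b * t) := by simp only [mul_assoc, Z.tt']
  rw [h2, Z.inv a ha, Z.inv b hb, ← mul_inv_rev] at h
  exact (inv_injective h).symm

variable [Finite G]

theorem fpf {d : G} (hd : d ∈ Dg H t) (hd1 : d ≠ 1) {y : G} (hy : y ∈ Q) (h : d * y = y * d) :
    y = 1 := Z.K_fpf (Z.mem_K hd) hd1 hy h

theorem rank2 : Rank2 Q := by
  obtain ⟨s, r, hs⟩ := Z.exists_dist
  obtain ⟨⟨d, hd⟩, hd1⟩ := (Subgroup.ne_bot_iff_exists_ne_one).1 Z.ne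
  have hd1' : d ≠ 1 := fun h => hd1 (Subtype.ext h)
  refine ⟨s, hs.s_mem, d⁻¹ * s * d, Z.norm d (Dg_le hd) s hs.s_mem, hs.s_ne, ?_, ?_, hs.ss, ?_⟩
  · intro h
    apply hs.s_ne
    calc s = d * (d⁻¹ * s * d) * d⁻¹ := by group
      _ = 1 := by rw [h]; group
  · intro h
    apply hs.s_ne
    refine Z.fpf hd hd1' hs.s_mem ?_
    calc d * s = d * (d⁻¹ * s * d) := by rw [← h]
      _ = s * d := by group
  · calc d⁻¹ * s * d * (d⁻¹ * s * d) = d⁻¹ * (s * s) * d := by group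
      _ = 1 := by rw [hs.ss]; group

theorem card_D : Nat.card (Dg H t) + 1 = Nat.card (Q0g Q) := by
  rw [← Z.Kg_eq]; exact Z.card_Kg Z.rank2

theorem D_cyclic : IsCyclic (Dg H t) := by rw [← Z.Kg_eq]; exact Z.isCyclic_Kg Z.rank2

/-- elements of `H` outside `Q` are conjugate into `D` -/
theorem exists_conj_D {h : G} (hh : h ∈ H) (hQ : h ∉ Q) :
    ∃ y ∈ Q, y⁻¹ * h * y ∈ Dg H t := by
  obtain ⟨x, hx, d, hd, rfl⟩ := Z.dec h hh
  have hd1 : d ≠ 1 := by rintro rfl; exact hQ (by simpa using hx)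
  let f : Q → Q := fun z => ⟨z * (d * (z : G)⁻¹ * d⁻¹), mul_mem z.2 (Z.norm' (Dg_le hd) (inv_mem z.2))⟩
  have hf : Function.Injective f := by
    intro a b hab
    have e : (a : G) * (d * (a : G)⁻¹ * d⁻¹) = b * (d * (b : G)⁻¹ * d⁻¹) := congrArg Subtype.val hab
    have := Z.fpf hd hd1 (mul_mem (inv_mem b.2) a.2) (by
      calc d * ((b : G)⁻¹ * a) = (b : G)⁻¹ * (b * (d * (b : G)⁻¹ * d⁻¹)) * d * a := by group
        _ = (b : G)⁻¹ * a * d := by rw [← e]; group)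
    exact Subtype.ext (inv_mul_eq_one.1 this).symm
  obtain ⟨z, hz⟩ := (Finite.injective_iff_surjective.1 hf) ⟨x, hx⟩
  have e : (z : G) * (d * (z : G)⁻¹ * d⁻¹) = x := congrArg Subtype.val hz
  refine ⟨z, z.2, ?_⟩
  rw [← e]
  convert hd using 1
  group

theorem mem_Q_of_comm {y g : G} (hy : y ∈ Q) (hy1 : y ≠ 1) (h : y * g = g * y) : g ∈ Q := by
  by_contra hg
  obtain ⟨z, hz, hd⟩ := Z.exists_conj_D (Z.mem_H_of_comm hy hy1 h) hg
  have h1 : z⁻¹ * g * z ≠ 1 := by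
    intro h1
    apply hg
    have : g = 1 := by
      calc g = z * (z⁻¹ * g * z) * z⁻¹ := by group
        _ = 1 := by rw [h1]; group
    rw [this]; exact one_mem _
  have := Z.fpf hd h1 (Z.norm z (Z.le hz) y hy) (by
    calc z⁻¹ * g * z * (z⁻¹ * y * z) = z⁻¹ * (g * y) * z := by group
      _ = z⁻¹ * y * z * (z⁻¹ * g * z) := by rw [← h]; group)
  apply hy1
  calc y = z * (z⁻¹ * y * z) * z⁻¹ := by group
    _ = 1 := by rw [this]; group

end ZT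

theorem RO.r_eq_s {H Q : Subgroup G} {t s r : G} (R : RO H Q t) (hs : Dist Q t s r)
    (h : r * r = 1) : r = s := by
  have h1 : t * (s * r) * t = r * s := by
    have h2 : (r * t * s) * (r * t * s) = 1 := by
      rw [← R.trt hs]
      calc t * r * t * (t * r * t) = t * (r * r) * t := by simp only [mul_assoc, R.tt']
        _ = 1 := by rw [h, mul_one, R.tt]
    calc t * (s * r) * t = r⁻¹ * ((r * t * s) * (r * t * s)) * s⁻¹ := by group
      _ = r * s := by rw [h2, mul_one, inv_eq_of_mul_self h, inv_eq_of_mul_self hs.ss]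
  have h3 := R.inf _ (Q.mul_mem hs.s_mem hs.r_mem)
    (h1 ▸ R.le (Q.mul_mem hs.r_mem hs.s_mem))
  rw [← inv_eq_of_mul_self hs.ss]
  exact (eq_inv_of_mul_eq_one_right h3)

/-- if `r = s` then `⟨Q₀, K, t⟩` is a Zassenhaus group with elementary abelian `Q₀` -/
theorem RO.Q0_closed [Finite G] {H Q : Subgroup G} {t s : G} (R : RO H Q t) (h2 : Rank2 Q)
    (hs : Dist Q t s s) : ∀ x ∈ Q0g Q, x ≠ 1 →
      ∃ a ∈ Q0g Q, ∃ d ∈ Kset H t, ∃ y ∈ Q0g Q, t * x * t = a * d * t * y := by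
  intro x hx h1
  obtain ⟨hxQ, hxx⟩ := (R.mem_Q0 h2).1 hx
  obtain ⟨k, hk, rfl⟩ := R.exists_K_conj hs hxQ h1 hxx
  have hs0 : k⁻¹⁻¹ * s * k⁻¹ ∈ Q0g Q :=
    R.Q0_norm h2 (Dg_le (inv_mem hk.1)) (mem_Q0g_of hs.s_mem hs.ss)
  refine ⟨_, hs0, k * k, R.K_mul h2 hk hk, _, hs0, ?_⟩
  have e1 := R.K_mul_t hk
  have e2 := hs.eq
  rw [inv_eq_of_mul_self hs.ss] at e2
  calc t * (k⁻¹ * s * k) * t = (t * k⁻¹) * s * (k * t) := by group
    _ = (k * t) * s * (t * k⁻¹) := by rw [← e1]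
    _ = k * (t * s * t) * k⁻¹ := by group
    _ = k * s * (k⁻¹ * k * (k * t) * k) * s * k⁻¹ := by rw [e2, e1]; group
    _ = _ := by group

/-- the subgroup generated by `Q'`, `K`, `t` is a Zassenhaus group -/
theorem RO.exists_ZT [Finite G] {H Q : Subgroup G} {t : G} (R : RO H Q t) (h2 : Rank2 Q)
    {Q' : Subgroup G} (hQ : Q' ≤ Q) (hn : ∀ d ∈ Kset H t, ∀ x ∈ Q', d⁻¹ * x * d ∈ Q')
    (hf : ∀ x ∈ Q', x ≠ 1 → ∃ a ∈ Q', ∃ d ∈ Kset H t, ∃ y ∈ Q', t * x * t = a * d * t * y)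
    (hev : Even (Nat.card Q')) :
    ∃ (L : Subgroup G) (htL : t ∈ L), Q ⊓ L = Q' ∧ Dg H t ⊓ L = Kg H t ∧
      (∀ M : Subgroup G, Q' ≤ M → Kg H t ≤ M → t ∈ M → L ≤ M) ∧
      ZT (H.subgroupOf L) (Q.subgroupOf L) ⟨t, htL⟩ := by
  obtain ⟨L, htL, h1, h3, h4, h5⟩ := R.exists_sub (D' := Kg H t) hQ Kg_le_Dg
    (fun d hd => hn d ((R.mem_Kg h2).1 hd))
    (fun d hd => by rw [((R.mem_Kg h2).1 hd).2]; exact inv_mem hd)
    (fun x hx h1 => by
      obtain ⟨a, ha, d, hd, y, hy, e⟩ := hf x hx h1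
      exact ⟨a, ha, d, (R.mem_Kg h2).2 hd, y, hy, e⟩) hev
  refine ⟨L, htL, h1, h3, h4, h5, ?_, ?_⟩
  · intro d hd
    rw [Dg_subgroupOf, mem_subgroupOf] at hd
    have : (d : G) ∈ Kg H t := h3 ▸ ⟨hd, d.2⟩
    exact Subtype.ext ((R.mem_Kg h2).1 this).2
  · obtain ⟨k, hk, hk1⟩ := R.exists_K_ne_one h2
    have : k ∈ Dg H t ⊓ L := h3 ▸ (R.mem_Kg h2).2 hk
    intro hb
    have h6 : (⟨k, this.2⟩ : L) ∈ Dg (H.subgroupOf L) ⟨t, htL⟩ := by
      rw [Dg_subgroupOf, mem_subgroupOf]; exact this.1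
    rw [hb, mem_bot] at h6
    exact hk1 (congrArg Subtype.val h6)

end CfsgLib.Suz
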