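import Mathlib
import Cfsg.Agent.Lib.Suz.ZTBasic

/-! Project D: the case `r² = s` (first consequences). -/

set_option autoImplicit false
set_option linter.unusedSectionVars false

namespace CfsgLib.Suz
open Subgroup

variable {G : Type*} [Group G] [Finite G] {H Q : Subgroup G} {t s r : G}

theorem RO.r_eq_s_of_sq (R : RO H Q t) (hs : Dist Q t s r) (h : r * r = 1) : r = s := by
  have h1 : t * (s * r) * t = r * s := by
    have h2 : (r * t * s) * (r * t * s) = 1 := by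
      rw [← R.trt hs]
      calc t * r * t * (t * r * t) = t * (r * r) * t := by simp only [mul_assoc, R.tt']
        _ = 1 := by rw [h, mul_one, R.tt]
    calc t * (s * r) * t = r⁻¹ * ((r * t * s) * (r * t * s)) * s⁻¹ := by group
      _ = r * s := by rw [h2, mul_one, inv_eq_of_mul_self h, inv_eq_of_mul_self hs.ss]
  have h3 := R.inf _ (Q.mul_mem hs.s_mem hs.r_mem)
    (h1 ▸ R.le (Q.mul_mem hs.r_mem hs.s_mem))
  rw [← inv_eq_of_mul_self hs.ss]
  exact (eq_inv_of_mul_eq_one_right h3)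

theorem inv_conj_pow (a b : G) (j : ℕ) : (a⁻¹ * b * a) ^ j = a⁻¹ * b ^ j * a := by
  have := conj_pow (a := a⁻¹) (b := b) (i := j)
  rwa [inv_inv] at this

theorem RO.conj_st (R : RO H Q t) (h2 : Rank2 Q) (hs : Dist Q t s r) :
    r⁻¹ * (s * t) * r = (s * t) ^ 2 := by
  have h := R.invol_central h2 hs.s_mem hs.ss (Q.inv_mem hs.r_mem)
  calc r⁻¹ * (s * t) * r = (r⁻¹ * s) * t * r := by group
    _ = s * (r⁻¹ * t * r) := by rw [← h]; group
    _ = (s * t) ^ 2 := by rw [← hs.eq, sq]; group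

theorem RO.st_ne_one (R : RO H Q t) (hs : Dist Q t s r) : s * t ≠ 1 := fun h =>
  R.t_notMem (by
    rw [← R.t_inv, ← eq_inv_of_mul_eq_one_left h]; exact R.le hs.s_mem)

theorem RO.order_four (R : RO H Q t) (h2 : Rank2 Q) (hs : Dist Q t s r) (h4 : r * r ∈ Q0g Q)
    (hr : r ≠ s) : r * r = s ∧ (s * t) ^ 5 = 1 := by
  set x := s * t with hx
  set z := r * r with hz
  have hzz : z * z = 1 := ((R.mem_Q0 h2).1 h4).2
  have hz1 : z ≠ 1 := fun h => hr (R.r_eq_s_of_sq hs h)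
  have c1 : ∀ j : ℕ, r⁻¹ * x ^ j * r = x ^ (2 * j) := fun j => by
    rw [pow_mul, ← R.conj_st h2 hs, inv_conj_pow]
  have c2 : ∀ j : ℕ, z⁻¹ * x ^ j * z = x ^ (4 * j) := fun j => by
    calc z⁻¹ * x ^ j * z = r⁻¹ * (r⁻¹ * x ^ j * r) * r := by rw [hz]; group
      _ = x ^ (4 * j) := by rw [c1, c1]; congr 1; ring
  have c3 : x ^ 15 = 1 := by
    have : (z * z)⁻¹ * x ^ 1 * (z * z) = x ^ 16 := by
      calc (z * z)⁻¹ * x ^ 1 * (z * z) = z⁻¹ * (z⁻¹ * x ^ 1 * z) * z := by group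
        _ = x ^ 16 := by rw [c2, c2]
    rw [hzz, inv_one, one_mul, mul_one, show 16 = 1 + 15 from rfl, pow_add] at this
    exact (left_eq_mul.1 this)
  have hsx : s * x * s = x⁻¹ := by
    rw [hx, mul_inv_rev, R.t_inv, inv_eq_of_mul_self hs.ss, ← mul_assoc, hs.ss, one_mul]
  have h5 : x ^ 5 = 1 := by
    have hc : z * x ^ 5 = x ^ 5 * z := by
      have := c2 5
      rw [show 4 * 5 = 5 + 15 from rfl, pow_add, c3, mul_one] at this
      calc z * x ^ 5 = z * (z⁻¹ * x ^ 5 * z) := by rw [this]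
        _ = x ^ 5 * z := by group
    by_contra h
    refine hz1 (R.eq_one_of_comm_strongly_real h2 hs.ss (conj_pow_of_inv hs.ss hsx 5) ?_ hzz hc)
    intro h'
    apply h
    calc x ^ 5 = (x ^ 5 * x ^ 5) * x ^ 5 := by rw [h', one_mul]
      _ = x ^ 15 := by rw [← pow_add, ← pow_add]
      _ = 1 := c3
  refine ⟨?_, h5⟩
  have hzs : s * z = z * s := R.invol_central h2 hs.s_mem hs.ss (Q0g_le h4)
  have h4' : x ^ 4 = x⁻¹ := eq_inv_of_mul_eq_one_left (by rw [← pow_succ, h5])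
  have hxx : x * x ≠ 1 := fun h => R.st_ne_one hs (by
    calc x = (x * x) ^ 2 * x := by rw [h, one_pow, one_mul]
      _ = x ^ 5 := by rw [← sq, ← pow_mul, ← pow_succ]
      _ = 1 := h5)
  have := R.eq_one_of_comm_strongly_real (z := z * s) h2 hs.ss hsx hxx (by
    calc z * s * (z * s) = z * (s * z) * s := by group
      _ = (z * z) * (s * s) := by rw [hzs]; group
      _ = 1 := by rw [hzz, hs.ss, one_mul]) (by
    have e := c2 1
    rw [pow_one, mul_one, h4', ← hsx] at e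
    calc z * s * x = z * (s * x * s) * s⁻¹ := by group
      _ = x * (z * s) := by rw [← e, inv_eq_of_mul_self hs.ss]; group)
  rw [← inv_eq_of_mul_self hs.ss]
  exact eq_inv_of_mul_eq_one_left this

/-- The relation `f(r u)^k = f(r u s) r` for `u = s^k`. -/
theorem RO.f_rel (R : RO H Q t) (h2 : Rank2 Q) (hs : Dist Q t s r) (hr : r * r = s) {k h y : G}
    (hk : k ∈ Kset H t) (e : t * (r * (k⁻¹ * s * k) * s) * t = h * t * y) :
    t * (r * (k⁻¹ * s * k)) * t = (r * k⁻¹ * h * k) * t * (k * (y * r) * k⁻¹) := by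
  have hu : k⁻¹ * s * k ∈ Q := R.norm k (Dg_le hk.1) s hs.s_mem
  have huu : (k⁻¹ * s * k) * (k⁻¹ * s * k) = 1 := by
    calc _ = k⁻¹ * (s * s) * k := by group
      _ = 1 := by rw [hs.ss]; group
  have c1 := R.invol_central h2 hu huu hs.r_mem
  have c2 := R.invol_central h2 hu huu hs.s_mem
  have e1 : r * (k⁻¹ * s * k) * s = (k⁻¹ * s * k) * r⁻¹ := by
    rw [← c1, mul_assoc]
    congr 1
    refine eq_inv_of_mul_eq_one_left ?_
    rw [← hr] 
    calc r * (r * r) * r = (r * r) * (r * r) := by group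
      _ = 1 := by rw [hr, hs.ss]
  have k1 := R.K_mul_t hk
  have k2 := R.t_mul_K hk
  calc t * (r * (k⁻¹ * s * k)) * t = (t * r * t) * (t * k⁻¹) * s * (k * t) := by
        simp only [mul_assoc, R.tt']
    _ = (r * t * s) * k * (t * s * t) * k⁻¹ := by rw [R.trt hs, ← k1]; nth_rewrite 2 [k1]; group
    _ = r * (t * k) * ((k⁻¹ * s * k) * r⁻¹) * t * r * k⁻¹ := by rw [hs.eq]; group
    _ = r * k⁻¹ * (t * (r * (k⁻¹ * s * k) * s) * t) * r * k⁻¹ := by rw [k2, e1]; group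
    _ = (r * k⁻¹ * h) * (t * k⁻¹) * (k * (y * r) * k⁻¹) := by rw [e]; group
    _ = _ := by rw [← k1]; group

theorem RO.r_mul_ne_one (R : RO H Q t) (h2 : Rank2 Q) (hs : Dist Q t s r) (hr : r * r = s) {u : G}
    (hu : u ∈ Q0g Q) : r * u ≠ 1 := fun h => by
  have h1 : r = u⁻¹ := eq_inv_of_mul_eq_one_left h
  have h2' := ((R.mem_Q0 h2).1 ((Q0g Q).inv_mem hu)).2
  rw [← h1, hr] at h2'
  exact hs.s_ne h2'

theorem RO.odd_of_order_four (R : RO H Q t) (h2 : Rank2 Q) (hs : Dist Q t s r) (hr : r * r = s)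
    {n : ℕ} (hn : Nat.card (Q0g Q) = 2 ^ n) : Odd n := by
  by_contra hodd
  obtain ⟨j, rfl⟩ := Nat.not_odd_iff_even.1 hodd
  have h3 : 3 ∣ Nat.card (Kg H t) := by
    have h := R.card_Kg h2
    rw [hn, ← two_mul, pow_mul] at h
    have : (2 ^ 2) ^ j % 3 = 1 := by rw [Nat.pow_mod]; simp
    omega
  have : Fact (Nat.Prime 3) := ⟨Nat.prime_three⟩
  obtain ⟨⟨ω, hω⟩, ho⟩ := exists_prime_orderOf_dvd_card' 3 h3
  rw [← orderOf_coe] at ho
  simp only at ho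
  have hK := (R.mem_Kg h2).1 hω
  have hω3 : ω * ω * ω = 1 := by rw [← pow_three', ← ho, pow_orderOf_eq_one]
  have hω1 : ω ≠ 1 := by rintro rfl; simp at ho
  have hK2 := R.K_mul h2 hK hK
  have hω2 : ω * ω ≠ 1 := fun h => hω1 (by rwa [h, one_mul] at hω3)
  have hs0 : s ∈ Q0g Q := mem_Q0g_of hs.s_mem hs.ss
  have hu : ω⁻¹ * s * ω ∈ Q0g Q := R.Q0_norm h2 (Dg_le hK.1) hs0
  have hu' : (ω * ω)⁻¹ * s * (ω * ω) ∈ Q0g Q := R.Q0_norm h2 (Dg_le hK2.1) hs0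
  set u := ω⁻¹ * s * ω with hud
  set u' := (ω * ω)⁻¹ * s * (ω * ω) with hud'
  have e0 : u * s * u' = 1 := by
    refine R.K_fpf hK hω1 (Q0g_le ((Q0g Q).mul_mem ((Q0g Q).mul_mem hu hs0) hu')) ?_
    have a1 : ω⁻¹ * u * ω = u' := by rw [hud, hud']; group
    have a2 : ω⁻¹ * u' * ω = s := by
      calc ω⁻¹ * u' * ω = (ω * ω * ω)⁻¹ * s * (ω * ω * ω) := by rw [hud']; group
        _ = s := by rw [hω3]; group
    have a3 : ω⁻¹ * (u * s * u') * ω = u * s * u' := by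
      calc ω⁻¹ * (u * s * u') * ω = (ω⁻¹ * u * ω) * (ω⁻¹ * s * ω) * (ω⁻¹ * u' * ω) := by group
        _ = u' * (u * s) := by rw [a1, a2, ← hud, mul_assoc]
        _ = u * s * u' := R.Q0_central h2 hu' (Q0g_le ((Q0g Q).mul_mem hu hs0))
    calc ω * (u * s * u') = ω * (ω⁻¹ * (u * s * u') * ω) := by rw [a3]
      _ = _ := by group
  have e1 : u * s = u' := by
    rw [← inv_eq_of_mul_self ((R.mem_Q0 h2).1 hu').2]; exact eq_inv_of_mul_eq_one_left e0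
  have e2 : u' * s = u := by rw [← e1, mul_assoc, hs.ss, mul_one]
  obtain ⟨h, hh, A, hA, eA⟩ := R.canon _ (R.txt_notMem (Q.mul_mem hs.r_mem (Q0g_le hu))
    (R.r_mul_ne_one h2 hs hr hu))
  obtain ⟨h', hh', B, hB, eB⟩ := R.canon _ (R.txt_notMem (Q.mul_mem hs.r_mem (Q0g_le hu'))
    (R.r_mul_ne_one h2 hs hr hu'))
  have f1 := R.f_rel h2 hs hr hK (h := h') (y := B) (by rw [← hud, mul_assoc r, e1, eB])
  have f2 := R.f_rel h2 hs hr hK2 (h := h) (y := A) (by rw [← hud', mul_assoc r, e2, eA])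
  rw [← hud, eA] at f1
  rw [← hud', eB] at f2
  have mH : ∀ {k h : G}, k ∈ Kset H t → h ∈ H → r * k⁻¹ * h * k ∈ H := fun hk hh =>
    H.mul_mem (H.mul_mem (H.mul_mem (R.le hs.r_mem) (H.inv_mem (Dg_le hk.1))) hh) (Dg_le hk.1)
  have g1 := (R.canon_unique hh (mH hK hh') hA
    (R.norm' (Dg_le hK.1) (Q.mul_mem hB hs.r_mem)) f1).2
  have g2 := (R.canon_unique hh' (mH hK2 hh) hB
    (R.norm' (Dg_le hK2.1) (Q.mul_mem hA hs.r_mem)) f2).2
  have g3 : r * (ω * r * ω⁻¹) = 1 := by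
    have : A = A * (r * (ω * r * ω⁻¹)) := by
      calc A = ω * (B * r) * ω⁻¹ := g1
        _ = (ω * ω * ω) * (A * r) * (ω * ω * ω)⁻¹ * (ω * r * ω⁻¹) := by rw [g2]; group
        _ = _ := by rw [hω3]; group
    exact left_eq_mul.1 this
  have g4 : ω * r * ω⁻¹ = r⁻¹ := eq_inv_of_mul_eq_one_right g3
  refine hs.s_ne (R.K_fpf hK hω1 hs.s_mem ?_)
  have : ω * s * ω⁻¹ = s := by
    calc ω * s * ω⁻¹ = (ω * r * ω⁻¹) * (ω * r * ω⁻¹) := by rw [← hr]; group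
      _ = (r * r)⁻¹ := by rw [g4]; group
      _ = s := by rw [hr, inv_eq_of_mul_self hs.ss]
  calc ω * s = (ω * s * ω⁻¹) * ω := by group
    _ = s * ω := by rw [this]

theorem ZT.mem_D_of_conj (Z : ZT H Q t) {d h : G} (hd : d ∈ Dg H t) (hd1 : d ≠ 1) (hh : h ∈ H)
    (hc : h⁻¹ * d * h ∈ Dg H t) : h ∈ Dg H t := by
  obtain ⟨y, hy, d', hd', rfl⟩ := Z.dec h hh
  have h1 : y⁻¹ * d * y ∈ Dg H t := by
    have := (Dg H t).mul_mem ((Dg H t).mul_mem hd' hc) ((Dg H t).inv_mem hd')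
    rwa [show d' * ((y * d')⁻¹ * d * (y * d')) * d'⁻¹ = y⁻¹ * d * y by group] at this
  have h2 : y⁻¹ * (d * y * d⁻¹) = 1 := Z.eq_one_of_mem_D
    (Q.mul_mem (Q.inv_mem hy) (Z.norm' (Dg_le hd) hy)) (by
      have := (Dg H t).mul_mem h1 ((Dg H t).inv_mem hd)
      rwa [show y⁻¹ * d * y * d⁻¹ = y⁻¹ * (d * y * d⁻¹) by group] at this)
  have h3 : y = 1 := Z.fpf hd hd1 hy (by
    calc d * y = y * (y⁻¹ * (d * y * d⁻¹)) * d := by group
      _ = y * d := by rw [h2, mul_one])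
  rw [h3, one_mul]; exact hd'

/-- An element conjugating `1 ≠ d ∈ D` into `D` centralizes or inverts `d`. -/
theorem ZT.conj_eq_or (Z : ZT H Q t) {d g : G} (hd : d ∈ Dg H t) (hd1 : d ≠ 1)
    (hc : g⁻¹ * d * g ∈ Dg H t) : g⁻¹ * d * g = d ∨ g⁻¹ * d * g = d⁻¹ := by
  have key : ∀ {d h : G}, d ∈ Dg H t → h ∈ Dg H t → h⁻¹ * d * h = d := fun hd hh => by
    rw [mul_assoc, Z.D_comm hd hh]; group
  by_cases hg : g ∈ H
  · exact Or.inl (key hd (Z.mem_D_of_conj hd hd1 hg hc))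
  · obtain ⟨h, hh, y, hy, rfl⟩ := Z.canon g hg
    have e : (h * t * y)⁻¹ * d * (h * t * y) = y⁻¹ * (t * (h⁻¹ * d * h) * t) * y := by
      rw [mul_inv_rev, mul_inv_rev, Z.t_inv]; group
    rw [e] at hc ⊢
    have h1 : h⁻¹ * d * h ∈ Dg H t := Z.mem_D.2 ⟨H.mul_mem (H.mul_mem (H.inv_mem hh) (Dg_le hd)) hh, by
      have := H.mul_mem (H.mul_mem (Z.le hy) (Dg_le hc)) (H.inv_mem (Z.le hy))
      rwa [show y * (y⁻¹ * (t * (h⁻¹ * d * h) * t) * y) * y⁻¹ = t * (h⁻¹ * d * h) * t by group]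
        at this⟩
    rw [key hd (Z.mem_D_of_conj hd hd1 hh h1), Z.inv d hd] at hc ⊢
    exact Or.inr (key ((Dg H t).inv_mem hd)
      (Z.mem_D_of_conj ((Dg H t).inv_mem hd) (inv_ne_one.2 hd1) (Z.le hy) hc))

theorem ZT.five_dvd (Z : ZT H Q t) (hp : IsPGroup 2 Q) (hs : Dist Q t s r) (hr : r * r = s) :
    5 ∣ Nat.card Q + 1 := by
  have h5 := (Z.toRO.order_four Z.rank2 hs (hr ▸ mem_Q0g_of hs.s_mem hs.ss)
    (fun h => hs.s_ne (by rw [← hr, h, hs.ss]))).2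
  have hc := Z.toRO.conj_st Z.rank2 hs
  have hx1 := Z.toRO.st_ne_one hs
  set x := s * t with hx
  by_contra hn
  have : Fact (Nat.Prime 5) := ⟨by norm_num⟩
  have hP : IsPGroup 5 (zpowers x) := by
    rintro ⟨_, j, rfl⟩
    exact ⟨1, Subtype.ext (by
      simp only [pow_one, SubgroupClass.coe_pow, OneMemClass.coe_one]
      rw [← zpow_natCast, ← zpow_mul, mul_comm, zpow_mul, zpow_natCast, h5, one_zpow])⟩
  obtain ⟨c, hcf⟩ := hP.nonempty_fixed_point_of_prime_not_dvd_card (G ⧸ H)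
    (by rwa [← Subgroup.index, Z.index_H])
  induction c using QuotientGroup.induction_on with
  | H g =>
  have h1 : g⁻¹ * x * g ∈ H := by
    have := hcf ⟨x, mem_zpowers x⟩
    have h2 : g⁻¹ * (x * g) ∈ H :=
      QuotientGroup.eq.1 (this.symm : (g : G ⧸ H) = ((x * g : G) : G ⧸ H))
    rwa [← mul_assoc] at h2
  have h2 : g⁻¹ * x * g ∉ Q := fun h => by
    obtain ⟨j, hj⟩ := hp ⟨_, h⟩
    have hj' : (g⁻¹ * x * g) ^ 2 ^ j = 1 := congrArg Subtype.val hj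
    rw [inv_conj_pow] at hj'
    have hj2 : x ^ 2 ^ j = 1 := by
      calc x ^ 2 ^ j = g * (g⁻¹ * x ^ 2 ^ j * g) * g⁻¹ := by group
        _ = 1 := by rw [hj']; group
    have := pow_gcd_eq_one.2 ⟨h5, hj2⟩
    rw [Nat.Coprime.pow_right j (by norm_num : Nat.Coprime 5 2), pow_one] at this
    exact hx1 this
  obtain ⟨y, hy, hd⟩ := Z.exists_conj_D h1 h2
  set a := g * y with ha
  have e : y⁻¹ * (g⁻¹ * x * g) * y = a⁻¹ * x * a := by rw [ha]; group
  rw [e] at hd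
  have hd1 : a⁻¹ * x * a ≠ 1 := fun h => hx1 (by
    calc x = a * (a⁻¹ * x * a) * a⁻¹ := by group
      _ = 1 := by rw [h]; group)
  have e2 : (a⁻¹ * r * a)⁻¹ * (a⁻¹ * x * a) * (a⁻¹ * r * a) = (a⁻¹ * x * a) ^ 2 := by
    rw [inv_conj_pow, ← hc]; group
  have e5 : (a⁻¹ * x * a) ^ 5 = 1 := by rw [inv_conj_pow, h5]; group
  rcases Z.conj_eq_or (g := a⁻¹ * r * a) hd hd1 (e2 ▸ (Dg H t).pow_mem hd 2) with h | h
  · rw [e2, sq] at h
    exact hd1 (mul_eq_left.1 h)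
  · rw [e2] at h
    have e3 : (a⁻¹ * x * a) ^ 3 = 1 := by rw [pow_succ, h, inv_mul_cancel]
    have := pow_gcd_eq_one.2 ⟨e5, e3⟩
    exact hd1 (by simpa using this)

end CfsgLib.Suz
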