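import Mathlib
import Cfsg.Agent.Lib.Suz.Higman
import Cfsg.Agent.Lib.Suz.KCyclic
import Cfsg.Agent.Lib.Suz.SzFour

/-! Project D: coordinates for a Suzuki 2-group of type A with `r² = s`. -/

set_option autoImplicit false
set_option linter.unusedSectionVars false

namespace CfsgLib.Suz
open Subgroup

variable {G : Type*} [Group G] [Finite G] {H Q : Subgroup G} {t s r : G}

theorem RO.sz2 (R : RO H Q t) (h2 : Rank2 Q) (hp : IsPGroup 2 Q) : Sz2 Q (Kg H t) where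
  pS := hp
  norm := fun k hk x hx => R.norm k (Dg_le (Kg_le_Dg hk)) x hx
  cyc := R.isCyclic_Kg h2
  rank2 := h2
  trans := fun u hu v hv hu1 huu hv1 hvv => by
    obtain ⟨s, r, hs⟩ := R.exists_dist
    obtain ⟨k, hk, rfl⟩ := R.exists_K_conj hs hu hu1 huu
    obtain ⟨l, hl, rfl⟩ := R.exists_K_conj hs hv hv1 hvv
    exact ⟨k⁻¹ * l, (R.mem_Kg h2).2 (R.K_mul h2 (R.K_inv hk) hl), by group⟩
  fpf := fun k hk hk1 x hx h => R.K_fpf ((R.mem_Kg h2).1 hk) hk1 hx h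

/-- `t x t = a k² t y` with `k ∈ K`. -/
def Trip (H Q : Subgroup G) (t x k y : G) : Prop :=
  k ∈ Kset H t ∧ y ∈ Q ∧ ∃ a ∈ Q, t * x * t = a * (k * k) * t * y

namespace RO
variable (R : RO H Q t) (h2 : Rank2 Q)
include R

theorem trip_unique {x k y k' y' : G} (h : Trip H Q t x k y) (h' : Trip H Q t x k' y') :
    k = k' ∧ y = y' := by
  obtain ⟨hk, hy, a, ha, e⟩ := h
  obtain ⟨hk', hy', a', ha', e'⟩ := h'
  obtain ⟨-, h1, h3⟩ := R.canon3_unique ha ha' ((Dg H t).mul_mem hk.1 hk.1)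
    ((Dg H t).mul_mem hk'.1 hk'.1) hy hy' (e.symm.trans e')
  exact ⟨R.D_eq_of_sq hk.1 hk'.1 h1, h3⟩

theorem trip_s (hs : Dist Q t s r) : Trip H Q t s 1 r :=
  ⟨R.K_one, hs.r_mem, r⁻¹, Q.inv_mem hs.r_mem, by rw [hs.eq]; group⟩

theorem trip_r (hs : Dist Q t s r) : Trip H Q t r 1 s :=
  ⟨R.K_one, hs.s_mem, r, hs.r_mem, by rw [R.trt hs]; group⟩

theorem trip_r_inv (hs : Dist Q t s r) : Trip H Q t r⁻¹ 1 r⁻¹ :=
  ⟨R.K_one, Q.inv_mem hs.r_mem, s, hs.s_mem, by rw [R.tr_inv_t hs]; group⟩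

theorem t_conj_t {x k : G} (hk : k ∈ Kset H t) :
    t * (k⁻¹ * x * k) * t = k * (t * x * t) * k⁻¹ := by
  calc t * (k⁻¹ * x * k) * t = (t * k⁻¹) * x * (k * t) := by group
    _ = _ := by rw [← R.K_mul_t hk]; nth_rewrite 2 [R.K_mul_t hk]; group

include h2

theorem trip_conj_eq {x k a l y : G} (hk : k ∈ Kset H t) (hl : l ∈ Kset H t)
    (e : t * x * t = a * (l * l) * t * y) :
    t * (k⁻¹ * x * k) * t = (k * a * k⁻¹) * ((l * k) * (l * k)) * t * (k * y * k⁻¹) := by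
  have c := R.K_comm h2 hk hl
  calc t * (k⁻¹ * x * k) * t = k * a * (l * l) * (t * k⁻¹) * (k * y * k⁻¹) := by
        rw [R.t_conj_t hk, e]; group
    _ = (k * a * k⁻¹) * (k * l * (l * k)) * t * (k * y * k⁻¹) := by rw [← R.K_mul_t hk]; group
    _ = _ := by rw [c]

theorem Trip_conj {x k l y : G} (h : Trip H Q t x l y) (hk : k ∈ Kset H t) :
    Trip H Q t (k⁻¹ * x * k) (l * k) (k * y * k⁻¹) := by
  obtain ⟨hl, hy, a, ha, e⟩ := h
  exact ⟨R.K_mul h2 hl hk, R.norm' (Dg_le hk.1) hy, _, R.norm' (Dg_le hk.1) ha,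
    R.trip_conj_eq h2 hk hl e⟩

theorem Trip_symm {x l y : G} (hx : x ∈ Q) (h : Trip H Q t x l y) : Trip H Q t y l⁻¹ x := by
  obtain ⟨hl, hy, a, ha, e⟩ := h
  have hd : l * l ∈ H := Dg_le (R.K_mul h2 hl hl).1
  refine ⟨R.K_inv hl, hx, (l * l)⁻¹ * a⁻¹ * (l * l), R.norm _ hd _ (Q.inv_mem ha), ?_⟩
  calc t * y * t = (l * l)⁻¹ * a⁻¹ * (a * (l * l) * t * y) * t := by group
    _ = (l * l)⁻¹ * a⁻¹ * t * x := by rw [← e]; simp only [mul_assoc, R.tt, mul_one]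
    _ = _ := by group

/-- The formula for `t r (r⁻¹)^c t`. -/
theorem key_eq (hs : Dist Q t s r) {c l : G} (hc : c ∈ Kset H t) (hl : l ∈ Kset H t)
    (h : l⁻¹ * s * l = s * (c * s * c⁻¹)) :
    t * (r * (c⁻¹ * r⁻¹ * c)) * t = (r * (l * r⁻¹ * l⁻¹)) * ((l * c) * (l * c)) * t *
      ((l * c * c) * r * (l * c * c)⁻¹ * (c * r⁻¹ * c⁻¹)) := by
  have hlc := R.K_mul h2 (R.K_mul h2 hl hc) hc
  have cm := R.K_comm h2 hc hl
  calc t * (r * (c⁻¹ * r⁻¹ * c)) * t = (t * r * t) * (t * (c⁻¹ * r⁻¹ * c) * t) := by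
        simp only [mul_assoc, R.tt']
    _ = r * t * (s * (c * s * c⁻¹)) * (c * t) * r⁻¹ * c⁻¹ := by
        rw [R.t_conj_t hc, R.trt hs, R.tr_inv_t hs]; group
    _ = r * (t * (l⁻¹ * s * l) * t) * c⁻¹ * r⁻¹ * c⁻¹ := by rw [← h, R.K_mul_t hc]; group
    _ = r * (l * r⁻¹ * l⁻¹) * l * (t * (l * c * c)⁻¹) * ((l * c * c) * r * l⁻¹ * c⁻¹ * r⁻¹ * c⁻¹) := by
        rw [R.t_conj_t hl, hs.eq]; group
    _ = r * (l * r⁻¹ * l⁻¹) * (l * (l * c) * c) * t *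
        ((l * c * c) * r * (c * (c * l))⁻¹ * (c * r⁻¹ * c⁻¹)) := by
        rw [← R.K_mul_t hlc]; group
    _ = _ := by
        have e1 : l * (l * c) * c = l * c * (l * c) := by
          nth_rewrite 1 [← cm]; group
        have e2 : c * (c * l) = l * c * c := by rw [cm, ← mul_assoc, cm]
        rw [e1, e2]

theorem trip_key (hs : Dist Q t s r) {c l : G} (hc : c ∈ Kset H t) (hl : l ∈ Kset H t)
    (h : l⁻¹ * s * l = s * (c * s * c⁻¹)) : ∃ y, Trip H Q t (r * (c⁻¹ * r⁻¹ * c)) (l * c) y :=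
  ⟨_, R.K_mul h2 hl hc, Q.mul_mem (R.norm' (Dg_le (R.K_mul h2 (R.K_mul h2 hl hc) hc).1) hs.r_mem)
      (R.norm' (Dg_le hc.1) (Q.inv_mem hs.r_mem)), _,
    Q.mul_mem hs.r_mem (R.norm' (Dg_le hl.1) (Q.inv_mem hs.r_mem)), R.key_eq h2 hs hc hl h⟩

theorem exists_ell (hs : Dist Q t s r) {c : G} (hc : c ∈ Kset H t) (hc1 : c ≠ 1) :
    ∃ l ∈ Kset H t, l⁻¹ * s * l = s * (c * s * c⁻¹) := by
  have hs0 : s ∈ Q0g Q := mem_Q0g_of hs.s_mem hs.ss
  have h1 : c * s * c⁻¹ ∈ Q0g Q := by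
    simpa using R.Q0_norm h2 (H.inv_mem (Dg_le hc.1)) hs0
  have h3 := (R.mem_Q0 h2).1 ((Q0g Q).mul_mem hs0 h1)
  obtain ⟨l, hl, e⟩ := R.exists_K_conj hs h3.1 (fun h => hs.s_ne (R.K_fpf hc hc1 hs.s_mem (by
    have h4 : c * s * c⁻¹ = s := by
      rw [← inv_eq_of_mul_self hs.ss]
      nth_rewrite 1 [inv_eq_of_mul_self hs.ss]
      exact eq_inv_of_mul_eq_one_right h
    calc c * s = c * s * c⁻¹ * c := by group
      _ = s * c := by rw [h4]))) h3.2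
  exact ⟨l, hl, e.symm⟩

theorem Trip_mul (hs : Dist Q t s r) {x l w k m y : G} (h : Trip H Q t x l w) (hk : k ∈ Kset H t)
    (h' : Trip H Q t (w * (k * r⁻¹ * k⁻¹)) m y) :
    ∃ y', Trip H Q t (x * (k⁻¹ * s * k)) (l * m * k) y' := by
  obtain ⟨hl, hw, a, ha, e⟩ := h
  obtain ⟨hm, hy, a', ha', e'⟩ := h'
  have hkk := R.K_mul h2 hk hk
  have hll := R.K_mul h2 hl hl
  refine ⟨(k * k) * y * (k * k)⁻¹ * (k * r * k⁻¹), R.K_mul h2 (R.K_mul h2 hl hm) hk,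
    Q.mul_mem (R.norm' (Dg_le hkk.1) hy) (R.norm' (Dg_le hk.1) hs.r_mem),
    a * ((l * l) * a' * (l * l)⁻¹), Q.mul_mem ha (R.norm' (Dg_le hll.1) ha'), ?_⟩
  have c1 := R.K_comm h2 hl hm
  have c2 := R.K_comm h2 hk (R.K_mul h2 hl hm)
  have e3 : l * m * k * (l * m * k) = l * l * (m * m) * (k * k) := by
    calc l * m * k * (l * m * k) = l * m * (k * (l * m)) * k := by group
      _ = l * (m * l) * m * k * k := by rw [c2]; group
      _ = _ := by rw [← c1]; group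
  calc t * (x * (k⁻¹ * s * k)) * t = (t * x * t) * (t * (k⁻¹ * s * k) * t) := by
        simp only [mul_assoc, R.tt']
    _ = a * (l * l) * t * (w * (k * r⁻¹ * k⁻¹)) * (k * t) * r * k⁻¹ := by
        rw [R.t_conj_t hk, e, hs.eq]; group
    _ = a * (l * l) * (t * (w * (k * r⁻¹ * k⁻¹)) * t) * k⁻¹ * r * k⁻¹ := by
        rw [R.K_mul_t hk]; group
    _ = a * (l * l) * a' * (m * m) * (t * (k * k)⁻¹) * ((k * k) * y * k⁻¹ * r * k⁻¹) := by
        rw [e']; group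
    _ = _ := by rw [← R.K_mul_t hkk, e3]; group

end RO

/-- Coordinates. -/
structure Coord (H Q : Subgroup G) (t s r : G) {F : Type*} [Field F] (θ : F ≃+* F) (χ : G → F)
    (e : F → F → G) (β : F) : Prop where
  ne : θ ≠ RingEquiv.refl F
  mem : ∀ a b, e a b ∈ Q
  surj : ∀ x ∈ Q, ∃ a b, x = e a b
  inj : ∀ a b c d, e a b = e c d → a = c ∧ b = d
  mul : ∀ a b c d, e a b * e c d = e (a + c) (b + d + a * θ c)
  bij : Set.BijOn χ (Kset H t) {a | a ≠ 0}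
  χ_mul : ∀ a ∈ Kset H t, ∀ b ∈ Kset H t, χ (a * b) = χ a * χ b
  conj : ∀ k ∈ Kset H t, ∀ a b, k⁻¹ * e a b * k = e (χ k * a) (χ k * θ (χ k) * b)
  s_eq : s = e 0 1
  r_eq : r = e 1 β

theorem RO.exists_coord (R : RO H Q t) (h2 : Rank2 Q) (hp : IsPGroup 2 Q)
    (hna : ¬ IsMulCommutative Q) (hc : Nat.card Q = Nat.card (Q0g Q) ^ 2) (hs : Dist Q t s r)
    (hr : r * r = s) :
    ∃ (F : Type) (_ : Field F) (_ : Fintype F) (_ : CharP F 2) (θ : F ≃+* F) (χ : G → F)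
      (e : F → F → G) (β : F), Fintype.card F = Nat.card (Q0g Q) ∧ Coord H Q t s r θ χ e β := by
  obtain ⟨F, _, _, _, θ, χ, e, hθ, hF, mem, surj, inj, mul, bij, χ_mul, conj⟩ :=
    (R.sz2 h2 hp).typeA hna hc
  obtain ⟨a, b, hab⟩ := surj r hs.r_mem
  have e0 : e 0 0 = 1 := by
    have := mul 0 0 0 0
    simp only [add_zero, zero_mul] at this
    exact mul_eq_left.1 this
  have hs' : s = e 0 (a * θ a) := by
    rw [← hr, hab, mul, CharTwo.add_self_eq_zero, CharTwo.add_self_eq_zero, zero_add]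
  have ha : a ≠ 0 := by
    rintro rfl
    exact hs.s_ne (by rw [hs', zero_mul, e0])
  have hN : a * θ a ≠ 0 := mul_ne_zero ha ((map_ne_zero θ).2 ha)
  have hK : (Kg H t : Set G) = Kset H t := Set.ext fun k => R.mem_Kg h2
  refine ⟨F, _, _, inferInstance, θ, χ, fun x y => e (a * x) (a * θ a * y), b / (a * θ a), hF,
    hθ, fun _ _ => mem _ _, fun x hx => ?_, fun x y z w h => ?_, fun x y z w => ?_, hK ▸ bij,
    fun k hk l hl => χ_mul k ((R.mem_Kg h2).2 hk) l ((R.mem_Kg h2).2 hl), fun k hk x y => ?_,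
    by simpa using hs', ?_⟩
  · obtain ⟨c, d, rfl⟩ := surj x hx
    exact ⟨c / a, d / (a * θ a), by rw [mul_div_cancel₀ _ ha, mul_div_cancel₀ _ hN]⟩
  · obtain ⟨h1, h3⟩ := inj _ _ _ _ h
    exact ⟨mul_left_cancel₀ ha h1, mul_left_cancel₀ hN h3⟩
  · rw [mul, map_mul]; congr 1 <;> ring
  · rw [conj k ((R.mem_Kg h2).2 hk)]; congr 1 <;> ring
  · rw [mul_one, mul_div_cancel₀ _ hN, hab]

namespace Coord
variable {F : Type*} [Field F] [Finite F] [CharP F 2] {θ : F ≃+* F} {χ : G → F} {e : F → F → G}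
  {β : F} (C : Coord H Q t s r θ χ e β)
include C

theorem e_zero : e 0 0 = 1 := by
  have := C.mul 0 0 0 0
  simp only [add_zero, zero_mul] at this
  exact mul_eq_left.1 this

theorem e_inv (a b : F) : (e a b)⁻¹ = e a (b + a * θ a) := by
  refine inv_eq_of_mul_eq_one_right ?_
  rw [C.mul, ← C.e_zero]
  congr 1
  · exact CharTwo.add_self_eq_zero a
  · linear_combination (b + a * θ a) * (CharTwo.two_eq_zero (R := F))

theorem r_inv : r⁻¹ = e 1 (β + 1) := by rw [C.r_eq, C.e_inv, map_one, mul_one]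

theorem χ_ne {k : G} (hk : k ∈ Kset H t) : χ k ≠ 0 := C.bij.mapsTo hk

theorem exists_χ {a : F} (ha : a ≠ 0) : ∃ k ∈ Kset H t, χ k = a := C.bij.surjOn ha

theorem ne_one {a b : F} (h : a ≠ 0 ∨ b ≠ 0) : e a b ≠ 1 := fun h' => by
  obtain ⟨h1, h3⟩ := C.inj _ _ _ _ (h'.trans C.e_zero.symm)
  tauto

variable (R : RO H Q t)
include R

theorem χ_one : χ 1 = 1 := by
  have := C.χ_mul 1 R.K_one 1 R.K_one
  rw [mul_one] at this
  exact (mul_eq_left₀ (C.χ_ne R.K_one)).1 this.symm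

theorem χ_inv {k : G} (hk : k ∈ Kset H t) : χ k⁻¹ = (χ k)⁻¹ := by
  refine eq_inv_of_mul_eq_one_right ?_
  rw [← C.χ_mul k hk _ (R.K_inv hk), mul_inv_cancel, C.χ_one R]

theorem conj' {k : G} (hk : k ∈ Kset H t) (a b : F) :
    k * e a b * k⁻¹ = e ((χ k)⁻¹ * a) ((χ k * θ (χ k))⁻¹ * b) := by
  have := C.conj k⁻¹ (R.K_inv hk) a b
  rwa [inv_inv, C.χ_inv R hk, map_inv₀, ← mul_inv] at this

theorem N_surj (hs : Dist Q t s r) (b : F) : ∃ y : F, y * θ y = b := by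
  by_cases hb : b = 0
  · exact ⟨0, by simp [hb]⟩
  obtain ⟨k, hk, h⟩ := R.exists_K_conj hs (C.mem 0 b) (C.ne_one (Or.inr hb)) (by
    rw [C.mul, ← C.e_zero, CharTwo.add_self_eq_zero, CharTwo.add_self_eq_zero, zero_mul, add_zero])
  rw [C.s_eq, C.conj k hk] at h
  exact ⟨χ k, by simpa using (C.inj _ _ _ _ h).2.symm⟩

theorem N_inj (hs : Dist Q t s r) : Function.Injective fun y : F => y * θ y :=
  Finite.injective_iff_surjective.2 (C.N_surj R hs)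

/-- `r (r⁻¹)^c` in coordinates. -/
theorem key_coord {c k : G} (hc : c ∈ Kset H t) (hk : k ∈ Kset H t) {ε : F} (h0 : ε ≠ 0)
    (hcε : χ c = (1 + ε) / ε) (hkε : χ k = ε) :
    k⁻¹ * (r * (c⁻¹ * r⁻¹ * c)) * k = e 1 (β + 1 + (β * ε + (β + 1) * θ ε)) := by
  have h2 : (2 : F) = 0 := CharTwo.two_eq_zero
  have h1 : θ ε ≠ 0 := (map_ne_zero θ).2 h0
  rw [C.r_inv, C.conj c hc, C.r_eq, C.mul, C.conj k hk, hcε, hkε]
  congr 1
  · field_simp; linear_combination ε * h2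
  · simp only [map_div₀, map_add, map_one, mul_one, one_mul]
    field_simp
    linear_combination (ε * θ ε * β + ε * θ ε + ε) * h2

variable (h2 : Rank2 Q) (hs : Dist Q t s r)
include h2 hs

theorem L_inj : Function.Injective fun ε : F => β * ε + (β + 1) * θ ε := by
  have two : (2 : F) = 0 := CharTwo.two_eq_zero
  have key : ∀ ε : F, β * ε + (β + 1) * θ ε = 0 → ε = 0 := by
    intro ε hε
    by_contra h0
    have h1 : 1 + ε ≠ 0 := fun h => by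
      have : ε = 1 := by linear_combination h - two
      rw [this, map_one] at hε
      exact one_ne_zero (by linear_combination hε - β * two : (1 : F) = 0)
    obtain ⟨c, hc, hcε⟩ := C.exists_χ (div_ne_zero h1 h0)
    obtain ⟨k, hk, hkε⟩ := C.exists_χ h0
    have hc1 : c ≠ 1 := by
      rintro rfl
      rw [C.χ_one R, eq_div_iff h0] at hcε
      exact one_ne_zero (by linear_combination -hcε : (1 : F) = 0)
    have e1 := C.key_coord R hc hk h0 hcε hkε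
    rw [hε, add_zero, ← C.r_inv] at e1
    obtain ⟨l, hl, el⟩ := R.exists_ell h2 hs hc hc1
    have e2 := R.trip_conj_eq h2 hk (R.K_mul h2 hl hc) (R.key_eq h2 hs hc hl el)
    rw [e1, R.tr_inv_t hs, ← mul_one s] at e2
    have hlck := R.K_mul h2 (R.K_mul h2 hl hc) hk
    have e3 := (R.canon3_unique hs.s_mem (R.norm' (Dg_le hk.1)
      (Q.mul_mem hs.r_mem (R.norm' (Dg_le hl.1) (Q.inv_mem hs.r_mem)))) (Dg H t).one_mem
      ((Dg H t).mul_mem hlck.1 hlck.1) (Q.inv_mem hs.r_mem) (R.norm' (Dg_le hk.1) (Q.mul_mem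
        (R.norm' (Dg_le (R.K_mul h2 (R.K_mul h2 hl hc) hc).1) hs.r_mem)
        (R.norm' (Dg_le hc.1) (Q.inv_mem hs.r_mem)))) e2).1
    rw [C.r_inv, C.conj' R hl, C.r_eq, C.mul, C.conj' R hk, C.s_eq] at e3
    have e4 := (C.inj _ _ _ _ e3).1
    have e5 : χ l = χ 1 := by
      have h3 := (mul_eq_zero.1 e4.symm).resolve_left (inv_ne_zero (C.χ_ne hk))
      have h4 : (χ l)⁻¹ = 1 := by linear_combination h3 - two
      rw [C.χ_one R, inv_eq_one.1 h4]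
    rw [C.bij.injOn hl R.K_one e5, inv_one, one_mul, mul_one, left_eq_mul] at el
    exact hs.s_ne (by
      calc s = c⁻¹ * (c * s * c⁻¹) * c := by group
        _ = 1 := by rw [el]; group)
  intro a b h
  simp only at h
  have := key (a + b) (by rw [map_add]; linear_combination h + (β * b + (β + 1) * θ b) * two)
  linear_combination this - b * two

/-- The normalised elements: `r⁻¹`, `r` or a conjugate of `r (r⁻¹)^c`. -/
theorem cases_one (ε : F) : (ε = 0 ∧ e 1 (β + 1 + (β * ε + (β + 1) * θ ε)) = r⁻¹) ∨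
    (ε = 1 ∧ e 1 (β + 1 + (β * ε + (β + 1) * θ ε)) = r) ∨
    ∃ c ∈ Kset H t, c ≠ 1 ∧ ∃ k ∈ Kset H t, ε ≠ 0 ∧ χ c = (1 + ε) / ε ∧ χ k = ε ∧
      e 1 (β + 1 + (β * ε + (β + 1) * θ ε)) = k⁻¹ * (r * (c⁻¹ * r⁻¹ * c)) * k := by
  have two : (2 : F) = 0 := CharTwo.two_eq_zero
  by_cases h0 : ε = 0
  · exact Or.inl ⟨h0, by rw [h0, C.r_inv]; simp⟩
  by_cases h1 : ε = 1
  · refine Or.inr (Or.inl ⟨h1, ?_⟩)
    rw [h1, C.r_eq, map_one]; congr 1; linear_combination (β + 1) * two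
  have h1' : 1 + ε ≠ 0 := fun h => h1 (by linear_combination h - two)
  obtain ⟨c, hc, hcε⟩ := C.exists_χ (div_ne_zero h1' h0)
  obtain ⟨k, hk, hkε⟩ := C.exists_χ h0
  have hc1 : c ≠ 1 := by
    rintro rfl
    rw [C.χ_one R, eq_div_iff h0] at hcε
    exact one_ne_zero (by linear_combination -hcε : (1 : F) = 0)
  exact Or.inr (Or.inr ⟨c, hc, hc1, k, hk, h0, hcε, hkε, (C.key_coord R hc hk h0 hcε hkε).symm⟩)

theorem induction (P : G → Prop) (conj : ∀ x ∈ Q, P x → ∀ k ∈ Kset H t, P (k⁻¹ * x * k))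
    (Ps : P s) (Pr : P r) (Pr' : P r⁻¹) (Pc : ∀ c ∈ Kset H t, c ≠ 1 → P (r * (c⁻¹ * r⁻¹ * c))) :
    ∀ x ∈ Q, x ≠ 1 → P x := by
  have two : (2 : F) = 0 := CharTwo.two_eq_zero
  intro x hx hx1
  obtain ⟨a, b, rfl⟩ := C.surj x hx
  by_cases ha : a = 0
  · obtain ⟨k, hk, h⟩ := R.exists_K_conj hs hx hx1 (by
      rw [ha, C.mul, ← C.e_zero, CharTwo.add_self_eq_zero, CharTwo.add_self_eq_zero, zero_mul,
        add_zero])
    exact h ▸ conj s hs.s_mem Ps k hk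
  obtain ⟨k, hk, hka⟩ := C.exists_χ ha
  have hN : θ a ≠ 0 := (map_ne_zero θ).2 ha
  obtain ⟨ε, hε⟩ := Finite.injective_iff_surjective.1 (C.L_inj R h2 hs) (β + 1 + b / (a * θ a))
  simp only at hε
  have e1 : e a b = k⁻¹ * e 1 (β + 1 + (β * ε + (β + 1) * θ ε)) * k := by
    rw [C.conj k hk, hka, hε, mul_one]
    congr 1
    field_simp
    linear_combination (-(a * θ a) * (β + 1)) * two
  rw [e1]
  refine conj _ (C.mem _ _) ?_ k hk
  rcases C.cases_one R h2 hs ε with h | h | ⟨c, hc, hc1, l, hl, -, -, -, h⟩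
  · exact h.2 ▸ Pr'
  · exact h.2 ▸ Pr
  · exact h ▸ conj _ (Q.mul_mem hs.r_mem (R.norm c (Dg_le hc.1) _ (Q.inv_mem hs.r_mem)))
      (Pc c hc hc1) l hl

theorem exists_trip : ∀ x ∈ Q, x ≠ 1 → ∃ k y, Trip H Q t x k y :=
  C.induction R h2 hs _ (fun _ _ ⟨_, _, h⟩ _ hk => ⟨_, _, R.Trip_conj h2 h hk⟩) ⟨_, _, R.trip_s hs⟩
    ⟨_, _, R.trip_r hs⟩ ⟨_, _, R.trip_r_inv hs⟩ fun c hc hc1 => by
      obtain ⟨l, hl, el⟩ := R.exists_ell h2 hs hc hc1
      exact ⟨_, R.trip_key h2 hs hc hl el⟩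

end Coord

theorem RO.typeA_K (R : RO H Q t) (h2 : Rank2 Q) (hp : IsPGroup 2 Q) (hna : ¬ IsMulCommutative Q)
    (hc : Nat.card Q = Nat.card (Q0g Q) ^ 2) (hs : Dist Q t s r) (hr : r * r = s) :
    ∀ x ∈ Q, x ≠ 1 → ∃ a ∈ Q, ∃ k ∈ Kset H t, ∃ y ∈ Q, t * x * t = a * k * t * y := by
  obtain ⟨F, _, _, _, θ, χ, e, β, -, C⟩ := R.exists_coord h2 hp hna hc hs hr
  intro x hx hx1
  obtain ⟨k, y, hk, hy, a, ha, h⟩ := C.exists_trip R h2 hs x hx hx1
  exact ⟨a, ha, k * k, R.K_mul h2 hk hk, y, hy, h⟩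

end CfsgLib.Suz
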