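import Mathlib
import Cfsg.Prelude.Def_Sz

/-! Project D: matrices in the Suzuki group; `Sz` is generated by `S(a,b)`, `D(μ)` and `W`. -/

set_option autoImplicit false
set_option linter.unusedSectionVars false

namespace CfsgLib.Suz
open Matrix Cfsg.Lie
open scoped MatrixGroups

variable {F : Type*} [Field F] [CharP F 2]

def szS (θ : F ≃+* F) (a b : F) : Matrix (Fin 4) (Fin 4) F :=
  !![1, a, b, a ^ 2 * θ a + a * b + θ b; 0, 1, θ a, a * θ a + b; 0, 0, 1, a; 0, 0, 0, 1]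

def szD (θ : F ≃+* F) (μ : F) : Matrix (Fin 4) (Fin 4) F :=
  !![(μ * θ μ)⁻¹, 0, 0, 0; 0, μ⁻¹, 0, 0; 0, 0, μ, 0; 0, 0, 0, μ * θ μ]

def szW (F : Type*) [Field F] : Matrix (Fin 4) (Fin 4) F :=
  !![0, 0, 0, 1; 0, 0, 1, 0; 0, 1, 0, 0; 1, 0, 0, 0]

def InX (θ : F ≃+* F) (g : Matrix (Fin 4) (Fin 4) F) : Prop :=
  gᵀ * szW F * g = szW F ∧ star4 g = g.map θ

theorem szW_mul : szW F * szW F = 1 := by
  ext i j; fin_cases i <;> fin_cases j <;> simp [szW, Matrix.mul_apply, Fin.sum_univ_four]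

theorem szW_col (g : Matrix (Fin 4) (Fin 4) F) (i j : Fin 4) : (gᵀ * szW F * g) i j =
    g 0 i * g 3 j + g 1 i * g 2 j + g 2 i * g 1 j + g 3 i * g 0 j := by
  simp [szW, Matrix.mul_apply, Fin.sum_univ_four]
  ring

theorem mem_Sp4_iff (g : GL (Fin 4) F) :
    g ∈ Sp4 F ↔
      (g : Matrix (Fin 4) (Fin 4) F)ᵀ * szW F * (g : Matrix (Fin 4) (Fin 4) F) = szW F := by
  have key : ∀ u v : Fin 4 → F, altForm4 u v = u ⬝ᵥ (szW F *ᵥ v) := fun u v => by
    simp [altForm4, szW, dotProduct, mulVec, Fin.sum_univ_four]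
  have key2 : ∀ u v : Fin 4 → F, altForm4 ((g : Matrix (Fin 4) (Fin 4) F) *ᵥ u)
      ((g : Matrix (Fin 4) (Fin 4) F) *ᵥ v) =
        u ⬝ᵥ (((g : Matrix (Fin 4) (Fin 4) F)ᵀ * szW F * (g : Matrix (Fin 4) (Fin 4) F)) *ᵥ v) :=
      fun u v => by
    rw [key, ← mulVec_mulVec, ← mulVec_mulVec, dotProduct_mulVec u, vecMul_transpose]
  constructor
  · intro h
    ext i j
    have := h (Pi.single i 1) (Pi.single j 1)
    simp only [Units.coeHom_apply] at this
    rw [key2, key] at this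
    simpa using this
  · intro h u v
    simp only [Units.coeHom_apply]
    rw [key2, h, key]

theorem row_of_col {g : Matrix (Fin 4) (Fin 4) F} (h : gᵀ * szW F * g = szW F) :
    gᵀᵀ * szW F * gᵀ = szW F := by
  have h1 : (szW F * gᵀ * szW F) * g = 1 := by
    rw [Matrix.mul_assoc (szW F), Matrix.mul_assoc (szW F), h, szW_mul]
  have h2 := mul_eq_one_comm.1 h1
  calc gᵀᵀ * szW F * gᵀ = g * (szW F * gᵀ * szW F) * szW F := by
        simp only [Matrix.mul_assoc, szW_mul, transpose_transpose, Matrix.mul_one]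
    _ = szW F := by rw [h2, Matrix.one_mul]

theorem szW_pair (p : Fin 4) : szW F (pairOf p).1 (pairOf p).2 = 0 := by
  fin_cases p <;> simp [szW, pairOf]

theorem star4_mul {g h : Matrix (Fin 4) (Fin 4) F} (hg : gᵀ * szW F * g = szW F)
    (hh : hᵀ * szW F * h = szW F) : star4 (g * h) = star4 g * star4 h := by
  ext p r
  have h1 := congrFun (congrFun (row_of_col hg) (pairOf p).1) (pairOf p).2
  have h2 := congrFun (congrFun hh (pairOf r).1) (pairOf r).2
  rw [szW_col, szW_pair] at h1 h2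
  simp only [transpose_apply] at h1
  simp only [star4, of_apply, Matrix.mul_apply, Fin.sum_univ_four]
  generalize (pairOf p).1 = k at *
  generalize (pairOf p).2 = l at *
  generalize (pairOf r).1 = i at *
  generalize (pairOf r).2 = j at *
  simp only [pairOf, Matrix.cons_val]
  grind

variable {θ : F ≃+* F}

theorem InX.mul {g h : Matrix (Fin 4) (Fin 4) F} (hg : InX θ g) (hh : InX θ h) : InX θ (g * h) := by
  refine ⟨?_, ?_⟩
  · calc (g * h)ᵀ * szW F * (g * h) = hᵀ * (gᵀ * szW F * g) * h := by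
          simp only [transpose_mul, Matrix.mul_assoc]
      _ = szW F := by rw [hg.1, hh.1]
  · rw [star4_mul hg.1 hh.1, hg.2, hh.2]
    exact (Matrix.map_mul (f := (θ : F →+* F))).symm

theorem inX_W : InX θ (szW F) := by
  refine ⟨?_, ?_⟩ <;> ext i j <;> fin_cases i <;> fin_cases j <;>
    simp [szW, Matrix.mul_apply, Fin.sum_univ_four, star4, pairOf, CharTwo.neg_eq]

theorem szS_zero : szS θ 0 0 = 1 := by
  ext i j; fin_cases i <;> fin_cases j <;> simp [szS]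

theorem szD_one : szD θ 1 = 1 := by
  ext i j; fin_cases i <;> fin_cases j <;> simp [szD]

theorem szD_mul (μ ν : F) : szD θ μ * szD θ ν = szD θ (μ * ν) := by
  ext i j; fin_cases i <;> fin_cases j <;> simp [szD, Matrix.mul_apply, Fin.sum_univ_four] <;> ring

theorem szW_D (μ : F) : szW F * szD θ μ * szW F = szD θ μ⁻¹ := by
  ext i j; fin_cases i <;> fin_cases j <;>
    simp [szD, szW, Matrix.mul_apply, Fin.sum_univ_four, mul_comm]

theorem szW_s : szW F * szS θ 0 1 * szW F = szS θ 1 1 * szW F * szS θ 1 0 := by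
  have h : (1 : F) + 1 = 0 := CharTwo.add_self_eq_zero 1
  ext i j; fin_cases i <;> fin_cases j <;>
    simp [szS, szW, Matrix.mul_apply, Fin.sum_univ_four, h]

variable (hθ : ∀ x, θ (θ x) = x ^ 2)
include hθ

theorem szS_mul (a b c d : F) : szS θ a b * szS θ c d = szS θ (a + c) (b + d + a * θ c) := by
  ext i j; fin_cases i <;> fin_cases j <;>
    simp [szS, Matrix.mul_apply, Fin.sum_univ_four, hθ] <;> grind

theorem szS_mul_D {μ : F} (h : μ ≠ 0) (a b : F) :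
    szS θ a b * szD θ μ = szD θ μ * szS θ (θ μ * a) (θ μ * θ (θ μ) * b) := by
  have h1 : θ μ ≠ 0 := (map_ne_zero θ).2 h
  ext i j; fin_cases i <;> fin_cases j <;>
    simp [szS, szD, Matrix.mul_apply, Fin.sum_univ_four, hθ] <;> field_simp

theorem inX_S (a b : F) : InX θ (szS θ a b) := by
  refine ⟨?_, ?_⟩ <;> ext i j <;> fin_cases i <;> fin_cases j <;>
    simp [szW, szS, Matrix.mul_apply, Fin.sum_univ_four, star4, pairOf, hθ] <;> grind

theorem inX_D {μ : F} (h : μ ≠ 0) : InX θ (szD θ μ) := by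
  have h1 : θ μ ≠ 0 := (map_ne_zero θ).2 h
  refine ⟨?_, ?_⟩ <;> ext i j <;> fin_cases i <;> fin_cases j <;>
    simp [szW, szD, Matrix.mul_apply, Fin.sum_univ_four, star4, pairOf, hθ] <;> field_simp

omit hθ in
theorem InX.unitri {g : Matrix (Fin 4) (Fin 4) F} (hg : InX θ g) (h0 : g 0 0 = 1) (h1 : g 1 0 = 0)
    (h2 : g 2 0 = 0) (h3 : g 3 0 = 0) : g = szS θ (g 0 1) (g 0 2) := by
  have B := fun i j => (szW_col g i j).symm.trans (congrFun (congrFun hg.1 i) j)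
  have S := fun i j => congrFun (congrFun hg.2 i) j
  have b01 := B 0 1
  have b02 := B 0 2
  have b03 := B 0 3
  have b12 := B 1 2
  have b13 := B 1 3
  have b23 := B 2 3
  have s00 := S 0 0
  have s10 := S 1 0
  have s01 := S 0 1
  have s02 := S 0 2
  simp [szW, star4, pairOf, h0, h1, h2, h3] at b01 b02 b03 b12 b13 b23 s00 s10 s01 s02
  ext i j; fin_cases i <;> fin_cases j <;> simp [szS] <;> grind

theorem InX.tri {g : Matrix (Fin 4) (Fin 4) F} (hg : InX θ g) (h1 : g 1 0 = 0)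
    (h2 : g 2 0 = 0) (h3 : g 3 0 = 0) : ∃ a b μ, μ ≠ 0 ∧ g = szS θ a b * szD θ μ := by
  have b03 := (szW_col g 0 3).symm.trans (congrFun (congrFun hg.1 0) 3)
  simp [szW, h1, h2, h3] at b03
  have h0 : g 0 0 ≠ 0 := left_ne_zero_of_mul_eq_one b03
  have h0' : θ (g 0 0) ≠ 0 := (map_ne_zero θ).2 h0
  have hμ : θ (g 0 0) / g 0 0 ≠ 0 := div_ne_zero h0' h0
  have h := (hg.mul (inX_D hθ hμ)).unitri
    (by simp [szD, Matrix.mul_apply, Fin.sum_univ_four, hθ]; field_simp)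
    (by simp [szD, Matrix.mul_apply, Fin.sum_univ_four, h1])
    (by simp [szD, Matrix.mul_apply, Fin.sum_univ_four, h2])
    (by simp [szD, Matrix.mul_apply, Fin.sum_univ_four, h3])
  exact ⟨_, _, _, inv_ne_zero hμ, by
    rw [← h, Matrix.mul_assoc, szD_mul, mul_inv_cancel₀ hμ, szD_one, Matrix.mul_one]⟩

omit hθ in
theorem InX.ovoid {g : Matrix (Fin 4) (Fin 4) F} (hg : InX θ g) :
    (g 1 0 = 0 ∧ g 2 0 = 0 ∧ g 3 0 = 0) ∨ ∃ a b, (szW F * szS θ a b * g) 1 0 = 0 ∧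
      (szW F * szS θ a b * g) 2 0 = 0 ∧ (szW F * szS θ a b * g) 3 0 = 0 := by
  have b01 := (szW_col g 0 1).symm.trans (congrFun (congrFun hg.1 0) 1)
  have S := fun i => congrFun (congrFun hg.2 i) 0
  have s0 := S 0
  have s1 := S 1
  have s2 := S 2
  have s3 := S 3
  simp [szW, star4, pairOf] at b01 s0 s1 s2 s3
  by_cases h3 : g 3 0 = 0
  · have h2 : g 2 0 = 0 := by
      have : g 2 0 * θ (g 2 0) = 0 := by
        rw [h3, map_zero] at s3
        grind
      simpa using this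
    have h1 : g 1 0 = 0 := by
      have : g 1 0 * (g 1 0 * θ (g 1 0)) = 0 := by
        rw [h2, map_zero] at s2
        grind
      simpa using this
    exact Or.inl ⟨h1, h2, h3⟩
  · have h3' : θ (g 3 0) ≠ 0 := (map_ne_zero θ).2 h3
    refine Or.inr ⟨g 2 0 / g 3 0, g 1 0 / g 3 0, ?_, ?_, ?_⟩ <;>
      simp [szW, szS, Matrix.mul_apply, Fin.sum_univ_four] <;> field_simp <;> grind

def gS (a b : F) : GL (Fin 4) F :=
  ⟨szS θ a b, szS θ a (b + a * θ a), by rw [szS_mul hθ, ← szS_zero (θ := θ)]; congr 1 <;> grind,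
    by rw [szS_mul hθ, ← szS_zero (θ := θ)]; congr 1 <;> grind⟩

omit hθ in
open Classical in
noncomputable def gD (θ : F ≃+* F) (μ : F) : GL (Fin 4) F :=
  if h : μ = 0 then 1 else ⟨szD θ μ, szD θ μ⁻¹, by rw [szD_mul, mul_inv_cancel₀ h, szD_one],
    by rw [szD_mul, inv_mul_cancel₀ h, szD_one]⟩

omit hθ in
def gW (F : Type*) [Field F] [CharP F 2] : GL (Fin 4) F := ⟨szW F, szW F, szW_mul, szW_mul⟩

theorem coe_gS (a b : F) : (gS hθ a b : Matrix (Fin 4) (Fin 4) F) = szS θ a b := rfl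

omit hθ in
theorem coe_gD {μ : F} (h : μ ≠ 0) : (gD θ μ : Matrix (Fin 4) (Fin 4) F) = szD θ μ := by
  simp [gD, h]

omit hθ in
theorem coe_gW : (gW F : Matrix (Fin 4) (Fin 4) F) = szW F := rfl

theorem mem_of_inX {L : Subgroup (GL (Fin 4) F)} (hS : ∀ a b, gS hθ a b ∈ L)
    (hD : ∀ μ, μ ≠ 0 → gD θ μ ∈ L) (hW : gW F ∈ L) {g : GL (Fin 4) F}
    (hg : InX θ (g : Matrix (Fin 4) (Fin 4) F)) : g ∈ L := by
  have key : ∀ g : GL (Fin 4) F, InX θ (g : Matrix (Fin 4) (Fin 4) F) →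
      g.val 1 0 = 0 → g.val 2 0 = 0 → g.val 3 0 = 0 → g ∈ L := fun g hg h1 h2 h3 => by
    obtain ⟨a, b, μ, hμ, h⟩ := hg.tri hθ h1 h2 h3
    have : g = gS hθ a b * gD θ μ := Units.ext (by rw [Units.val_mul, coe_gS, coe_gD hμ, ← h])
    exact this ▸ L.mul_mem (hS a b) (hD μ hμ)
  rcases hg.ovoid with ⟨h1, h2, h3⟩ | ⟨a, b, h1, h2, h3⟩
  · exact key g hg h1 h2 h3
  · exact (L.mul_mem_cancel_left (L.mul_mem hW (hS a b))).1
      (key (gW F * gS hθ a b * g) ((inX_W.mul (inX_S hθ a b)).mul hg) h1 h2 h3)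

omit hθ in
theorem inX_iff {e : ℕ} (he : ∀ x, θ x = x ^ e) (g : GL (Fin 4) F) :
    InX θ (g : Matrix (Fin 4) (Fin 4) F) ↔ g ∈ Sp4 F ∧ star4 (g : Matrix (Fin 4) (Fin 4) F) =
      (g : Matrix (Fin 4) (Fin 4) F).map (fun x => x ^ e) := by
  rw [mem_Sp4_iff, InX, show (θ : F → F) = fun x => x ^ e from funext he]

theorem eq_Sz {e : ℕ} (he : ∀ x, θ x = x ^ e) {L : Subgroup (GL (Fin 4) F)}
    (hS : ∀ a b, gS hθ a b ∈ L) (hD : ∀ μ, μ ≠ 0 → gD θ μ ∈ L) (hW : gW F ∈ L)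
    (hL : ∀ g ∈ L, InX θ (g : Matrix (Fin 4) (Fin 4) F)) : L = Sz F e :=
  le_antisymm (fun g hg => Subgroup.subset_closure (G := GL (Fin 4) F) ((inX_iff he g).1 (hL g hg)))
    ((Subgroup.closure_le L).2 fun g hg => mem_of_inX hθ hS hD hW ((inX_iff he g).2 hg))

end CfsgLib.Suz
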