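import Mathlib
import Cfsg.Agent.Lib.Suz.LinPoly

/-! Project D: the field computation giving `θ² = Frobenius`. -/

set_option autoImplicit false
set_option linter.unusedSectionVars false

namespace CfsgLib.Suz
open Finset

theorem dedekind4 {F : Type*} [Field F] (f1 f2 f3 f4 : F →* F) (a1 a2 a3 a4 : F)
    (h : ∀ x, a1 * f1 x + a2 * f2 x + a3 * f3 x + a4 * f4 x = 0) (h2 : f2 ≠ f1) (h3 : f3 ≠ f1)
    (h4 : f4 ≠ f1) : a1 = 0 := by
  classical
  have := linearIndependent_iff.1 (linearIndependent_monoidHom F F)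
    (Finsupp.single f1 a1 + Finsupp.single f2 a2 + Finsupp.single f3 a3 + Finsupp.single f4 a4)
    (by ext x; simpa using h x)
  simpa [Finsupp.single_apply, h2, h3, h4] using DFunLike.congr_fun this f1

variable {F : Type*} [Field F] [Fintype F] [CharP F 2]

theorem exists_sigma {θ : F ≃+* F} (hne : θ ≠ RingEquiv.refl F)
    (hN : Function.Injective fun y : F => y * θ y) {M : F → F} (hM : ∀ x y, M (x + y) = M x + M y)
    (hM1 : M 1 = 0)
    (hII : ∀ v y y' : F, y ≠ 0 → 1 + y ≠ 0 → y' ≠ 0 → 1 + y' ≠ 0 → y' * θ y' = y * θ y + 1 →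
      (1 + y) * θ (1 + y) * M (v * (y * θ y / ((1 + y) * θ (1 + y)))) +
        (1 + y') * θ (1 + y') * M (v * (y' * θ y' / ((1 + y') * θ (1 + y')))) = v) :
    ∃ σ : F →+* F, (σ : F →* F) ≠ MonoidHom.id F ∧ ∀ x, M x = x + σ x := by
  classical
  have two : (2 : F) = 0 := CharTwo.two_eq_zero
  obtain ⟨n, -, hn⟩ := FiniteField.card F 2
  obtain ⟨m, hm⟩ := exists_linpoly hn M hM
  have N0 : ∀ {y : F}, y ≠ 0 → y * θ y ≠ 0 := fun hy => mul_ne_zero hy ((map_ne_zero θ).2 hy)
  have hsurj := Finite.injective_iff_surjective.1 hN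
  choose φ hφ using fun y : F => hsurj (y * θ y + 1)
  simp only at hφ
  have φ0 : ∀ y, 1 + y ≠ 0 → φ y ≠ 0 := fun y hy h => hy (by
    have := hφ y
    rw [h, zero_mul] at this
    have h1 : y = 1 := hN (by simp only [map_one]; linear_combination -this - two)
    rw [h1]; exact CharTwo.add_self_eq_zero 1)
  have φ1 : ∀ y, y ≠ 0 → 1 + φ y ≠ 0 := fun y hy h => N0 hy (by
    have h1 : φ y = 1 := by linear_combination h - two
    have := hφ y
    rw [h1, map_one] at this
    linear_combination -this)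
  let z : Fin n := ⟨0, n.pos⟩
  let c : F → F := fun y => (1 + y) * θ (1 + y)
  let p : F → F := fun y => y * θ y / c y
  have coef : ∀ y, y ≠ 0 → 1 + y ≠ 0 → ∀ i : Fin n,
      m i * (c y * p y ^ 2 ^ (i : ℕ) + c (φ y) * p (φ y) ^ 2 ^ (i : ℕ)) =
        (Pi.single z 1 : Fin n → F) i := by
    intro y h0 h1
    refine congrFun (linpoly_inj hn (a := fun i => m i * (c y * p y ^ 2 ^ (i : ℕ) +
      c (φ y) * p (φ y) ^ 2 ^ (i : ℕ))) (b := Pi.single z 1) fun v => ?_) 
    have := hII v y (φ y) h0 h1 (φ0 y h1) (φ1 y h0) (hφ y)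
    rw [hm, hm, mul_sum, mul_sum, ← sum_add_distrib] at this
    rw [sum_eq_single z (f := fun i => (Pi.single z 1 : Fin n → F) i * v ^ 2 ^ (i : ℕ))
      (fun i _ hi => by simp [Pi.single_eq_of_ne hi]) (by simp)]
    simp only [Pi.single_eq_same, one_mul, z, pow_zero, pow_one]
    refine Eq.trans (sum_congr rfl fun i _ => ?_) this
    simp only [c, p, mul_pow]
    ring
  obtain ⟨y₀, hy₀⟩ : ∃ y, θ y ≠ y := by
    by_contra h
    push Not at h
    exact hne (RingEquiv.ext h)
  have y00 : y₀ ≠ 0 := by rintro rfl; simp at hy₀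
  have y01 : 1 + y₀ ≠ 0 := fun h => hy₀ (by
    have : y₀ = 1 := by linear_combination h - two
    rw [this, map_one])
  have cp : ∀ y, 1 + y ≠ 0 → c y * p y = y * θ y := fun y hy => mul_div_cancel₀ _ (N0 hy)
  have mz : m z = 1 := by
    have := coef y₀ y00 y01 z
    simp only [z, pow_zero, pow_one, Pi.single_eq_same] at this
    rw [cp _ y01, cp _ (φ1 _ y00), hφ] at this
    linear_combination this - m z * y₀ * θ y₀ * two
  let w : F → F := fun y => p (φ y) / p y
  have p0 : ∀ y, y ≠ 0 → 1 + y ≠ 0 → p y ≠ 0 := fun y h0 h1 => div_ne_zero (N0 h0) (N0 h1)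
  have hw : ∀ i, i ≠ z → m i ≠ 0 → ∀ y, y ≠ 0 → 1 + y ≠ 0 → w y ^ 2 ^ (i : ℕ) = c y / c (φ y) := by
    intro i hi hmi y h0 h1
    have := coef y h0 h1 i
    rw [Pi.single_eq_of_ne hi] at this
    have h3 := (mul_eq_zero.1 this).resolve_left hmi
    simp only [w]
    rw [div_pow, div_eq_div_iff (pow_ne_zero _ (p0 y h0 h1)) (N0 (φ1 y h0))]
    linear_combination h3 - c y * p y ^ 2 ^ (i : ℕ) * two
  have hw2 : ∀ y, y ≠ 0 → 1 + y ≠ 0 → w y * (y * θ y) = (y * θ y + 1) * (c y / c (φ y)) := by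
    intro y h0 h1
    have a1 := N0 h0
    have a2 : c y ≠ 0 := N0 h1
    have a3 : c (φ y) ≠ 0 := N0 (φ1 y h0)
    simp only [w, p]
    rw [hφ]
    generalize y * θ y = u at *
    field_simp
  obtain ⟨i, hi, hmi⟩ : ∃ i, i ≠ z ∧ m i ≠ 0 := by
    by_contra h
    push Not at h
    rw [hm, sum_eq_single z (fun i _ hi => by simp [h i hi]) (by simp), mz] at hM1
    simp at hM1
  have hne1 : ∀ y, y ≠ 0 → 1 + y ≠ 0 → w y ^ 2 ^ (i : ℕ) ≠ w y := fun y h0 h1 h => by
    have := hw2 y h0 h1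
    rw [← hw i hi hmi y h0 h1, h] at this
    exact div_ne_zero (p0 _ (φ0 y h1) (φ1 y h0)) (p0 y h0 h1) (by linear_combination -this)
  let W : {y : F // y ≠ 0 ∧ 1 + y ≠ 0} → {y : F // y ≠ 0 ∧ 1 + y ≠ 0} := fun y =>
    ⟨w y, fun h => hne1 y y.2.1 y.2.2 (by rw [h]; simp), fun h => hne1 y y.2.1 y.2.2 (by
      have : w y = 1 := by linear_combination h - two
      rw [this, one_pow])⟩
  have Winj : Function.Injective W := fun a b h => by
    have h1 : w a = w b := congrArg Subtype.val h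
    have a1 := hw2 a a.2.1 a.2.2
    have a2 := hw2 b b.2.1 b.2.2
    rw [← hw i hi hmi _ a.2.1 a.2.2] at a1
    rw [← hw i hi hmi _ b.2.1 b.2.2, ← h1] at a2
    refine Subtype.ext (hN (mul_left_cancel₀ (sub_ne_zero.2 (hne1 a a.2.1 a.2.2)) ?_))
    linear_combination a2 - a1
  have uniq : ∀ j, j ≠ z → m j ≠ 0 → j = i := by
    intro j hj hmj
    by_contra hji
    have h1 : ∀ x : F, x ^ 2 ^ (j : ℕ) = x ^ 2 ^ (i : ℕ) := fun x => by
      by_cases h0 : x = 0
      · simp [h0]
      by_cases h1 : 1 + x = 0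
      · have : x = 1 := by linear_combination h1 - two
        simp [this]
      obtain ⟨y, hy⟩ := Finite.injective_iff_surjective.1 Winj ⟨x, h0, h1⟩
      have hy' : w y = x := congrArg Subtype.val hy
      rw [← hy', hw i hi hmi _ y.2.1 y.2.2, hw j hj hmj _ y.2.1 y.2.2]
    have := congrFun (linpoly_inj hn (a := Pi.single j 1) (b := Pi.single i 1) fun x => by
      rw [sum_eq_single j (fun i _ hi => by simp [Pi.single_eq_of_ne hi]) (by simp),
        sum_eq_single i (fun i _ hi => by simp [Pi.single_eq_of_ne hi]) (by simp)]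
      simp [h1]) j
    simp [Pi.single_eq_of_ne hji] at this
  have hM' : ∀ x, M x = x + m i * x ^ 2 ^ (i : ℕ) := fun x => by
    rw [hm, ← sum_subset (s₁ := {z, i}) (subset_univ _) fun j _ hj => ?_, sum_pair hi.symm, mz]
    · simp [z]
    · simp only [mem_insert, mem_singleton, not_or] at hj
      have : m j = 0 := by
        by_contra h
        exact hj.2 (uniq j hj.1 h)
      simp [this]
  have mi : m i = 1 := by
    have := hM' 1
    rw [hM1] at this
    simp only [one_pow, mul_one] at this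
    linear_combination -this - two
  refine ⟨iterateFrobenius F 2 i, fun h => hne1 y₀ y00 y01 ?_, fun x => ?_⟩
  · exact DFunLike.congr_fun h (w y₀)
  · rw [hM', mi, one_mul, iterateFrobenius_def]

theorem theta_sq {θ : F ≃+* F} (hne : θ ≠ RingEquiv.refl F)
    (hN : Function.Injective fun y : F => y * θ y) {β : F} {M : F → F}
    (hM : ∀ x y, M (x + y) = M x + M y) (hL : ∀ ε, M (β * ε + (β + 1) * θ ε) = ε + θ ε)
    (hI : ∀ y : F, y ≠ 0 → 1 + y ≠ 0 →
      M (y * θ y) = y * θ y + (1 + y) * θ (1 + y) * M (y * θ y / ((1 + y) * θ (1 + y))))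
    (hII : ∀ v y y' : F, y ≠ 0 → 1 + y ≠ 0 → y' ≠ 0 → 1 + y' ≠ 0 → y' * θ y' = y * θ y + 1 →
      (1 + y) * θ (1 + y) * M (v * (y * θ y / ((1 + y) * θ (1 + y)))) +
        (1 + y') * θ (1 + y') * M (v * (y' * θ y' / ((1 + y') * θ (1 + y')))) = v) :
    (β = 0 ∧ ∀ x, θ (θ x) = x ^ 2) ∨ (β = 1 ∧ ∀ x, θ (θ x) ^ 2 = x) := by
  have two : (2 : F) = 0 := CharTwo.two_eq_zero
  have hM1 : M 1 = 0 := by
    have := hL 1
    rw [map_one, show β * 1 + (β + 1) * 1 = 1 by linear_combination β * two] at this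
    rw [this]; exact CharTwo.add_self_eq_zero 1
  obtain ⟨σ, hσ, hMσ⟩ := exists_sigma hne hN hM hM1 hII
  let τ : F →* F := (θ : F →+* F)
  have hτ : τ ≠ MonoidHom.id F := fun h => hne (RingEquiv.ext fun x => DFunLike.congr_fun h x)
  have key : ∀ x, (β + 1) * x + β * θ x + σ β * σ x + (σ β + 1) * σ (θ x) = 0 := fun x => by
    have := hL x
    simp only [hMσ, map_add, map_mul, map_one] at this
    linear_combination this + x * two
  have hI' : ∀ y : F, y ≠ 0 → 1 + y ≠ 0 → (y * θ y + σ y * σ (θ y)) * ((1 + σ y) * (1 + σ (θ y))) =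
      (1 + y) * (1 + θ y) * (σ y * σ (θ y)) := fun y h0 h1 => by
    have := hI y h0 h1
    have a1 : 1 + θ y ≠ 0 := by simpa using (map_ne_zero θ).2 h1
    have a2 : 1 + σ y ≠ 0 := by simpa using (map_ne_zero σ).2 h1
    have a3 : 1 + σ (θ y) ≠ 0 := by simpa using (map_ne_zero σ).2 a1
    simp only [hMσ, map_add, map_mul, map_one, map_div₀] at this
    field_simp at this
    linear_combination this + (y * θ y * (1 + σ y) * (1 + σ (θ y))) * two
  have triv : ∀ P : F → Prop, P 0 → P 1 → (∀ x, x ≠ 0 → 1 + x ≠ 0 → P x) → ∀ x, P x := by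
    intro P h0 h1 h x
    by_cases a : x = 0
    · exact a ▸ h0
    by_cases b : 1 + x = 0
    · have : x = 1 := by linear_combination b - two
      exact this ▸ h1
    exact h x a b
  by_cases hc : (σ : F →* F).comp τ = MonoidHom.id F
  · have hc' : ∀ x, σ (θ x) = x := fun x => DFunLike.congr_fun hc x
    have h1 : (σ : F →* F) ≠ τ := fun h => hne (RingEquiv.ext fun x => by
      have h2 : ∀ x, θ (θ x) = x := fun x => (DFunLike.congr_fun h (θ x)).symm.trans (hc' x)
      by_cases hx : x = 0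
      · simp [hx]
      have h3 : θ x ≠ 0 := (map_ne_zero θ).2 hx
      have h4 : θ x / x = 1 := hN (by simp only [map_div₀, h2, map_one]; field_simp)
      exact (div_eq_one_iff_eq hx).1 h4)
    refine Or.inl ⟨dedekind4 τ (MonoidHom.id F) σ ((σ : F →* F).comp τ) β (β + 1) (σ β) (σ β + 1)
      (fun x => by have := key x; simp only [τ]; simp; linear_combination this) hτ.symm h1
      (hc ▸ hτ.symm), triv _ (by simp) (by simp) fun x h0 h1 => ?_⟩
    have a0 : θ x ≠ 0 := (map_ne_zero θ).2 h0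
    have a1 : 1 + θ x ≠ 0 := by simpa using (map_ne_zero θ).2 h1
    have := hI' (θ x) a0 a1
    rw [hc', hc'] at this
    refine mul_left_cancel₀ (mul_ne_zero a0 a1) ?_
    linear_combination this - θ x * (1 + θ x) * x ^ 2 * two
  · have hβ : β + 1 = 0 := dedekind4 (MonoidHom.id F) τ σ ((σ : F →* F).comp τ) (β + 1) β (σ β)
      (σ β + 1) (fun x => by have := key x; simp only [τ]; simp; linear_combination this) hτ hσ hc
    have hβ1 : β = 1 := by linear_combination hβ - two
    have h1 : ∀ x, σ x = θ x := fun x => by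
      have := key x
      rw [hβ1, map_one] at this
      linear_combination this - (x + θ x + σ (θ x)) * two
    refine Or.inr ⟨hβ1, triv _ (by simp) (by simp) fun x h0 h1' => ?_⟩
    have a0 : θ x ≠ 0 := (map_ne_zero θ).2 h0
    have a1 : 1 + θ x ≠ 0 := by simpa using (map_ne_zero θ).2 h1'
    have := hI' x h0 h1'
    rw [h1, h1] at this
    refine mul_left_cancel₀ (mul_ne_zero a0 a1) ?_
    linear_combination this - θ x * (1 + θ x) * x * two

end CfsgLib.Suz
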