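import Mathlib
import Cfsg.Agent.Lib.Suz.SzCoord
import Cfsg.Agent.Lib.Suz.SzField

/-! Project D: `θ² = Frobenius` for the Suzuki 2-group of type A with `r² = s`. -/

set_option autoImplicit false
set_option linter.unusedSectionVars false

namespace CfsgLib.Suz
open Subgroup

variable {G : Type*} [Group G] [Finite G] {H Q : Subgroup G} {t s r : G}

namespace Coord
variable {F : Type*} [Field F] [Fintype F] [CharP F 2] {θ : F ≃+* F} {χ : G → F} {e : F → F → G}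
  {β : F} (C : Coord H Q t s r θ χ e β) (R : RO H Q t) (h2 : Rank2 Q) (hs : Dist Q t s r)
include C R h2 hs

theorem exists_M : ∃ M : F → F, (∀ x y, M (x + y) = M x + M y) ∧
    ∀ ε, M (β * ε + (β + 1) * θ ε) = ε + θ ε := by
  have hi := C.L_inj R h2 hs
  choose ψ hψ using Finite.injective_iff_surjective.1 hi
  simp only at hψ
  have h1 : ∀ x y, ψ (x + y) = ψ x + ψ y := fun x y => hi (by
    simp only [map_add]
    linear_combination hψ (x + y) - hψ x - hψ y)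
  refine ⟨fun x => ψ x + θ (ψ x), fun x y => by simp only [h1, map_add]; ring, fun ε => ?_⟩
  have : ψ (β * ε + (β + 1) * θ ε) = ε := hi (hψ _)
  simp only [this]

theorem rho_one (ε : F) : ∃ k y, Trip H Q t (e 1 (β + 1 + (β * ε + (β + 1) * θ ε))) k y ∧
    χ k * θ (χ k) = 1 + (ε + θ ε) := by
  have two : (2 : F) = 0 := CharTwo.two_eq_zero
  rcases C.cases_one R h2 hs ε with h | h | ⟨c, hc, hc1, k, hk, h0, hcε, hkε, h⟩
  · exact ⟨1, _, h.2 ▸ R.trip_r_inv hs, by simp [C.χ_one R, h.1]⟩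
  · exact ⟨1, _, h.2 ▸ R.trip_r hs, by
      rw [C.χ_one R, h.1, map_one]; linear_combination -two⟩
  obtain ⟨l, hl, el⟩ := R.exists_ell h2 hs hc hc1
  obtain ⟨y, hy⟩ := R.trip_key h2 hs hc hl el
  refine ⟨_, _, h ▸ R.Trip_conj h2 hy hk, ?_⟩
  rw [C.s_eq, C.conj l hl, C.conj' R hc, C.mul] at el
  have e1 := (C.inj _ _ _ _ el).2
  have a1 := C.χ_ne hc
  have a2 : θ ε ≠ 0 := (map_ne_zero θ).2 h0
  have a3 : θ (χ c) ≠ 0 := (map_ne_zero θ).2 a1
  have e2 : χ c * ε = 1 + ε := by rw [hcε]; field_simp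
  have e3 : θ (χ c) * θ ε = 1 + θ ε := by rw [← map_mul, e2, map_add, map_one]
  rw [C.χ_mul _ (R.K_mul h2 hl hc) k hk, C.χ_mul _ hl _ hc, hkε, map_mul, map_mul]
  simp only [mul_one, zero_mul, add_zero] at e1
  field_simp at e1
  linear_combination ε * θ ε * e1 + (θ (χ c) * θ ε) * e2 + (1 + ε) * e3 + ε * θ ε * two

variable {M : F → F} (hM : ∀ x y, M (x + y) = M x + M y)
  (hL : ∀ ε, M (β * ε + (β + 1) * θ ε) = ε + θ ε)
include hM hL

omit C R h2 hs hM in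
theorem M_one : M 1 = 0 := by
  have two : (2 : F) = 0 := CharTwo.two_eq_zero
  have := hL 1
  rw [map_one, show β * 1 + (β + 1) * 1 = 1 by linear_combination β * two] at this
  rw [this]; exact CharTwo.add_self_eq_zero 1

theorem rho {a b : F} (ha : a ≠ 0) {k y : G} (h : Trip H Q t (e a b) k y) :
    χ k * θ (χ k) = a * θ a * (1 + M (β + b / (a * θ a))) := by
  have two : (2 : F) = 0 := CharTwo.two_eq_zero
  obtain ⟨l, hl, hla⟩ := C.exists_χ ha
  have hN : θ a ≠ 0 := (map_ne_zero θ).2 ha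
  obtain ⟨ε, hε⟩ := Finite.injective_iff_surjective.1 (C.L_inj R h2 hs) (β + 1 + b / (a * θ a))
  simp only at hε
  have e1 : e a b = l⁻¹ * e 1 (β + 1 + (β * ε + (β + 1) * θ ε)) * l := by
    rw [C.conj l hl, hla, hε, mul_one]
    congr 1
    field_simp
    linear_combination (-(a * θ a) * (β + 1)) * two
  obtain ⟨m, z, hm, em⟩ := C.rho_one R h2 hs ε
  have := (R.trip_unique h (e1 ▸ R.Trip_conj h2 hm hl)).1
  have e2 : M (β + b / (a * θ a)) = ε + θ ε := by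
    rw [← hL, hε, add_right_comm, hM _ 1, M_one hL, add_zero]
  rw [this, C.χ_mul _ hm.1 _ hl, hla, map_mul, e2, ← em]
  ring

omit h2 hM hL in
theorem exists_conj_s {b : F} (hb : b ≠ 0) :
    ∃ k ∈ Kset H t, χ k * θ (χ k) = b ∧ e 0 b = k⁻¹ * s * k := by
  obtain ⟨y, hy⟩ := C.N_surj R hs b
  obtain ⟨k, hk, rfl⟩ := C.exists_χ (a := y) (by rintro rfl; exact hb (by simpa using hy.symm))
  exact ⟨k, hk, hy, by rw [C.s_eq, C.conj k hk, hy, mul_zero, mul_one]⟩

omit hM hL in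
theorem rho0 {b : F} (hb : b ≠ 0) {k y : G} (h : Trip H Q t (e 0 b) k y) : χ k * θ (χ k) = b := by
  obtain ⟨l, hl, h1, h3⟩ := C.exists_conj_s R hs hb
  rw [(R.trip_unique h (h3 ▸ R.Trip_conj h2 (R.trip_s hs) hl)).1, one_mul, h1]

theorem phi_aux {a b v : F} (ha : a ≠ 0) {l k m z : G} (h : Trip H Q t (e a b) l (e 1 (β + v)))
    (hk : k ∈ Kset H t) (hm : Trip H Q t (e (1 + (χ k)⁻¹)
      (β + v + (χ k * θ (χ k))⁻¹ * (β + 1) + θ (χ k)⁻¹)) m z) :
    χ l * θ (χ l) * (χ m * θ (χ m) * (χ k * θ (χ k)) + 1) =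
      a * θ a * M (χ k * θ (χ k) / (a * θ a)) := by
  have two : (2 : F) = 0 := CharTwo.two_eq_zero
  obtain ⟨y', h'⟩ := R.Trip_mul h2 hs h hk (m := m) (y := z) (by
    rw [C.r_inv, C.conj' R hk, C.mul]; simpa using hm)
  rw [C.s_eq, C.conj k hk, C.mul] at h'
  simp only [mul_zero, add_zero, map_zero, mul_one] at h'
  have e1 := C.rho R h2 hs hM hL ha h
  have e2 := C.rho R h2 hs hM hL ha h'
  rw [C.χ_mul _ (R.K_mul h2 h.1 hm.1) _ hk, C.χ_mul _ h.1 _ hm.1, map_mul, map_mul, add_div,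
    ← add_assoc, hM _ (χ k * θ (χ k) / _)] at e2
  linear_combination e1 + e2 + a * θ a * (1 + M (β + b / (a * θ a))) * two

theorem phi {a b v : F} (ha : a ≠ 0) {l : G} (h : Trip H Q t (e a b) l (e 1 (β + v))) {y : F}
    (h0 : y ≠ 0) (h1 : 1 + y ≠ 0) :
    χ l * θ (χ l) * (y * θ y + (1 + y) * θ (1 + y) * M (v * (y * θ y / ((1 + y) * θ (1 + y))))) =
      a * θ a * M (y * θ y / (a * θ a)) := by
  have two : (2 : F) = 0 := CharTwo.two_eq_zero
  obtain ⟨k, hk, rfl⟩ := C.exists_χ h0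
  set y := χ k with hy
  have a0 : θ y ≠ 0 := (map_ne_zero θ).2 h0
  have a1 : 1 + θ y ≠ 0 := by simpa using (map_ne_zero θ).2 h1
  have a2 : 1 + y⁻¹ ≠ 0 := fun h => h1 (by field_simp at h; linear_combination h)
  obtain ⟨m, z, hm⟩ := C.exists_trip R h2 hs _
    (C.mem (1 + y⁻¹) (β + v + (y * θ y)⁻¹ * (β + 1) + θ y⁻¹)) (C.ne_one (Or.inl a2))
  rw [← C.phi_aux R h2 hs hM hL ha h hk hm, C.rho R h2 hs hM hL a2 hm, ← hy]
  have e1 : β + (β + v + (y * θ y)⁻¹ * (β + 1) + θ y⁻¹) / ((1 + y⁻¹) * θ (1 + y⁻¹)) =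
      1 + (β * (y / (1 + y)) + (β + 1) * θ (y / (1 + y))) +
        v * (y * θ y / ((1 + y) * θ (1 + y))) := by
    have b1 : y + 1 ≠ 0 := by rwa [add_comm]
    have b2 : θ y + 1 ≠ 0 := by rwa [add_comm]
    simp only [map_add, map_one, map_inv₀, map_div₀]
    field_simp
    grind
  rw [e1, hM, hM, M_one hL, hL]
  congr 1
  simp only [map_add, map_one, map_inv₀, map_div₀]
  field_simp
  grind

theorem phi_one {a b v : F} (ha : a ≠ 0) (hv : v ≠ 0) {l : G}
    (h : Trip H Q t (e a b) l (e 1 (β + v))) :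
    χ l * θ (χ l) * (v + 1) = a * θ a * M (1 / (a * θ a)) := by
  have two : (2 : F) = 0 := CharTwo.two_eq_zero
  obtain ⟨m, z, hm⟩ := C.exists_trip R h2 hs _ (C.mem 0 v) (C.ne_one (Or.inr hv))
  have := C.phi_aux R h2 hs hM hL ha h R.K_one (m := m) (z := z) (by
    convert hm using 2
    · rw [C.χ_one R, inv_one, CharTwo.add_self_eq_zero]
    · simp only [C.χ_one R, map_one, mul_one, inv_one, one_mul]
      linear_combination (β + 1) * two)
  rw [C.rho0 R h2 hs hv hm, C.χ_one R] at this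
  simpa using this

omit hM hL in
theorem exists_pre {v : F} (hv : v ≠ 0) :
    ∃ a b l, a ≠ 0 ∧ Trip H Q t (e a b) l (e 1 (β + v)) := by
  obtain ⟨k, x, hx⟩ := C.exists_trip R h2 hs _ (C.mem 1 (β + v)) (C.ne_one (Or.inl one_ne_zero))
  have h := R.Trip_symm h2 (C.mem _ _) hx
  obtain ⟨a, b, rfl⟩ := C.surj x hx.2.1
  refine ⟨a, b, _, ?_, h⟩
  rintro rfl
  by_cases hb : b = 0
  · obtain ⟨-, hy, c, hc, h3⟩ := h
    rw [hb, C.e_zero, mul_one, R.tt] at h3
    exact R.notMem_canon (H.mul_mem (R.le hc) (Dg_le (R.K_mul h2 (R.K_inv hx.1) (R.K_inv hx.1)).1))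
      (R.le hy) (h3 ▸ H.one_mem)
  obtain ⟨l, hl, -, h3⟩ := C.exists_conj_s R hs hb
  have h4 := (R.trip_unique h (h3 ▸ R.Trip_conj h2 (R.trip_s hs) hl)).2
  rw [C.r_eq, C.conj' R hl] at h4
  obtain ⟨h5, h6⟩ := C.inj _ _ _ _ h4
  have h7 : χ l = 1 := by rw [mul_one] at h5; exact inv_eq_one.1 h5.symm
  rw [h7, map_one] at h6
  exact hv (by simpa using h6)

omit hM hL in
theorem theta_or : (β = 0 ∧ ∀ x, θ (θ x) = x ^ 2) ∨ (β = 1 ∧ ∀ x, θ (θ x) ^ 2 = x) := by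
  have two : (2 : F) = 0 := CharTwo.two_eq_zero
  obtain ⟨M, hM, hL⟩ := C.exists_M R h2 hs
  have M0 : M 0 = 0 := by simpa using hM 0 0
  refine theta_sq C.ne (C.N_inj R hs) hM hL (fun y h0 h1 => ?_) fun v y y' h0 h1 h0' h1' h => ?_
  · have := C.phi R h2 hs hM hL (a := 1) (b := β + 1) (v := 1) one_ne_zero (l := 1)
      (C.r_inv ▸ R.trip_r_inv hs) h0 h1
    simpa [C.χ_one R] using this.symm
  by_cases hv : v = 0
  · simp [hv, M0]
  obtain ⟨a, b, l, ha, hl⟩ := C.exists_pre R h2 hs hv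
  have e1 := C.phi R h2 hs hM hL ha hl h0 h1
  have e2 := C.phi R h2 hs hM hL ha hl h0' h1'
  have e3 := C.phi_one R h2 hs hM hL ha hv hl
  rw [h, add_div _ _ (a * θ a), hM] at e2
  have a0 := C.χ_ne hl.1
  refine mul_left_cancel₀ (mul_ne_zero a0 ((map_ne_zero θ).2 a0)) ?_
  rw [h]
  linear_combination e1 + e2 - e3 + (a * θ a * M (y * θ y / (a * θ a)) -
    χ l * θ (χ l) * (y * θ y)) * two

omit R h2 hs hM hL in
/-- The change of coordinates in the second case. -/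
theorem swap (hβ : β = 1) :
    Coord H Q t s r θ.symm (fun k => θ (χ k)) (fun a b => e (θ.symm a) (b + θ.symm a * a)) 0 where
  ne := fun h => C.ne (RingEquiv.ext fun x => by
    have := RingEquiv.congr_fun h (θ x)
    simpa using this.symm)
  mem := fun _ _ => C.mem _ _
  surj := fun x hx => by
    obtain ⟨a, b, rfl⟩ := C.surj x hx
    exact ⟨θ a, b + a * θ a, by simp [add_assoc, CharTwo.add_self_eq_zero]⟩
  inj := fun a b c d h => by
    obtain ⟨h1, h3⟩ := C.inj _ _ _ _ h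
    have h4 := θ.symm.injective h1
    rw [h4] at h3
    exact ⟨h4, add_right_cancel h3⟩
  mul := fun a b c d => by
    rw [C.mul, map_add, RingEquiv.apply_symm_apply]
    congr 1
    linear_combination -(a * θ.symm c) * (CharTwo.two_eq_zero (R := F))
  bij := (show Set.BijOn θ {a | a ≠ 0} {a | a ≠ 0} from
    ⟨fun a ha => (map_ne_zero θ).2 ha, θ.injective.injOn, fun a ha =>
      ⟨θ.symm a, (map_ne_zero θ.symm).2 ha, θ.apply_symm_apply a⟩⟩).comp C.bij
  χ_mul := fun a ha b hb => by rw [C.χ_mul a ha b hb, map_mul]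
  conj := fun k hk a b => by
    rw [C.conj k hk, map_mul, RingEquiv.symm_apply_apply]
    congr 1
    ring
  s_eq := by simpa using C.s_eq
  r_eq := by simpa [hβ] using C.r_eq

end Coord

theorem RO.exists_coord_sz (R : RO H Q t) (h2 : Rank2 Q) (hp : IsPGroup 2 Q)
    (hna : ¬ IsMulCommutative Q) (hc : Nat.card Q = Nat.card (Q0g Q) ^ 2) (hs : Dist Q t s r)
    (hr : r * r = s) :
    ∃ (F : Type) (_ : Field F) (_ : Fintype F) (_ : CharP F 2) (θ : F ≃+* F) (χ : G → F)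
      (e : F → F → G), Fintype.card F = Nat.card (Q0g Q) ∧ Coord H Q t s r θ χ e 0 ∧
        ∀ x, θ (θ x) = x ^ 2 := by
  obtain ⟨F, _, _, _, θ, χ, e, β, hF, C⟩ := R.exists_coord h2 hp hna hc hs hr
  rcases C.theta_or R h2 hs with ⟨rfl, h⟩ | ⟨hβ, h⟩
  · exact ⟨F, _, _, inferInstance, θ, χ, e, hF, C, h⟩
  · refine ⟨F, _, _, inferInstance, _, _, _, hF, C.swap hβ, fun x => ?_⟩
    have := h (θ.symm (θ.symm x))
    rw [θ.apply_symm_apply, θ.apply_symm_apply] at this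
    exact this.symm

end CfsgLib.Suz
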