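import Mathlib
import Cfsg.Prelude.Def_Sz
import Cfsg.Agent.Lib.Suz.FieldAut
import Cfsg.Agent.Lib.Suz.SzTheta
import Cfsg.Agent.Lib.Suz.SzModel

/-! Project D: the case `r² = s`; identification of the Suzuki groups.
The proofs are in the files `SzFour` (`r_eq_s_of_sq`, `order_four`, `odd_of_order_four`, `five_dvd`),
`SzCoord` (`typeA_K`), `SzField`, `SzTheta`, `SzModel` and here (`sz`).

Notation `x^a = a⁻¹ x a`; for `x ∈ Q#` write `t x t = g(x) h(x) t f(x)` (`RO.canon3`, unique).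
`f(x^k) = f(x)^(1/k)`, `g(x^k) = g(x)^(1/k)`, `h(x^k) = h(x) k²` for `k ∈ K` (if `h(x) ∈ K`).
`(g,h,f)(s) = (r⁻¹,1,r)`, `(g,h,f)(r) = (r,1,s)` (`RO.trt`), `(g,h,f)(r⁻¹) = (s,1,r⁻¹)`.

* `order_four`: `x = s t` satisfies `r⁻¹ x r = x²`; `z = r²` is an involution, `x^z = x⁴`, `x¹⁵ = 1`.
  `y = x⁵` commutes with `z`, is inverted by `s`, so `y² = 1` (`eq_one_of_comm_strongly_real`), `y = 1`.
  Then `z s` (an involution or 1) centralizes `x`, so `z = s`.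
* `odd_of_order_four`: for `u = s^k ≠ s`, `u s = s^k'`:
  `t r u t = (r t s)(k r⁻¹ t r k⁻¹)` gives `f(r u)^k = f(r u s) r` and symmetrically
  `f(r u s)^k' = f(r u) r`.  If `ω ∈ K` has order 3 take `k = ω`, `k' = ω²` (`s s^ω s^(ω²)` is fixed by
  `ω`, `K_fpf`): `r r^k' = 1`, squares give `s^k' = s`, absurd.
* `five_dvd`: if `5 ∤ |G:H|` then `x` is conjugate into `H` (Sylow), `x ∉ Q^g` since 5 is odd, so into `D`
  (`ZT.exists_conj_D`), but an element normalizing `⟨d⟩` (`1 ≠ d ∈ D`) lies in `D ∪ D t`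
  (`d` lies in just two conjugates of `H`), so acts as `±1`, not as squaring.
* `typeA_K`: coordinates `Sz2.typeA`, rescaled so that `r = (1,β)`, `s = (0,1)`; `N(x) = x θ(x)` is
  bijective.  For `c ≠ 1` in `K`, `s^ℓ = s s^(1/c)`:
  `t r (r⁻¹)^c t = r (r⁻¹)^(1/ℓ) · ℓ²c² · t · r^(1/(ℓ c²)) (r⁻¹)^(1/c)`.
  `r (r⁻¹)^c = (1, β+1+L e)^(1+c)`, `e = 1/(1+c)`, `L e = β e + (β+1) θ e`, `L 1 = 1`.
  `L` is injective: otherwise some `r (r⁻¹)^c` is `K`-conjugate to `r⁻¹`, whose `g`-value lies in `Q₀`,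
  but `r (r⁻¹)^(1/ℓ) ∉ Q₀`.  So every `x ∈ Q#` is `K`-conjugate to `s, r, r⁻¹` or some `r (r⁻¹)^c`.
* `sz`: `higman` + `five_dvd` + `n` odd exclude `|Q| = q³` (`5 ∣ 2^(3n)+1` needs `n` even).
  Put `ρ(x) = N(√(χ h(x)))`, `M = (1+θ) L⁻¹` (`M 1 = 0`).  Then `ρ(0,b) = b`,
  `ρ(a,b) = N(a) (1 + M(β + b/N a))` for `a ≠ 0` (`ρ(1,β+1+L e) = 1+e+θ e`).
  For `x ∉ Q₀`, `u = s^k = (0,b)`, `b = N k`: `h(x u) = h(x) h(f(x) (r⁻¹)^(1/k)) k²`, so
  `b ρ(w (r⁻¹)^(1/k)) - 1 = N(a) M(b/N a)/ρ(x)` is additive in `b`, where `w = f(x)`; every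
  `w = (1,β+v)`, `v ≠ 0` is such an `f(x)` (`f` is an involution, `f(Q₀#) = r^K`).  Computing,
  with `b = N y`, it equals `Φ_v(b) = b + N(1+y) M(v N(y/(1+y)))` (`y ≠ 1`), `Φ_v(1) = v+1`;
  and `Φ_1 = M` (`x = r⁻¹`).  Differences: `Ψ_u(N y) = N(1+y) M(u N(y/(1+y)))`, `Ψ_u(1) = u` is additive.
  With `N y = z`, `N y' = z+1` (`z ≠ 0,1`), `c₁ = N(1+y')`, `p₁ = N(y'/(1+y'))`, `c₂, p₂` from `y`:
  `c₁ M(u p₁) + c₂ M(u p₂) = u` for all `u`.  Write `M = Σ m_σ σ`: `m_1 = 1`, and `m_σ ≠ 0`, `σ ≠ 1` gives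
  `σ(w_z) = c₂/c₁`, `w_z = p₁/p₂`, `w_z/σ(w_z) = (z+1)/z`; the `w_z` are `q-2` distinct units, so `σ` is
  unique, `M = 1+σ`, and `σ` fixes only `0,1`.  `1+θ = (1+σ)(β+(β+1)θ)` and Dedekind independence:
  (`θ² ≠ 1` as `N` is injective) `β = 0, σ = θ⁻¹` or `β = 1, σ = θ`.  `Φ_1 = M` reads
  `N(1+y) σ(N y) = (N y + σ N y) σ(N(1+y))`, giving `θ² = Frob` in the first case, `Frob θ² = 1` in the
  second; there change coordinates `(a,b) ↦ (θ a, b + N a)`, `θ' = θ⁻¹`, `β' = 0`, `χ' = θ χ`.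
  So `θ² = Frob`, `θ = x^(2^(m+1))`, `r = (1,0)`.  Model: `S(a,b)` lower triangular with rows
  `(1,0,0,0), (a,1,0,0), (b,θ a,1,0), (a² θ a + a b + θ b, a θ a + b, a, 1)`,
  `S(a,b) S(c,d) = S(a+c, b+d+θ(a) c)` (swap the roles, or use the anti-isomorphism `x ↦ x⁻¹`),
  `δ = diag(d, θ d/d, d/θ d, 1/d)` with `d = χ θ⁻¹(χ)`, `w` the antidiagonal permutation matrix.
  Use `RO.ext_hom`, `Good.conj`, `Good.mul`, `RO.injective_of` (file `Ext`): only
  `w α(s) w = α(r)⁻¹ w α(r)` has to be checked.  Image ⊇ `Sz`: the generating set `X` is closed under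
  products (Cauchy–Binet on `U/W`); for `g ∈ X` the relations between the first two columns put the
  first column on the ovoid, so after multiplying by image elements `g` fixes a coordinate line,
  and such a `g` is triangular, equal to some `S δ`. -/

set_option autoImplicit false

namespace CfsgLib.Suz
open Subgroup

variable {G : Type*} [Group G] [Finite G] {H Q : Subgroup G} {t s r : G}

theorem theta_eq_pow {F : Type*} [Field F] [Fintype F] [CharP F 2] {θ : F ≃+* F}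
    (hθ : ∀ x, θ (θ x) = x ^ 2) {m : ℕ} (hF : Fintype.card F = 2 ^ (2 * m + 1)) (x : F) :
    θ x = x ^ 2 ^ (m + 1) := by
  have h1 : ∀ (j : ℕ) (x : F), (θ ^ (2 * j)) x = x ^ 2 ^ j := by
    intro j
    induction j with
    | zero => simp
    | succ j ih =>
      intro x
      rw [show 2 * (j + 1) = 2 * j + 1 + 1 by ring, pow_succ, pow_succ, RingAut.mul_apply,
        RingAut.mul_apply, hθ, ih, ← pow_mul, ← pow_succ']
  have h2 : θ ^ (2 * m + 1) = 1 := by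
    rw [← card_ringAut (p := 2) (n := 2 * m + 1) (F := F) (by rw [Nat.card_eq_fintype_card, hF]), pow_card_eq_one']
  rw [← h1, show 2 * (m + 1) = 2 * m + 1 + 1 by ring, pow_succ, h2, one_mul]

theorem ZT.iso_sz (Z : ZT H Q t) (hs : Dist Q t s r) {F : Type*} [Field F] [Fintype F] [CharP F 2]
    {θ : F ≃+* F} {χ : G → F} {e : F → F → G} (C : Coord H Q t s r θ χ e 0)
    (hθ : ∀ x, θ (θ x) = x ^ 2) {n : ℕ} (hn : ∀ x, θ x = x ^ n) :
    Nonempty (G ≃* Cfsg.Lie.Sz F n) := by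
  classical
  have R := Z.toRO
  have h2 := Z.rank2
  choose! ca cb hc using C.surj
  let α : G → GL (Fin 4) F := fun x => gS hθ (ca x) (cb x)
  let δ : G → GL (Fin 4) F := fun d => gD θ (θ.symm (χ d))
  have hα : ∀ a b, α (e a b) = gS hθ a b := fun a b => by
    obtain ⟨h1, h3⟩ := C.inj _ _ _ _ (hc _ (C.mem a b))
    simp only [α, ← h1, ← h3]
  have hχ : ∀ d ∈ Dg H t, θ.symm (χ d) ≠ 0 := fun d hd =>
    (map_ne_zero θ.symm).2 (C.χ_ne (Z.mem_K hd))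
  have hδ : ∀ d ∈ Dg H t, (δ d).val = szD θ (θ.symm (χ d)) := fun d hd => coe_gD (hχ d hd)
  have E : ExtData H Q t α δ (gW F) :=
    { hα := fun x hx y hy => by
        obtain ⟨a, b, rfl⟩ := C.surj x hx
        obtain ⟨c, d, rfl⟩ := C.surj y hy
        rw [C.mul, hα, hα, hα]
        exact Units.ext (szS_mul hθ a b c d).symm
      hδ := fun x hx y hy => Units.ext (by
        rw [Units.val_mul, hδ _ hx, hδ _ hy, hδ _ ((Dg H t).mul_mem hx hy), szD_mul,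
          C.χ_mul _ (Z.mem_K hx) _ (Z.mem_K hy), map_mul])
      conj := fun x hx d hd => by
        obtain ⟨a, b, rfl⟩ := C.surj x hx
        rw [C.conj d (Z.mem_K hd), hα, hα, mul_assoc (δ d)⁻¹, eq_inv_mul_iff_mul_eq]
        refine Units.ext ?_
        rw [Units.val_mul, Units.val_mul, hδ _ hd, coe_gS, coe_gS, szS_mul_D hθ (hχ d hd),
          θ.apply_symm_apply]
      ww := Units.ext szW_mul
      wδ := fun d hd => Units.ext (by
        rw [Units.val_mul, Units.val_mul, hδ _ hd, hδ _ (R.conj_t_mem_D hd), coe_gW, szW_D,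
          Z.inv d hd, C.χ_inv R (Z.mem_K hd), map_inv₀]) }
  set w := gW F with hw
  have ww := E.ww
  have ww' : ∀ x, w * (w * x) = x := fun x => by rw [← mul_assoc, ww, one_mul]
  have es : w * α s * w = (α r)⁻¹ * w * α r := by
    rw [← E.α_inv hs.r_mem, C.r_inv, C.r_eq, C.s_eq, hα, hα, hα, zero_add]
    exact Units.ext szW_s
  have er : w * α r * w = α r * w * α s := by
    calc w * α r * w = α r * ((α r)⁻¹ * w * α r) * w := by group
      _ = _ := by rw [← es]; simp only [mul_assoc, ww, mul_one]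
  have er' : w * (α r)⁻¹ * w = α s * w * (α r)⁻¹ := by
    calc w * (α r)⁻¹ * w = w * ((α r)⁻¹ * w * α r) * (α r)⁻¹ := by group
      _ = _ := by rw [← es]; simp only [mul_assoc, ww']
  have one := (Dg H t).one_mem
  have gs : Good H Q t α δ w s := ⟨r⁻¹, Q.inv_mem hs.r_mem, 1, one, r, hs.r_mem,
    by rw [hs.eq, mul_one], by rw [es, E.δ_one, mul_one, E.α_inv hs.r_mem]⟩
  have good := C.induction R h2 hs (Good H Q t α δ w)
    (fun x hx h k hk => Good.conj R E hx h hk.1) gs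
    ⟨r, hs.r_mem, 1, one, s, hs.s_mem, by rw [R.trt hs, mul_one], by rw [er, E.δ_one, mul_one]⟩
    ⟨s, hs.s_mem, 1, one, r⁻¹, Q.inv_mem hs.r_mem, by rw [R.tr_inv_t hs, mul_one],
      by rw [E.α_inv hs.r_mem, er', E.δ_one, mul_one]⟩
    (fun c hc hc1 => by
      obtain ⟨l, hl, el⟩ := R.exists_ell h2 hs hc hc1
      have hcH := Dg_le hc.1
      have hci := (Dg H t).inv_mem hc.1
      have wc : w * δ c * w = (δ c)⁻¹ := by rw [E.wδ c hc.1, hc.2, E.δ_inv hc.1]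
      have wc' : w * (δ c)⁻¹ = δ c * w := by rw [← wc]; simp only [mul_assoc, ww']
      have wc'' : δ c * w = w * (δ c)⁻¹ := wc'.symm
      refine Good.mul R E hs.r_mem (R.norm c hcH _ (Q.inv_mem hs.r_mem)) hs.r_mem one hs.s_mem
        (a' := c * s * c⁻¹) (d' := c * c) (y' := c * r⁻¹ * c⁻¹) (R.norm' hcH hs.s_mem)
        ((Dg H t).mul_mem hc.1 hc.1) (R.norm' hcH (Q.inv_mem hs.r_mem))
        (by rw [R.trt hs, mul_one]) (by rw [er, E.δ_one, mul_one]) ?_ ?_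
        (el ▸ Good.conj R E hs.s_mem gs hl.1)
      · calc t * (c⁻¹ * r⁻¹ * c) * t = c * s * (t * c⁻¹) * (c * r⁻¹ * c⁻¹) := by
              rw [R.t_conj_t hc, R.tr_inv_t hs]; group
          _ = _ := by rw [← R.K_mul_t hc]; group
      · have e1 := E.conj s hs.s_mem c⁻¹ hci
        have e2 := E.conj r⁻¹ (Q.inv_mem hs.r_mem) c⁻¹ hci
        rw [inv_inv, E.δ_inv hc.1, inv_inv] at e1 e2
        rw [E.conj _ (Q.inv_mem hs.r_mem) c hc.1, e1, e2, E.hδ _ hc.1 _ hc.1, E.α_inv hs.r_mem]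
        calc w * ((δ c)⁻¹ * (α r)⁻¹ * δ c) * w = (w * (δ c)⁻¹) * (α r)⁻¹ * (δ c * w) := by group
          _ = δ c * (w * (α r)⁻¹ * w) * (δ c)⁻¹ := by rw [wc']; nth_rewrite 2 [wc'']; group
          _ = δ c * α s * (w * (δ c)⁻¹) * (δ c * (α r)⁻¹ * (δ c)⁻¹) := by rw [er']; group
          _ = _ := by rw [wc']; group)
  obtain ⟨Φ, hΦα, hΦδ, hΦt⟩ := R.ext_hom E good
  have hinj : Function.Injective Φ := R.injective_of h2 Φ fun x hx d hd h => by
    obtain ⟨a, b, rfl⟩ := C.surj x hx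
    rw [map_mul, hΦα _ hx, hΦδ _ hd, hα] at h
    have h1 := congrArg Units.val h
    rw [Units.val_mul, hδ _ hd, coe_gS, Units.val_one] at h1
    have h3 := hχ d hd
    have e22 := congrFun (congrFun h1 2) 2
    have e01 := congrFun (congrFun h1 0) 1
    have e02 := congrFun (congrFun h1 0) 2
    simp [szS, szD, Matrix.mul_apply, Fin.sum_univ_four, h3] at e22 e01 e02
    rw [C.bij.injOn (Z.mem_K hd) R.K_one (e22.trans (C.χ_one R).symm), e01, e02, C.e_zero,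
      mul_one]
  have hX : ∀ g ∈ Φ.range, InX θ (g : Matrix (Fin 4) (Fin 4) F) := by
    have a1 : ∀ x ∈ Q, InX θ (Φ x).val := fun x hx => by rw [hΦα x hx]; exact inX_S hθ _ _
    have a2 : ∀ x ∈ Dg H t, InX θ (Φ x).val := fun x hx => by
      rw [hΦδ x hx, hδ x hx]; exact inX_D hθ (hχ x hx)
    have a3 : InX θ (Φ t).val := by rw [hΦt]; exact inX_W
    rintro _ ⟨g, rfl⟩
    by_cases hg : g ∈ H
    · obtain ⟨x, hx, d, hd, rfl⟩ := R.dec g hg
      rw [map_mul]; exact (a1 x hx).mul (a2 d hd)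
    · obtain ⟨x, hx, d, hd, y, hy, rfl⟩ := R.canon3 hg
      rw [map_mul, map_mul, map_mul]
      exact (((a1 x hx).mul (a2 d hd)).mul a3).mul (a1 y hy)
  have hr := eq_Sz hθ hn (L := Φ.range) (fun a b => ⟨e a b, by rw [hΦα _ (C.mem a b), hα]⟩)
    (fun μ hμ => by
      obtain ⟨k, hk, h⟩ := C.exists_χ ((map_ne_zero θ).2 hμ)
      exact ⟨k, by rw [hΦδ _ hk.1]; simp only [δ, h, θ.symm_apply_apply]⟩) ⟨t, hΦt⟩ hX
  exact ⟨(MonoidHom.ofInjective hinj).trans (MulEquiv.subgroupCongr hr)⟩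

theorem ZT.sz (Z : ZT H Q t) (hp : IsPGroup 2 Q) (hna : ¬ IsMulCommutative Q) (hs : Dist Q t s r)
    (hr : r ≠ s) :
    Nat.card Q = (Nat.card (Dg H t) + 1) ^ 2 ∧ r * r = s ∧
      ∃ (F : Type) (_ : Field F) (_ : Fintype F) (m : ℕ), 1 ≤ m ∧
        Fintype.card F = 2 ^ (2 * m + 1) ∧ Nat.card (Dg H t) + 1 = 2 ^ (2 * m + 1) ∧
        Nonempty (G ≃* Cfsg.Lie.Sz F (2 ^ (m + 1))) := by
  have R := Z.toRO
  have h2 := Z.rank2
  obtain ⟨h4, -, -, hc⟩ := (R.sz2 h2 hp).higman hna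
  have hrr := (R.order_four h2 hs (h4 r hs.r_mem) hr).1
  obtain ⟨n, hn2, hn⟩ := R.exists_card_Q0 h2
  obtain ⟨m, rfl⟩ := R.odd_of_order_four h2 hs hrr hn
  have hc2 : Nat.card Q = Nat.card (Q0g Q) ^ 2 := hc.resolve_right fun h => by
    have h5 := Z.five_dvd hp hs hrr
    rw [h, hn, ← pow_mul, show (2 * m + 1) * 3 = 6 * m + 3 by ring, pow_add, pow_mul] at h5
    have : (2 ^ 6) ^ m % 5 = 1 ∨ (2 ^ 6) ^ m % 5 = 4 := by
      clear * -
      induction m with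
      | zero => simp
      | succ m ih => rw [pow_succ]; omega
    omega
  obtain ⟨F, _, _, _, θ, χ, e, hF, C, hθ⟩ := R.exists_coord_sz h2 hp hna hc2 hs hrr
  rw [hn] at hF
  exact ⟨by rw [Z.card_D, hc2], hrr, F, _, _, m, by omega, hF, by rw [Z.card_D, hn],
    Z.iso_sz hs C hθ (theta_eq_pow hθ hF)⟩

end CfsgLib.Suz
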