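import Mathlib
import Cfsg.Agent.Lib.Suz.ZTBasic
import Cfsg.Agent.Lib.H5SL2Even

/-! Project D: identification of `SL(2, 2^n)`. -/

set_option autoImplicit false

namespace CfsgLib.Suz
open Subgroup Matrix
open scoped MatrixGroups

section model
variable {F : Type*} [Field F]

/-- the underlying matrix -/
def sm (g : SL(2, F)) : Matrix (Fin 2) (Fin 2) F := g.1

theorem sm_mul (g h : SL(2, F)) : sm (g * h) = sm g * sm h := rfl
theorem sm_one : sm (1 : SL(2, F)) = 1 := rfl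
theorem sm_inj {g h : SL(2, F)} (e : sm g = sm h) : g = h := Subtype.ext e
theorem sm_det (g : SL(2, F)) : sm g 0 0 * sm g 1 1 - sm g 0 1 * sm g 1 0 = 1 := by
  have := g.2
  rwa [Matrix.det_fin_two] at this

/-- upper unitriangular matrix -/
def sl2U (a : F) : SL(2, F) := ⟨!![1, a; 0, 1], by simp [Matrix.det_fin_two]⟩

/-- diagonal matrix -/
def sl2D' (a : F) (h : a ≠ 0) : SL(2, F) := ⟨!![a⁻¹, 0; 0, a], by simp [Matrix.det_fin_two, h]⟩

open Classical in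
/-- diagonal matrix -/
noncomputable def sl2D (a : F) : SL(2, F) := if h : a = 0 then 1 else sl2D' a h

/-- the Weyl element -/
def sl2W (F : Type*) [Field F] : SL(2, F) := ⟨!![0, -1; 1, 0], by simp [Matrix.det_fin_two]⟩

theorem sm_U (a : F) : sm (sl2U a) = !![1, a; 0, 1] := rfl
theorem sm_W : sm (sl2W F) = !![0, -1; 1, 0] := rfl
theorem sm_D {a : F} (h : a ≠ 0) : sm (sl2D a) = !![a⁻¹, 0; 0, a] := by
  rw [sl2D, dif_neg h]; rfl

theorem sl2U_mul (a b : F) : sl2U (a + b) = sl2U a * sl2U b := by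
  apply sm_inj
  simp [sm_mul, sm_U, add_comm]

theorem sl2D_mul {a b : F} (ha : a ≠ 0) (hb : b ≠ 0) : sl2D (a * b) = sl2D a * sl2D b := by
  apply sm_inj
  simp [sm_mul, sm_D ha, sm_D hb, sm_D (mul_ne_zero ha hb), mul_comm]

theorem sl2D_conj {a : F} (ha : a ≠ 0) (x : F) :
    sl2D a * sl2U (a ^ 2 * x) = sl2U x * sl2D a := by
  apply sm_inj
  simp [sm_mul, sm_D ha, sm_U]
  field_simp

theorem sl2W_D {a : F} (ha : a ≠ 0) : sl2W F * sl2D a = sl2D a⁻¹ * sl2W F := by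
  apply sm_inj
  simp [sm_mul, sm_D ha, sm_D (inv_ne_zero ha), sm_W]

theorem sl2W_W [CharP F 2] : sl2W F * sl2W F = 1 := by
  apply sm_inj
  simp [sm_mul, sm_W, sm_one, CharTwo.neg_eq, Matrix.one_fin_two]

theorem sl2_rel [CharP F 2] :
    sl2W F * sl2U 1 * sl2W F = sl2U 1 * sl2W F * sl2U (1 : F) := by
  apply sm_inj
  simp [sm_mul, sm_W, sm_U, CharTwo.neg_eq, CharTwo.add_self_eq_zero]

theorem sl2_bruhat (g : SL(2, F)) : (∃ x a, a ≠ 0 ∧ g = sl2U x * sl2D a) ∨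
    ∃ x a y, a ≠ 0 ∧ g = sl2U x * sl2D a * sl2W F * sl2U y := by
  have hdet := sm_det g
  by_cases h : sm g 1 0 = 0
  · have h1 : sm g 1 1 ≠ 0 := by
      intro h1; rw [h, h1] at hdet; simp at hdet
    refine Or.inl ⟨sm g 0 1 / sm g 1 1, sm g 1 1, h1, sm_inj ?_⟩
    rw [sm_mul, sm_D h1, sm_U]
    ext i j
    fin_cases i <;> fin_cases j <;> simp [h, h1]
    field_simp
    rw [h] at hdet
    linear_combination hdet
  · refine Or.inr ⟨sm g 0 0 / sm g 1 0, sm g 1 0, sm g 1 1 / sm g 1 0, h, sm_inj ?_⟩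
    rw [sm_mul, sm_mul, sm_mul, sm_D h, sm_U, sm_U, sm_W]
    ext i j
    fin_cases i <;> fin_cases j <;> simp [h] <;> field_simp
    linear_combination -hdet

theorem sl2U_D_eq_one {x a : F} (ha : a ≠ 0) (h : sl2U x * sl2D a = 1) : x = 0 ∧ a = 1 := by
  have h0 := congrArg sm h
  rw [sm_mul, sm_D ha, sm_U, sm_one] at h0
  have h1 := congrFun (congrFun h0 1) 1
  have h2 := congrFun (congrFun h0 0) 1
  simp [ha] at h1 h2
  exact ⟨h2, h1⟩

end model

variable {G : Type*} [Group G] [Finite G] {H Q : Subgroup G} {t : G}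

theorem ZT.sl2_of_model (Z : ZT H Q t) (hQ : ∀ x ∈ Q, x * x = 1) {s r : G} (hs : Dist Q t s r)
    {F : Type*} [Field F] [Finite F] [CharP F 2] {e χ : G → F}
    (he : Set.BijOn e Q Set.univ) (hadd : ∀ u ∈ Q, ∀ v ∈ Q, e (u * v) = e u + e v) (hes : e s = 1)
    (hχ : Set.BijOn χ (Dg H t) {a | a ≠ 0})
    (hmul : ∀ a ∈ Dg H t, ∀ b ∈ Dg H t, χ (a * b) = χ a * χ b)
    (hconj : ∀ k ∈ Dg H t, ∀ u ∈ Q, e (k⁻¹ * u * k) = χ k * e u) :
    Nonempty (G ≃* SL(2, F)) := by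
  have hrs : r = s := Z.r_eq_s hs (hQ r hs.r_mem)
  subst hrs
  let ρ : F ≃+* F := (frobeniusEquiv F 2).symm
  have hρ : ∀ a, ρ a ^ 2 = a := fun a => by
    have := (frobeniusEquiv F 2).apply_symm_apply a
    rwa [frobeniusEquiv_def] at this
  have hρ0 : ∀ k ∈ Dg H t, ρ (χ k) ≠ 0 := fun k hk => by
    simpa using hχ.mapsTo hk
  have hχ1 : χ 1 = 1 := by
    have := hmul 1 (one_mem _) 1 (one_mem _)
    rw [mul_one] at this
    exact (mul_eq_left₀ (hχ.mapsTo (one_mem _))).1 this.symm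
  have he1 : e 1 = 0 := by simpa using hadd 1 (one_mem _) 1 (one_mem _)
  have E : ExtData H Q t (fun x => sl2U (e x)) (fun k => sl2D (ρ (χ k))) (sl2W F) := by
    refine ⟨fun x hx y hy => ?_, fun x hx y hy => ?_, fun x hx d hd => ?_, sl2W_W, fun d hd => ?_⟩
    · rw [hadd x hx y hy, sl2U_mul]
    · rw [hmul x hx y hy, map_mul, sl2D_mul (hρ0 x hx) (hρ0 y hy)]
    · rw [mul_assoc (sl2D _)⁻¹, ← sl2D_conj (hρ0 d hd), hρ, hconj d hd x hx, inv_mul_cancel_left]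
    · rw [sl2W_D (hρ0 d hd), mul_assoc, sl2W_W, mul_one, Z.inv d hd, ← map_inv₀]
      congr 2
      have := hmul d hd d⁻¹ (inv_mem hd)
      rw [mul_inv_cancel, hχ1] at this
      exact inv_eq_of_mul_eq_one_right this.symm
  have hgs : Good H Q t (fun x => sl2U (e x)) (fun k => sl2D (ρ (χ k))) (sl2W F) r := by
    refine ⟨r, hs.s_mem, 1, one_mem _, r, hs.s_mem, ?_, ?_⟩
    · rw [hs.eq, mul_one, inv_eq_of_mul_self hs.ss]
    · simp only [E.δ_one, hes, mul_one]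
      exact sl2_rel
  obtain ⟨Φ, h1, h2, h3⟩ := Z.ext_hom E (fun x hx hx1 => by
    obtain ⟨k, hk, rfl⟩ := Z.exists_K_conj hs hx hx1 (hQ x hx)
    exact hgs.conj Z.toRO E hs.s_mem hk.1)
  refine ⟨MulEquiv.ofBijective Φ ⟨Z.injective_of Z.rank2 Φ ?_, ?_⟩⟩
  · intro x hx d hd h
    rw [map_mul, h1 x hx, h2 d hd] at h
    obtain ⟨a1, a2⟩ := sl2U_D_eq_one (hρ0 d hd) h
    have b1 : x = 1 := he.injOn hx (one_mem _) (by rw [a1, he1])
    have b2 : d = 1 := hχ.injOn hd (one_mem _) (by rw [hχ1, ← hρ (χ d), a2, one_pow])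
    rw [b1, b2, one_mul]
  · have hU : ∀ x, ∃ g, Φ g = sl2U x := fun x => by
      obtain ⟨g, hg, rfl⟩ := he.surjOn (Set.mem_univ x)
      exact ⟨g, h1 g hg⟩
    have hD : ∀ a, a ≠ 0 → ∃ g, Φ g = sl2D a := fun a ha => by
      obtain ⟨g, hg, e⟩ := hχ.surjOn (show a ^ 2 ∈ {a : F | a ≠ 0} from pow_ne_zero 2 ha)
      refine ⟨g, ?_⟩
      rw [h2 g hg, e]
      congr 1
      exact (frobeniusEquiv F 2).symm_apply_eq.2 (by rw [frobeniusEquiv_def])
    intro g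
    rcases sl2_bruhat g with ⟨x, a, ha, rfl⟩ | ⟨x, a, y, ha, rfl⟩
    · obtain ⟨g1, e1⟩ := hU x
      obtain ⟨g2, e2⟩ := hD a ha
      exact ⟨g1 * g2, by rw [map_mul, e1, e2]⟩
    · obtain ⟨g1, e1⟩ := hU x
      obtain ⟨g2, e2⟩ := hD a ha
      obtain ⟨g3, e3⟩ := hU y
      exact ⟨g1 * g2 * t * g3, by rw [map_mul, map_mul, map_mul, e1, e2, e3, h3]⟩

theorem nonempty_psl_of_sl {F : Type*} [Field F] [CharP F 2] (h : Nonempty (G ≃* SL(2, F))) :
    Nonempty (G ≃* Matrix.ProjectiveSpecialLinearGroup (Fin 2) F) := by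
  obtain ⟨e⟩ := h
  refine ⟨e.trans ?_⟩
  exact QuotientGroup.quotientBot.symm.trans
    (QuotientGroup.quotientMulEquivOfEq (CfsgLib.H5.center_SL2_eq_bot (F := F)).symm)

/-- a Zassenhaus group with `Q` elementary abelian is `SL(2, 2^n)` -/
theorem ZT.sl2 (Z : ZT H Q t) (hQ : ∀ x ∈ Q, x * x = 1) :
    ∃ n : ℕ, 2 ≤ n ∧ Nat.card Q = 2 ^ n ∧ Nat.card (Dg H t) + 1 = 2 ^ n ∧
      Nonempty (G ≃* SL(2, GaloisField 2 n)) ∧
      Nonempty (G ≃* Matrix.ProjectiveSpecialLinearGroup (Fin 2) (GaloisField 2 n)) := by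
  have hQ0 : Q0g Q = Q := le_antisymm Q0g_le fun x hx => mem_Q0g_of hx (hQ x hx)
  obtain ⟨n, hn2, hn⟩ := Z.exists_card_Q0 Z.rank2
  obtain ⟨s, r, hs⟩ := Z.exists_dist
  obtain ⟨F, _, _, _, e, χ, he, hadd, hes, hχ, hmul, hconj, -⟩ := Z.field_model Z.rank2 hs
  rw [Z.Kset_eq] at hχ hmul hconj
  have hD := Z.card_D
  rw [hQ0] at he hadd hconj hn hD
  have hF : Fintype.card F = 2 ^ n := by
    rw [← hn, ← Nat.card_eq_fintype_card, ← Set.ncard_univ, ← he.ncard_eq]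
    rfl
  have : Fact (Nat.Prime 2) := ⟨Nat.prime_two⟩
  let _ : Algebra (ZMod 2) F := ZMod.algebra F 2
  let ι : F ≃+* GaloisField 2 n := (GaloisField.algEquivGaloisFieldOfFintype 2 n hF).toRingEquiv
  have key : Nonempty (G ≃* SL(2, GaloisField 2 n)) := by
    refine Z.sl2_of_model hQ hs (e := fun x => ι (e x)) (χ := fun x => ι (χ x)) ?_ ?_ ?_ ?_ ?_ ?_
    · exact (ι.bijective.bijOn_univ).comp he
    · intro u hu v hv; simp only [hadd u hu v hv, map_add]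
    · simp only [hes, map_one]
    · refine Set.BijOn.comp (t := {a | a ≠ 0}) ⟨fun a ha => ?_, ι.injective.injOn, fun b hb => ?_⟩ hχ
      · simpa using ha
      · exact ⟨ι.symm b, by simpa using hb, by simp⟩
    · intro u hu v hv; simp only [hmul u hu v hv, map_mul]
    · intro u hu v hv; simp only [hconj u hu v hv, map_mul]
  exact ⟨n, hn2, hn, by rw [hD, hn], key, nonempty_psl_of_sl key⟩

end CfsgLib.Suz
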