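import Mathlib
import Cfsg.Agent.Lib.Suz.ZTBasic
import Cfsg.Agent.Lib.FT.PF5

/-! Project D: character theoretic tools (involution class sums, propagation of coherence). -/

set_option autoImplicit false

namespace CfsgLib.Suz
open Subgroup CfsgLib.FT
open scoped ComplexConjugate

variable {G : Type*} [Group G] [Fintype G]

/-- the set of involutions -/
def InvSet (G : Type*) [Group G] : Set G := {u | u ≠ 1 ∧ u * u = 1}

omit [Fintype G] in
theorem InvSet_conj (g : G) {u : G} (hu : u ∈ InvSet G) : g * u * g⁻¹ ∈ InvSet G := by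
  refine ⟨fun h => hu.1 ?_, ?_⟩
  · calc u = g⁻¹ * (g * u * g⁻¹) * g := by group
      _ = 1 := by rw [h]; group
  · calc g * u * g⁻¹ * (g * u * g⁻¹) = g * (u * u) * g⁻¹ := by group
      _ = 1 := by rw [hu.2]; group

section prop
variable {H Q : Subgroup G} {φ₁ φ φ' ψ : G → ℂ}

/-- `ψ` occurs with the expected multiplicity in `Ind (b φ₁ - φ)` -/
def CohAt (H : Subgroup G) (φ₁ ψ φ : G → ℂ) : Prop :=
  cfdot ⊤ (cfInd H ⊤ ((φ 1 / φ₁ 1) • φ₁ - φ)) ψ = φ 1 / φ₁ 1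

omit [Fintype G] in
theorem sub_mem_CFon_sharp (h1 : φ₁ ∈ CFon H (Q : Set G)) (h : φ ∈ CFon H (Q : Set G))
    (h0 : φ₁ 1 ≠ 0) : (φ 1 / φ₁ 1) • φ₁ - φ ∈ CFon H (sharp Q) := by
  refine mem_CFon_sharp.2 ⟨Submodule.sub_mem _ (Submodule.smul_mem _ _ h1) h, ?_⟩
  simp only [Pi.sub_apply, Pi.smul_apply, smul_eq_mul]
  field_simp
  ring

theorem cohAt_step (hTI : NormedTI (sharp Q) ⊤ H) {A : Finset (G → ℂ)}
    (hirr : ∀ φ ∈ A, IsIrr H φ) (hon : ∀ φ ∈ A, φ ∈ CFon H (Q : Set G))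
    (hint : ∀ φ ∈ A, ∃ n : ℕ, φ 1 = n * φ₁ 1) (h1 : φ₁ ∈ A) (hψ : IsDirr ⊤ ψ)
    (hc : ∀ φ ∈ A, φ ≠ φ₁ → CohAt H φ₁ ψ φ) (hirr' : IsIrr H φ') (hon' : φ' ∈ CFon H (Q : Set G))
    (hA : φ' ∉ A) (hint' : ∃ n : ℕ, φ' 1 = n * φ₁ 1)
    (hT : 2 * (φ' 1).re * (φ₁ 1).re + (φ₁ 1).re ^ 2 < ∑ φ ∈ A, (φ 1).re ^ 2) :
    CohAt H φ₁ ψ φ' := by
  classical
  choose! b hb using hint
  obtain ⟨b', hb'⟩ := hint'
  have h0 : φ₁ 1 ≠ 0 := (hirr _ h1).one_ne_zero
  have hq : ∀ φ ∈ A, φ 1 / φ₁ 1 = b φ := fun φ h => by rw [hb φ h]; field_simp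
  have hq' : φ' 1 / φ₁ 1 = b' := by rw [hb']; field_simp
  have hb1 : b φ₁ = 1 := by
    have := hq _ h1
    rw [div_self h0] at this
    exact_mod_cast this.symm
  set T : ℕ := ∑ φ ∈ A, b φ ^ 2 with hTdef
  have hT' : 2 * b' + 1 < T := by
    obtain ⟨n, hn0, hn⟩ := (hirr _ h1).exists_nat_one
    have e1 : ∑ φ ∈ A, (φ 1).re ^ 2 = T * (n : ℝ) ^ 2 := by
      rw [hTdef]; push_cast
      rw [Finset.sum_mul]
      refine Finset.sum_congr rfl fun φ h => ?_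
      rw [hb φ h, hn, ← Nat.cast_mul, Complex.natCast_re]; push_cast; ring
    rw [e1, hb', hn, ← Nat.cast_mul, Complex.natCast_re, Complex.natCast_re] at hT
    have hn' : (0 : ℝ) < (n : ℝ) ^ 2 := by positivity
    have : ((2 * b' + 1 : ℕ) : ℝ) < T := by
      push_cast at hT ⊢
      nlinarith
    exact_mod_cast this
  have hb'0 : 1 ≤ b' := by
    rcases Nat.eq_zero_or_pos b' with h | h
    · exact absurd (by rw [hb', h]; simp) hirr'.one_ne_zero
    · exact h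
  set β := (φ' 1 / φ₁ 1) • φ₁ - φ' with hβ
  set v := ∑ φ ∈ A, (b φ : ℂ) • ((φ 1 / φ₁ 1) • φ₁ - φ) with hv
  set ω := ∑ φ ∈ A, (b φ : ℂ) • φ with hω
  have hvT : v = (T : ℂ) • φ₁ - ω := by
    rw [hv, hω, hTdef]; push_cast
    rw [Finset.sum_smul, ← Finset.sum_sub_distrib]
    refine Finset.sum_congr rfl fun φ h => ?_
    rw [hq φ h, smul_sub, smul_smul, sq]
  have hβon : β ∈ CFon H (sharp Q) := sub_mem_CFon_sharp (hon _ h1) hon' h0
  have hvon : v ∈ CFon H (sharp Q) := Submodule.sum_mem _ fun φ h =>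
    Submodule.smul_mem _ _ (sub_mem_CFon_sharp (hon _ h1) (hon _ h) h0)
  have hO := orthonormal'_of_irr hirr
  have hne : φ₁ ≠ φ' := fun h => hA (h ▸ h1)
  have d1 : cfdot H ω φ₁ = 1 := by rw [hω, hO.cfdot_sum_smul (fun φ => (b φ : ℂ)) h1, hb1]; simp
  have d1' : cfdot H φ₁ ω = 1 := by rw [← cfdot_conj, d1, map_one]
  have d2 : cfdot H ω φ' = 0 := by
    rw [hω, cfdot_sum_left]
    refine Finset.sum_eq_zero fun φ h => ?_
    rw [cfdot_smul_left, (hirr φ h).cfdot_ne hirr' (fun e => hA (e ▸ h)), mul_zero]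
  have d3 : cfdot H ω ω = T := by
    rw [cfdot_self, hω, hO.cfnorm_sum_smul, hTdef]
    simp
  have d4 := (hirr _ h1).cfdot_self
  have d5 := (hirr _ h1).cfdot_ne hirr' hne
  have d6 := hirr'.cfdot_ne (hirr _ h1) hne.symm
  have d7 := hirr'.cfdot_self
  have evv : cfdot ⊤ (cfInd H ⊤ v) (cfInd H ⊤ v) = T ^ 2 - T := by
    rw [normedTI_isometry hTI hvon hvon, hvT]
    simp only [cfdot_sub_left, cfdot_sub_right, cfdot_smul_left, cfdot_natCast_smul_right,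
      d1, d1', d3, d4]
    ring
  have evβ : cfdot ⊤ (cfInd H ⊤ v) (cfInd H ⊤ β) = b' * (T - 1) := by
    rw [normedTI_isometry hTI hvon hβon, hvT, hβ, hq']
    simp only [cfdot_sub_left, cfdot_sub_right, cfdot_smul_left, cfdot_natCast_smul_right,
      d1, d2, d4, d5]
    ring
  have eββ : cfdot ⊤ (cfInd H ⊤ β) (cfInd H ⊤ β) = b' ^ 2 + 1 := by
    rw [normedTI_isometry hTI hβon hβon, hβ, hq']
    simp only [cfdot_sub_left, cfdot_sub_right, cfdot_smul_left, cfdot_natCast_smul_right,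
      d4, d5, d6, d7]
    ring
  have evψ : cfdot ⊤ (cfInd H ⊤ v) ψ = T - 1 := by
    rw [hv, map_sum, cfdot_sum_left, hTdef, ← Finset.add_sum_erase A _ h1,
      ← Finset.add_sum_erase A _ h1, div_self h0, one_smul, sub_self, smul_zero, map_zero,
      cfdot_zero_left, zero_add, hb1]
    push_cast
    rw [add_sub_cancel_left]
    refine Finset.sum_congr rfl fun φ h => ?_
    obtain ⟨h2, h3⟩ := Finset.mem_erase.1 h
    rw [map_smul, cfdot_smul_left, hc φ h3 h2, hq φ h3, sq]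
  have hβZ : cfInd H ⊤ β ∈ ZIrr (⊤ : Subgroup G) := ZIrr_cfInd le_top (by
    rw [hβ, hq']
    exact Submodule.sub_mem _ (natCast_smul_mem (hirr _ h1).mem_ZIrr _) hirr'.mem_ZIrr)
  obtain ⟨k, hk⟩ := ZIrr_cfdot_int hβZ hψ.mem_ZIrr
  have hk' : cfdot ⊤ ψ (cfInd H ⊤ β) = k := by rw [← cfdot_conj, hk]; simp
  have evψ' : cfdot ⊤ ψ (cfInd H ⊤ v) = T - 1 := by rw [← cfdot_conj, evψ]; simp
  have hψψ := hψ.cfdot_self
  set w := cfInd H ⊤ v - ((T - 1 : ℤ) : ℂ) • ψ with hw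
  set y := cfInd H ⊤ β - (k : ℂ) • ψ with hy
  have ew : cfnorm ⊤ w = (T - 1 : ℝ) := by
    apply cfnorm_eq_of_cfdot_eq
    rw [hw]
    simp only [cfdot_sub_left, cfdot_sub_right, cfdot_smul_left, cfdot_intCast_smul_right,
      evv, evψ, evψ', hψψ]
    push_cast; ring
  have ey : cfnorm ⊤ y = (b' ^ 2 + 1 - k ^ 2 : ℝ) := by
    apply cfnorm_eq_of_cfdot_eq
    rw [hy]
    simp only [cfdot_sub_left, cfdot_sub_right, cfdot_smul_left, cfdot_intCast_smul_right,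
      eββ, hk, hk', hψψ]
    push_cast; ring
  have ewy : cfdot ⊤ w y = (((T - 1) * (b' - k) : ℝ) : ℂ) := by
    rw [hw, hy]
    simp only [cfdot_sub_left, cfdot_sub_right, cfdot_smul_left, cfdot_intCast_smul_right,
      evβ, evψ, hk', hψψ]
    push_cast; ring
  have cs := norm_cfdot_sq_le (L := ⊤) (φ := w) (ψ := y)
  rw [ew, ey, ewy, Complex.norm_real, Real.norm_eq_abs, sq_abs] at cs
  have cs' : ((T - 1) * (b' - k) : ℤ) ^ 2 ≤ (T - 1) * (b' ^ 2 + 1 - k ^ 2) := by exact_mod_cast cs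
  have hkb : k = b' := by
    by_contra hne
    set n : ℤ := b' - k with hn
    have hn0 : n ≠ 0 := fun h => hne (by omega)
    have hT1 : (0 : ℤ) < T - 1 := by omega
    have h3 : (T - 1) * n ^ 2 ≤ b' ^ 2 + 1 - k ^ 2 := by
      by_contra h
      push Not at h
      nlinarith
    have h4 : (T : ℤ) * n ^ 2 ≤ 1 + 2 * b' * n := by
      have : k = b' - n := by omega
      rw [this] at h3; nlinarith
    have h5 : (2 * b' + 2 : ℤ) ≤ T := by omega
    have h6 : (1 : ℤ) ≤ b' := by omega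
    rcases lt_or_gt_of_ne hn0 with h | h
    · nlinarith [sq_nonneg n]
    · have h7 : n ≤ n ^ 2 := by nlinarith
      have h8 : (2 * b' + 2) * n ≤ T * n ^ 2 :=
        mul_le_mul h5 h7 h.le (by omega)
      nlinarith
  rw [CohAt, hk, hkb, hq']; simp

/-- the exceptional character attached to `φ` -/
theorem CohAt.dirr (hTI : NormedTI (sharp Q) ⊤ H) (h1 : IsIrr H φ₁) (hon1 : φ₁ ∈ CFon H (Q : Set G))
    (hirr : IsIrr H φ) (hon : φ ∈ CFon H (Q : Set G)) (hne : φ ≠ φ₁)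
    (hint : ∃ n : ℕ, φ 1 = n * φ₁ 1) (hψ : IsDirr ⊤ ψ) (hc : CohAt H φ₁ ψ φ) :
    IsDirr ⊤ ((φ 1 / φ₁ 1) • ψ - cfInd H ⊤ ((φ 1 / φ₁ 1) • φ₁ - φ)) := by
  obtain ⟨b, hb⟩ := hint
  have hq : φ 1 / φ₁ 1 = b := by rw [hb]; field_simp [h1.one_ne_zero]
  have hβon := sub_mem_CFon_sharp hon1 hon h1.one_ne_zero
  have hc' : cfdot ⊤ ψ (cfInd H ⊤ ((φ 1 / φ₁ 1) • φ₁ - φ)) = φ 1 / φ₁ 1 := by
    rw [← cfdot_conj, hc, hq]; simp
  have eββ := normedTI_isometry hTI hβon hβon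
  unfold CohAt at hc
  rw [hq] at hc hc' eββ ⊢
  refine isDirr_of_cfdot (Submodule.sub_mem _ (natCast_smul_mem hψ.mem_ZIrr _)
    (ZIrr_cfInd le_top (Submodule.sub_mem _ (natCast_smul_mem h1.mem_ZIrr _) hirr.mem_ZIrr))) ?_
  simp only [cfdot_sub_left, cfdot_sub_right, cfdot_smul_left, cfdot_natCast_smul_right,
    h1.cfdot_self, hirr.cfdot_self, h1.cfdot_ne hirr hne.symm, hirr.cfdot_ne h1 hne] at eββ
  rw [cfdot_sub_left, cfdot_sub_right, cfdot_sub_right, cfdot_smul_left, cfdot_smul_left,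
    cfdot_natCast_smul_right, cfdot_natCast_smul_right, hψ.cfdot_self, hc, hc', eββ]
  ring

/-- start of the induction: characters of the same degree -/
theorem exists_cohAt (hTI : NormedTI (sharp Q) ⊤ H) {A : Finset (G → ℂ)}
    (hirr : ∀ φ ∈ A, IsIrr H φ) (hon : ∀ φ ∈ A, φ ∈ CFon H (Q : Set G))
    (hdeg : ∀ φ ∈ A, φ 1 = φ₁ 1) (h1 : φ₁ ∈ A) (h2 : 1 < A.card) :
    ∃ ψ, IsDirr ⊤ ψ ∧ ∀ φ ∈ A, φ ≠ φ₁ → CohAt H φ₁ ψ φ := by
  have hon' : ∀ φ ∈ zspan A, φ 1 = 0 → φ ∈ CFon H (sharp Q) := fun φ h h0 =>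
    mem_CFon_sharp.2 ⟨zspan_mem_submodule hon h, h0⟩
  obtain ⟨μ, ε, hε, hμ, hinj, he⟩ := vchar_isometry_base (G0 := ⊤) (τ := cfInd H ⊤) hirr h2
    (fun χ h ψ h' => by rw [hdeg χ h, hdeg ψ h'])
    ⟨fun φ h h0 ψ h' h0' => normedTI_isometry hTI (hon' φ h h0) (hon' ψ h' h0'),
      fun φ h _ => ZIrr_cfInd le_top (zspan_le_ZIrr (fun ξ hξ => (hirr ξ hξ).mem_ZIrr) h),
      fun φ _ h0 => by rw [cfInd_one le_top, h0, mul_zero]⟩
  refine ⟨(ε : ℂ) • μ φ₁, isDirr_sign_smul (hμ _ h1).isDirr hε, fun φ h hne => ?_⟩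
  rw [CohAt, hdeg φ h, div_self (hirr _ h1).one_ne_zero, one_smul, he _ h1 _ h, cfdot_smul_left,
    cfdot_intCast_smul_right, cfdot_sub_left, (hμ _ h1).cfdot_self,
    (hμ _ h).cfdot_ne (hμ _ h1) (fun e => hne (hinj h h1 e))]
  rcases hε with rfl | rfl <;> simp

end prop

namespace RO
variable {H Q : Subgroup G} {t s r : G} (R : RO H Q t)
include R

omit [Fintype G] in
theorem normedTI_of_le [Finite G] {A : Subgroup G} (hA : A ≤ Q) (h0 : A ≠ ⊥)
    (hn : H ≤ normalizer (A : Set G)) : NormedTI (sharp A) ⊤ H := by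
  obtain ⟨⟨a, ha⟩, ha1⟩ := (Subgroup.ne_bot_iff_exists_ne_one).1 h0
  exact ⟨⟨a, ha, fun h => ha1 (Subtype.ext h)⟩, le_top, sharp_conj hn,
    fun g _ a ha h => R.mem_H_of_conj' (hA ha.1) ha.2 (R.le (hA h.1))⟩

omit [Fintype G] in
theorem Q_ne_bot [Finite G] : Q ≠ ⊥ := by
  obtain ⟨s, r, hs⟩ := R.exists_dist
  intro h
  exact hs.s_ne (mem_bot.1 (h ▸ hs.s_mem))

omit [Fintype G] in
theorem normedTI_Q [Finite G] : NormedTI (sharp Q) ⊤ H :=
  R.normedTI_of_le le_rfl R.Q_ne_bot R.le_normalizer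

omit [Fintype G] in
theorem le_normalizer_Q0 [Finite G] (h2 : Rank2 Q) : H ≤ normalizer (Q0g Q : Set G) := by
  have := Fintype.ofFinite G
  exact le_normalizer_of_conj fun x hx a ha => by simpa using R.Q0_norm h2 (inv_mem hx) ha

theorem ncard_InvSet (h2 : Rank2 Q) :
    (InvSet G).ncard = (Nat.card Q + 1) * (Nat.card (Q0g Q) - 1) := by
  obtain ⟨s, r, hs⟩ := R.exists_dist
  have hs0 : s ∈ Q0g Q := mem_Q0g_of hs.s_mem hs.ss
  have hTI := R.normedTI_of_le (A := Q0g Q) Q0g_le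
    (fun h => hs.s_ne (mem_bot.1 (h ▸ hs0))) (R.le_normalizer_Q0 h2)
  have e : InvSet G = classSupport (sharp (Q0g Q)) ⊤ := by
    ext u
    constructor
    · intro hu
      obtain ⟨g, rfl⟩ := R.invol_conj_s hs hu.1 hu.2
      exact ⟨s, ⟨hs0, hs.s_ne⟩, g⁻¹, mem_top _, by simp⟩
    · rintro ⟨a, ha, y, -, rfl⟩
      exact InvSet_conj y ⟨ha.2, ((R.mem_Q0 h2).1 ha.1).2⟩
  rw [e, hTI.card_classSupport, relIndex_top_right, R.index_H, sharp,
    Set.ncard_sdiff_singleton_of_mem (one_mem _)]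
  rfl

theorem row_dirr (hs : Dist Q t s r) {χ : G → ℂ} (hχ : IsDirr ⊤ χ) :
    ∑ x ∈ elems (InvSet G), χ (x * s) = (InvSet G).ncard * χ s ^ 2 / χ 1 := by
  have key : ∀ χ : G → ℂ, IsIrr ⊤ χ →
      ∑ x ∈ elems (InvSet G), χ (x * s) = (InvSet G).ncard * χ s ^ 2 / χ 1 := by
    intro χ hχ
    have hfC : cfInd1 (InvSet G) ∈ CF (⊤ : Subgroup G) :=
      CFon_CF (cfInd1_mem_CFon (fun _ _ => mem_top _) fun g _ _ h => InvSet_conj g h)
    have e : ∀ f : G → ℂ, ∑ x ∈ elems ((⊤ : Subgroup G) : Set G), cfInd1 (InvSet G) x * f x =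
        ∑ x ∈ elems (InvSet G), f x := fun f => by
      refine ((Finset.sum_congr rfl fun u hu => ?_).trans (Finset.sum_subset
        (fun u _ => mem_elems.mpr (mem_top u)) fun u _ hu => ?_)).symm
      · rw [cfInd1_apply (mem_elems.mp hu), one_mul]
      · rw [cfInd1_apply_of_notMem (fun h => hu (mem_elems.mpr h)), zero_mul]
    have := hχ.sum_CF_mul hfC s
    have e2 : ∑ x ∈ elems (InvSet G), χ x = (InvSet G).ncard * χ s := by
      rw [Finset.sum_congr rfl (g := fun _ => χ s), Finset.sum_const, card_elems_set, nsmul_eq_mul]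
      intro u hu
      obtain ⟨g, rfl⟩ := R.invol_conj_s hs (mem_elems.1 hu).1 (mem_elems.1 hu).2
      exact CF_conj' hχ.mem_CF (mem_top g) s
    rw [e (fun x => χ (x * s)), e, e2] at this
    rw [this]; ring
  rcases hχ with h | h
  · exact key χ h
  · have := key _ h
    simp only [Pi.neg_apply, Finset.sum_neg_distrib] at this
    rw [neg_eq_iff_eq_neg] at this
    rw [this]; ring

omit [Fintype G] in
theorem sq_eq_one_of_real [Finite G] (h2 : Rank2 Q) {u y : G} (hu : u * u = 1)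
    (h : u * y * u = y⁻¹) (hy : y ∈ Q) : y * y = 1 := by
  by_cases h1 : y = 1
  · simp [h1]
  have huH : u ∈ H := R.mem_H_of_conj hy h1 (by
    rw [inv_eq_of_mul_self hu, h]; exact R.le (inv_mem hy))
  have := R.invol_central h2 (R.mem_Q_of_invol huH hu) hu hy
  rw [this, mul_assoc, hu, mul_one] at h
  exact mul_eq_one_iff_eq_inv.2 h

theorem row_ind (h2 : Rank2 Q) (hs : Dist Q t s r) {β : G → ℂ} (hβ : β ∈ CFon H (sharp Q)) :
    ∑ x ∈ elems (InvSet G), cfInd H ⊤ β (x * s) = (Nat.card (Q0g Q) - 2) * β s := by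
  classical
  have hs0 : s ∈ Q0g Q := mem_Q0g_of hs.s_mem hs.ss
  have hsub : ((elems (Q0g Q : Set G)).erase 1).erase s ⊆ elems (InvSet G) := by
    intro x hx
    simp only [Finset.mem_erase, mem_elems] at hx ⊢
    exact ⟨hx.2.1, ((R.mem_Q0 h2).1 hx.2.2).2⟩
  rw [← Finset.sum_subset hsub, Finset.sum_congr rfl (g := fun _ => β s), Finset.sum_const,
    nsmul_eq_mul, Finset.cast_card_erase_of_mem, Finset.cast_card_erase_of_mem, card_elems]
  · ring
  · exact mem_elems.2 (one_mem _)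
  · exact Finset.mem_erase.2 ⟨hs.s_ne, mem_elems.2 hs0⟩
  · intro x hx
    simp only [Finset.mem_erase, mem_elems] at hx
    have h0 : x * s ∈ Q0g Q := mul_mem hx.2.2 hs0
    have h1 : x * s ≠ 1 := fun h => hx.1 (by
      rw [← inv_eq_of_mul_self hs.ss]; exact eq_inv_of_mul_eq_one_left h)
    rw [normedTI_Ind_id R.normedTI_Q hβ ⟨Q0g_le h0, h1⟩ (mem_top _)]
    obtain ⟨k, hk, e⟩ := R.exists_K_conj hs (Q0g_le h0) h1 ((R.mem_Q0 h2).1 h0).2
    rw [e]
    exact CF_conj' (CFon_CF hβ) (Dg_le hk.1) s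
  · intro x hx hx'
    rw [mem_elems] at hx
    by_cases hxs : x = s
    · rw [hxs, hs.ss, cfInd_one le_top, CFon_zero hβ one_notMem_sharp, mul_zero]
    have hxH : x ∉ H := fun h => hx' (by
      simp only [Finset.mem_erase, mem_elems]
      exact ⟨hxs, hx.1, mem_Q0g_of (R.mem_Q_of_invol h hx.2) hx.2⟩)
    refine cfInd_eq_zero fun g _ _ => CFon_zero hβ fun hg => ?_
    have h3 := R.sq_eq_one_of_real h2 (InvSet_conj g hx).2 (y := g * (x * s) * g⁻¹) (by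
      calc g * x * g⁻¹ * (g * (x * s) * g⁻¹) * (g * x * g⁻¹) = g * ((x * x) * s * x) * g⁻¹ := by group
        _ = (g * (x * s) * g⁻¹)⁻¹ := by
          rw [hx.2, conj_inv, mul_inv_rev, inv_eq_of_mul_self hs.ss, inv_eq_of_mul_self hx.2,
            one_mul]) hg.1
    have h4 : (s * x) * (s * x) = 1 := by
      calc (s * x) * (s * x) = s * g⁻¹ * (g * (x * s) * g⁻¹ * (g * (x * s) * g⁻¹)) * g * s⁻¹ := by
            group
        _ = 1 := by rw [h3]; group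
    have h5 := R.odd_mul (R.le hs.s_mem) hs.s_ne hs.ss hxH hx.2
    have h6 : orderOf (s * x) ∣ 2 := orderOf_dvd_of_pow_eq_one (by rw [sq, h4])
    have h7 : orderOf (s * x) = 1 := by
      rcases (Nat.dvd_prime Nat.prime_two).1 h6 with h | h
      · exact h
      · rw [h] at h5; exact absurd h5 (by decide)
    rw [orderOf_eq_one_iff] at h7
    exact hxs (by rw [← inv_eq_of_mul_self hs.ss]; exact eq_inv_of_mul_eq_one_right h7)

/-- value at `s` of an irreducible character of `H` which is non-trivial on `Q₀` -/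
theorem apply_s (h2 : Rank2 Q) (hs : Dist Q t s r) {φ : G → ℂ} (hφ : IsIrr H φ)
    (hk : ¬ Q0g Q ≤ cfker H φ) : (Nat.card (Q0g Q) - 1) * φ s = -φ 1 := by
  classical
  have := hφ.sum_normal (Q0g_le.trans R.le) (R.le_normalizer_Q0 h2)
  rw [if_neg hk, ← Finset.add_sum_erase _ _ (mem_elems.2 (one_mem (Q0g Q))),
    Finset.sum_congr rfl (g := fun _ => φ s), Finset.sum_const, nsmul_eq_mul,
    Finset.cast_card_erase_of_mem (mem_elems.2 (one_mem (Q0g Q))), card_elems] at this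
  · linear_combination this
  · intro x hx
    simp only [Finset.mem_erase, mem_elems] at hx
    obtain ⟨k, hk, e⟩ := R.exists_K_conj hs (Q0g_le hx.2) hx.1 ((R.mem_Q0 h2).1 hx.2).2
    rw [e]
    exact CF_conj' hφ.mem_CF (Dg_le hk.1) s

end RO

end CfsgLib.Suz
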