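import Mathlib
import Cfsg.Agent.Lib.Suz.CharRO

/-! Project D: exceptional characters and the involution class formula. -/

set_option autoImplicit false

namespace CfsgLib.Suz
open Subgroup CfsgLib.FT
open scoped ComplexConjugate

variable {G : Type*} [Group G] [Fintype G]

theorem sum_dirr_norm_sq_le {ι : Type*} (X : Finset ι) (e : ι → G → ℂ)
    (he : ∀ i ∈ X, IsDirr ⊤ (e i)) (ho : ∀ i ∈ X, ∀ j ∈ X, i ≠ j → cfdot ⊤ (e i) (e j) = 0) (g : G) :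
    ∑ i ∈ X, ‖e i g‖ ^ 2 ≤ Nat.card (centralizer ({g} : Set G)) := by
  classical
  have h1 : ∀ i, i ∈ X → ∃ χ : Irr (⊤ : Subgroup G), e i = χ ∨ e i = -(χ : G → ℂ) := by
    intro i hi
    rcases he i hi with h | h
    · exact ⟨⟨_, h⟩, Or.inl rfl⟩
    · exact ⟨⟨_, h⟩, Or.inr (neg_neg _).symm⟩
  choose! f hf using h1
  have hinj : Set.InjOn f X := by
    intro i hi j hj hij
    by_contra hne
    have h0 := ho i hi j hj hne
    have h1 := (f i).irr.cfdot_self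
    rcases hf i hi with h | h <;> rcases hf j hj with h' | h' <;>
      rw [h, h', ← hij] at h0 <;>
      simp only [cfdot_neg_left, cfdot_neg_right, h1] at h0 <;> simp at h0
  have h2 := sum_irr_norm_sq (L := (⊤ : Subgroup G)) (mem_top g)
  rw [top_inf_eq] at h2
  rw [← h2]
  calc ∑ i ∈ X, ‖e i g‖ ^ 2 = ∑ i ∈ X, ‖f i g‖ ^ 2 := by
        refine Finset.sum_congr rfl fun i hi => ?_
        rcases hf i hi with h | h <;> rw [h]
        simp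
    _ = ∑ χ ∈ X.image f, ‖χ g‖ ^ 2 := (Finset.sum_image (f := fun χ : Irr ⊤ => ‖χ g‖ ^ 2) hinj).symm
    _ ≤ _ := Finset.sum_le_sum_of_subset_of_nonneg (Finset.subset_univ _) fun _ _ _ => by positivity

variable {H Q : Subgroup G} {φ₁ φ ψ : G → ℂ}

/-- the exceptional character -/
noncomputable def exc (H : Subgroup G) (φ₁ ψ φ : G → ℂ) : G → ℂ :=
  (φ 1 / φ₁ 1) • ψ - cfInd H ⊤ ((φ 1 / φ₁ 1) • φ₁ - φ)

theorem exc_self (h0 : φ₁ 1 ≠ 0) : exc H φ₁ ψ φ₁ = ψ := by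
  rw [exc, div_self h0, one_smul, one_smul, sub_self, map_zero, sub_zero]

theorem exc_one (h0 : φ₁ 1 ≠ 0) : exc H φ₁ ψ φ 1 = φ 1 / φ₁ 1 * ψ 1 := by
  rw [exc, Pi.sub_apply, cfInd_one le_top]
  simp only [Pi.sub_apply, Pi.smul_apply, smul_eq_mul]
  field_simp
  ring

theorem exc_apply (hTI : NormedTI (sharp Q) ⊤ H) (hon1 : φ₁ ∈ CFon H (Q : Set G))
    (hon : φ ∈ CFon H (Q : Set G)) (h0 : φ₁ 1 ≠ 0) {g : G} (hg : g ∈ sharp Q) :
    exc H φ₁ ψ φ g = φ g + φ 1 / φ₁ 1 * (ψ g - φ₁ g) := by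
  rw [exc, Pi.sub_apply, normedTI_Ind_id hTI (sub_mem_CFon_sharp hon1 hon h0) hg (mem_top _)]
  simp only [Pi.sub_apply, Pi.smul_apply, smul_eq_mul]
  ring

theorem sum_exc_le (hTI : NormedTI (sharp Q) ⊤ H) {A : Finset (G → ℂ)}
    (hirr : ∀ φ ∈ A, IsIrr H φ) (hon : ∀ φ ∈ A, φ ∈ CFon H (Q : Set G))
    (hint : ∀ φ ∈ A, ∃ n : ℕ, φ 1 = n * φ₁ 1) (h1 : φ₁ ∈ A) (hψ : IsDirr ⊤ ψ)
    (hc : ∀ φ ∈ A, φ ≠ φ₁ → CohAt H φ₁ ψ φ) (g : G) :
    ∑ φ ∈ A, ‖exc H φ₁ ψ φ g‖ ^ 2 ≤ Nat.card (centralizer ({g} : Set G)) := by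
  have h0 : φ₁ 1 ≠ 0 := (hirr _ h1).one_ne_zero
  have hd : ∀ φ ∈ A, IsDirr ⊤ (exc H φ₁ ψ φ) := by
    intro φ h
    by_cases hne : φ = φ₁
    · rw [hne, exc_self h0]; exact hψ
    · exact (hc φ h hne).dirr hTI (hirr _ h1) (hon _ h1) (hirr _ h) (hon _ h) hne (hint _ h) hψ
  have hψo : ∀ φ ∈ A, φ ≠ φ₁ → cfdot ⊤ (exc H φ₁ ψ φ) ψ = 0 := by
    intro φ h hne
    rw [exc, cfdot_sub_left, cfdot_smul_left, hψ.cfdot_self, hc φ h hne]; ring
  refine sum_dirr_norm_sq_le A _ hd (fun φ h φ' h' hne => ?_) g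
  by_cases e : φ' = φ₁
  · rw [e, exc_self h0]; exact hψo φ h (e ▸ hne)
  by_cases e' : φ = φ₁
  · rw [e', exc_self h0]; exact cfdot_symm_zero (hψo φ' h' e)
  obtain ⟨b, hb⟩ := hint φ h
  obtain ⟨b', hb'⟩ := hint φ' h'
  have hq : φ 1 / φ₁ 1 = b := by rw [hb]; field_simp
  have hq' : φ' 1 / φ₁ 1 = b' := by rw [hb']; field_simp
  have i1 := normedTI_isometry hTI (sub_mem_CFon_sharp (hon _ h1) (hon _ h) h0)
    (sub_mem_CFon_sharp (hon _ h1) (hon _ h') h0)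
  have c' : cfdot ⊤ ψ (cfInd H ⊤ ((φ' 1 / φ₁ 1) • φ₁ - φ')) = b' := by
    rw [← cfdot_conj, hc φ' h' e, hq']; simp
  conv_lhs => rw [exc, exc]
  rw [cfdot_sub_right, hq', cfdot_natCast_smul_right, ← exc, hψo φ h e', exc, cfdot_sub_left,
    cfdot_smul_left, ← hq', c', i1, hq, hq']
  simp only [cfdot_sub_left, cfdot_sub_right, cfdot_smul_left, cfdot_natCast_smul_right,
    (hirr _ h1).cfdot_self, (hirr _ h1).cfdot_ne (hirr _ h') (Ne.symm e),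
    (hirr _ h).cfdot_ne (hirr _ h1) e', (hirr _ h).cfdot_ne (hirr _ h') hne]
  ring

namespace RO
variable {t s r : G} (R : RO H Q t)
include R

theorem card_cent_s (h2 : Rank2 Q) (hs : Dist Q t s r) :
    Nat.card (centralizer ({s} : Set G)) * (Nat.card (Q0g Q) - 1) =
      Nat.card Q * Nat.card (Dg H t) := by
  have h1 := (centralizer ({s} : Set G)).card_mul_index
  rw [Frob.index_centralizer_eq_ncard, R.card_G] at h1
  have e : {y : G | IsConj s y} = InvSet G := by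
    ext y
    constructor
    · intro h
      obtain ⟨g, rfl⟩ := isConj_iff.1 h
      exact InvSet_conj g ⟨hs.s_ne, hs.ss⟩
    · intro h
      obtain ⟨g, rfl⟩ := R.invol_conj_s hs h.1 h.2
      exact isConj_iff.2 ⟨g⁻¹, by simp⟩
  rw [e, R.ncard_InvSet h2] at h1
  apply Nat.eq_of_mul_eq_mul_right (Nat.succ_pos (Nat.card Q))
  rw [Nat.succ_eq_add_one, ← h1]; ring

/-- the involution class formula for an exceptional pair -/
theorem class_eq (h2 : Rank2 Q) (hs : Dist Q t s r) (h1 : IsIrr H φ₁)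
    (hon1 : φ₁ ∈ CFon H (Q : Set G)) (hirr : IsIrr H φ) (hon : φ ∈ CFon H (Q : Set G))
    (hint : ∃ n : ℕ, φ 1 = n * φ₁ 1) (hψ : IsDirr ⊤ ψ) (hc : CohAt H φ₁ ψ φ)
    (hk1 : Q0g Q ≤ cfker H φ₁) (hk : ¬ Q0g Q ≤ cfker H φ) :
    (Nat.card (Q0g Q) - 2) * ψ 1 =
      (Nat.card Q + 1) * (2 * (Nat.card (Q0g Q) - 1) * ψ s - Nat.card (Q0g Q) * φ₁ 1) := by
  have hne : φ ≠ φ₁ := fun h => hk (h ▸ hk1)
  have h0 := h1.one_ne_zero
  have hd : IsDirr ⊤ (exc H φ₁ ψ φ) := hc.dirr R.normedTI_Q h1 hon1 hirr hon hne hint hψ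
  have r1 := R.row_dirr hs hψ
  have r2 := R.row_dirr hs hd
  have r3 := R.row_ind h2 hs (sub_mem_CFon_sharp hon1 hon h0)
  have r4 : ∑ x ∈ elems (InvSet G), exc H φ₁ ψ φ (x * s) =
      φ 1 / φ₁ 1 * ∑ x ∈ elems (InvSet G), ψ (x * s) -
        ∑ x ∈ elems (InvSet G), cfInd H ⊤ ((φ 1 / φ₁ 1) • φ₁ - φ) (x * s) := by
    rw [Finset.mul_sum, ← Finset.sum_sub_distrib]; rfl
  have hs1 : φ₁ s = φ₁ 1 := cfker_apply (hk1 (mem_Q0g_of hs.s_mem hs.ss))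
  rw [r1, r2, r3, exc_one h0, exc_apply R.normedTI_Q hon1 hon h0 ⟨hs.s_mem, hs.s_ne⟩,
    R.ncard_InvSet h2] at r4
  simp only [Pi.sub_apply, Pi.smul_apply, smul_eq_mul, hs1] at r4
  have r5 := R.apply_s h2 hs hirr hk
  obtain ⟨n, hn2, hn⟩ := R.exists_card_Q0 h2
  have hq1 : 1 ≤ Nat.card (Q0g Q) := Nat.card_pos
  have hq : (Nat.card (Q0g Q) : ℂ) - 1 ≠ 0 := by
    rw [sub_ne_zero]
    have : 1 < Nat.card (Q0g Q) := by rw [hn]; exact Nat.one_lt_two_pow (by omega)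
    exact_mod_cast this.ne'
  have hq0 : (Nat.card (Q0g Q) : ℂ) ≠ 0 := card_ne_zero _
  push_cast [hq1] at r4
  generalize ((Nat.card (Q0g Q) : ℕ) : ℂ) = q at *
  have hφ0 := hirr.one_ne_zero
  have hψ0 := hψ.one_ne_zero
  have r6 : φ s = -φ 1 / (q - 1) := by field_simp; linear_combination r5
  rw [r6] at r4
  field_simp at r4
  apply mul_left_cancel₀ (mul_ne_zero hq0 h0)
  linear_combination r4

end RO

end CfsgLib.Suz
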