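import Mathlib
import Cfsg.Agent.Lib.Suz.CharRO2
import Cfsg.Agent.Lib.FT.BG10T2

/-! Project D: Theorem C.  If `D` acts fixed-point-freely on `O(Q)` then `Q` is a 2-group. -/

set_option autoImplicit false

namespace CfsgLib.Suz
open Subgroup CfsgLib.FT Cfsg
open scoped ComplexConjugate commutatorElement

variable {G : Type*} [Group G] [Fintype G]

theorem thmC_numerics {q z N δ m u : ℝ} (hq : 4 ≤ q) (hz : 7 ≤ z) (hN : 15 ≤ N) (hδ : 0 < δ)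
    (h1 : (z - 1) * m ^ 2 ≤ δ ^ 2 * z * (N + 1)) (h2 : 2 * u ^ 2 ≤ δ ^ 2)
    (h3 : (q - 2) * m = (N + 1) * (2 * u + (q - 2) * δ)) : False := by
  have a1 : -(5 / 7 * δ) ≤ u := by
    by_contra h
    push Not at h
    nlinarith
  have a2 : (q - 2) * (2 / 7 * δ) ≤ 2 * u + (q - 2) * δ := by nlinarith
  have a3 : (N + 1) * (2 / 7 * δ) ≤ m := by
    have : (q - 2) * ((N + 1) * (2 / 7 * δ)) ≤ (q - 2) * m := by
      rw [h3]; nlinarith
    exact le_of_mul_le_mul_left this (by linarith)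
  have a4 : ((N + 1) * (2 / 7 * δ)) ^ 2 ≤ m ^ 2 := pow_le_pow_left₀ (by positivity) a3 2
  have a5 : (z - 1) * ((N + 1) * (2 / 7 * δ)) ^ 2 ≤ δ ^ 2 * z * (N + 1) :=
    (mul_le_mul_of_nonneg_left a4 (by linarith)).trans h1
  have a6 : (δ ^ 2 * (N + 1)) * ((z - 1) * (N + 1) * (4 / 49)) ≤ (δ ^ 2 * (N + 1)) * z := by
    nlinarith
  have a7 := le_of_mul_le_mul_left a6 (by positivity)
  nlinarith

/-- hypotheses of Theorem C -/
structure CHyp (H Q : Subgroup G) (t : G) (S P Z : Subgroup G) (p : ℕ) : Prop extends RO H Q t where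
  rank2 : Rank2 Q
  dprod : DProdIn S P Q
  prime : p.Prime
  p_ne : p ≠ 2
  pP : IsPGroup p P
  nS : H ≤ normalizer (S : Set G)
  nZ : H ≤ normalizer (Z : Set G)
  ZP : Z ≤ P
  Zne : Z ≠ ⊥
  Zc : ∀ z ∈ Z, ∀ x ∈ P, z * x = x * z
  fpf : ∀ d ∈ Dg H t, d ≠ 1 → ∀ z ∈ Z, d * z = z * d → z = 1

namespace CHyp
variable {H Q : Subgroup G} {t : G} {S P Z : Subgroup G} {p : ℕ} (C : CHyp H Q t S P Z p)
include C

theorem SQ : S ≤ Q := C.dprod.compl.1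
theorem PQ : P ≤ Q := C.dprod.compl.2.1
theorem ZQ : Z ≤ Q := C.ZP.trans C.PQ

theorem Zc' {z x : G} (hz : z ∈ Z) (hx : x ∈ Q) : z * x = x * z := by
  obtain ⟨a, ha, b, hb, rfl⟩ := C.dprod.compl.2.2.2 x hx
  rw [← mul_assoc, ← C.dprod.comm a ha z (C.ZP hz), mul_assoc, C.Zc z hz b hb, mul_assoc]

theorem odd_P : Odd (Nat.card P) := by
  have : Fact p.Prime := ⟨C.prime⟩
  obtain ⟨n, hn⟩ := IsPGroup.iff_card.1 C.pP
  rw [hn]; exact (C.prime.odd_of_ne_two C.p_ne).pow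

theorem Q0_le : Q0g Q ≤ S := by
  intro u hu
  obtain ⟨huQ, huu⟩ := (C.mem_Q0 C.rank2).1 hu
  obtain ⟨a, ha, b, hb, rfl⟩ := C.dprod.compl.2.2.2 u huQ
  have e : (a * a) * (b * b) = 1 := by
    calc a * a * (b * b) = a * (a * b) * b := by group
      _ = a * b * (a * b) := by rw [C.dprod.comm a ha b hb, ← mul_assoc, mul_assoc _ a b,
        C.dprod.comm a ha b hb]
      _ = 1 := huu
  have h1 : b * b ∈ S ⊓ P := mem_inf.2 ⟨by
    rw [eq_inv_of_mul_eq_one_right e]; exact inv_mem (mul_mem ha ha), mul_mem hb hb⟩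
  rw [C.dprod.compl.2.2.1, mem_bot] at h1
  rw [eq_one_of_odd_card C.odd_P hb h1, mul_one]
  exact ha

theorem card_D_le : 2 * Nat.card (Dg H t) + 1 ≤ Nat.card Z ∧
    (Nat.card (Dg H t)).Coprime p := by
  have hf : ∀ x ∈ Dg H t, x ≠ 1 → Z ⊓ centralizer ({x} : Set G) = ⊥ := fun x hx h1 =>
    (eq_bot_iff_forall _).2 fun z hz =>
      C.fpf x hx h1 z hz.1 (mem_centralizer_singleton_iff.1 hz.2).symm
  have h1 := semiregular_card_dvd (Dg_le.trans C.nZ) hf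
  have h2 := semiregular_coprime (Dg_le.trans C.nZ) hf
  have h3 : 1 < Nat.card Z := (one_lt_card_iff_ne_bot Z).2 C.Zne
  have h4 : Odd (Nat.card Z) := C.odd_P.of_dvd_nat (card_dvd_of_le C.ZP)
  have : Fact p.Prime := ⟨C.prime⟩
  refine ⟨?_, h2.coprime_dvd_right ?_⟩
  · obtain ⟨c, hc⟩ := h1
    obtain ⟨a, ha⟩ := h4
    obtain ⟨b, hb⟩ := C.odd
    rcases c with _ | _ | c
    · omega
    · omega
    · nlinarith [Nat.sub_add_cancel h3.le]
  · obtain ⟨n, hn⟩ := IsPGroup.iff_card.1 (C.pP.to_le C.ZP)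
    rw [hn] at h3 ⊢
    exact dvd_pow_self p (by rintro rfl; simp at h3)

theorem relIndex_Q : Q.relIndex H = Nat.card (Dg H t) := by
  have h1 := card_eq_relIndex_mul C.le
  rw [C.card_H, mul_comm] at h1
  exact (Nat.eq_of_mul_eq_mul_right Nat.card_pos h1).symm

theorem ind_irr {θ : G → ℂ} (hθ : IsIrr Q θ) (hk : ¬ Z ≤ cfker Q θ) : IsIrr H (cfInd Q H θ) := by
  refine inertia_Ind_irr C.le C.le_normalizer hθ fun h hh => ?_
  obtain ⟨x, hx, d, hd, rfl⟩ := C.dec h hh.1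
  by_contra hQ
  have hd1 : d ≠ 1 := by rintro rfl; exact hQ (by simpa using hx)
  have hdI : d ∈ inertia θ := by
    have := mul_mem (inv_mem (le_inertia hθ.mem_CF hx)) hh.2
    rwa [inv_mul_cancel_left] at this
  obtain ⟨μ, hμ, e⟩ := hθ.exists_lin_cfRes_center C.ZQ (fun z hz y hy => by
    rw [← C.Zc' hz hy, mul_inv_cancel_right, mul_inv_cancel]; exact one_mem _)
  have e' : ∀ z ∈ Z, θ z = θ 1 * μ z := fun z hz => by
    have := congrFun e z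
    rwa [cfRes_apply hz] at this
  have hdZ : ∀ z ∈ Z, d * z * d⁻¹ ∈ Z := fun z hz => (norm_conj_mem (C.nZ (Dg_le hd))).2 hz
  let f : Z → Z := fun z => ⟨d * z * d⁻¹ * (z : G)⁻¹, mul_mem (hdZ z z.2) (inv_mem z.2)⟩
  have hf : Function.Injective f := by
    intro a b hab
    have e : d * a * d⁻¹ * (a : G)⁻¹ = d * b * d⁻¹ * (b : G)⁻¹ := congrArg Subtype.val hab
    have := C.fpf d hd hd1 _ (mul_mem (inv_mem b.2) a.2) (by
      calc d * ((b : G)⁻¹ * a) = (d * b * d⁻¹)⁻¹ * (d * a * d⁻¹ * (a : G)⁻¹) * a * d := by group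
        _ = (b : G)⁻¹ * a * d := by rw [e]; group)
    exact Subtype.ext (inv_mul_eq_one.1 this).symm
  refine hk ((hθ.isChar.le_cfker C.ZQ).2 fun z hz => ?_)
  obtain ⟨w, hw⟩ := Finite.injective_iff_surjective.1 hf ⟨z, hz⟩
  have hw' : d * w * d⁻¹ * (w : G)⁻¹ = z := congrArg Subtype.val hw
  have h1 : μ (d * w * d⁻¹) = μ w := by
    have := hdI w
    rw [e' _ (hdZ w w.2), e' _ w.2] at this
    exact mul_left_cancel₀ hθ.one_ne_zero this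
  rw [e' z hz, ← hw', hμ.map_mul (hdZ w w.2) (inv_mem w.2), h1, ← hμ.map_mul w.2 (inv_mem w.2),
    mul_inv_cancel, hμ.one, mul_one]

theorem kerS {σ ρ : G → ℂ} (hσ : IsIrr S σ) (hρ : IsIrr P ρ) {M : Subgroup G} (hM : M ≤ S) :
    M ≤ cfker Q (cfProd S P σ ρ) ↔ M ≤ cfker S σ :=
  forall₂_congr fun _ hx => C.dprod.mem_cfker hσ.isChar hρ.isChar hρ.ne_zero (hM hx)

theorem kerP {σ ρ : G → ℂ} (hσ : IsIrr S σ) (hρ : IsIrr P ρ) :
    Z ≤ cfker Q (cfProd S P σ ρ) ↔ Z ≤ cfker P ρ := by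
  rw [C.dprod.cfProd_comm]
  exact forall₂_congr fun _ hx => C.dprod.symm.mem_cfker hρ.isChar hσ.isChar hσ.ne_zero (C.ZP hx)

/-- the family of characters of `H` with `M` but not `Z` in the kernel -/
noncomputable def X (H Q Z M : Subgroup G) : Finset (G → ℂ) := seqIndD Q H (Z ⊔ M) M

theorem mem_X {M : Subgroup G} (hM : M ≤ S) {φ : G → ℂ} : φ ∈ X H Q Z M ↔
    ∃ σ ρ, IsIrr S σ ∧ IsIrr P ρ ∧ M ≤ cfker S σ ∧ ¬ Z ≤ cfker P ρ ∧
      φ = cfInd Q H (cfProd S P σ ρ) := by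
  rw [X, mem_seqIndD]
  constructor
  · rintro ⟨θ, hθ, h1, h2, rfl⟩
    obtain ⟨σ, ρ, hσ, hρ, rfl⟩ := C.dprod.exists_of_irr hθ
    exact ⟨σ, ρ, hσ, hρ, (C.kerS hσ hρ hM).1 h1,
      fun h => h2 (sup_le ((C.kerP hσ hρ).2 h) h1), rfl⟩
  · rintro ⟨σ, ρ, hσ, hρ, h1, h2, rfl⟩
    exact ⟨_, C.dprod.isIrr hσ hρ, (C.kerS hσ hρ hM).2 h1,
      fun h => h2 ((C.kerP hσ hρ).1 (le_sup_left.trans h)), rfl⟩

theorem X_irr {M : Subgroup G} (hM : M ≤ S) {φ : G → ℂ} (h : φ ∈ X H Q Z M) : IsIrr H φ := by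
  obtain ⟨σ, ρ, hσ, hρ, -, h2, rfl⟩ := (C.mem_X hM).1 h
  exact C.ind_irr (C.dprod.isIrr hσ hρ) fun h => h2 ((C.kerP hσ hρ).1 h)

theorem X_on {M : Subgroup G} {φ : G → ℂ} (h : φ ∈ X H Q Z M) : φ ∈ CFon H (Q : Set G) :=
  seqInd_on C.le_normalizer h

theorem X_mono {M M' : Subgroup G} (hM : M ≤ S) (h : M' ≤ M) : X H Q Z M ⊆ X H Q Z M' := by
  intro φ hφ
  obtain ⟨σ, ρ, hσ, hρ, h1, h2, rfl⟩ := (C.mem_X hM).1 hφ
  exact (C.mem_X (h.trans hM)).2 ⟨σ, ρ, hσ, hρ, h.trans h1, h2, rfl⟩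

theorem ind_one (σ ρ : G → ℂ) :
    cfInd Q H (cfProd S P σ ρ) 1 = Nat.card (Dg H t) * (σ 1 * ρ 1) := by
  rw [cfInd_one C.le, C.relIndex_Q, cfProd_one C.dprod.compl.2.2.1]

theorem ind_ker {σ ρ : G → ℂ} (hσ : IsIrr S σ) (hρ : IsIrr P ρ) {M : Subgroup G} (hM : M ≤ S)
    (hn : H ≤ normalizer (M : Set G)) :
    M ≤ cfker H (cfInd Q H (cfProd S P σ ρ)) ↔ M ≤ cfker S σ := by
  rw [sub_cfker_Ind_irr C.le hn (C.dprod.isIrr hσ hρ), C.kerS hσ hρ hM]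

theorem sum_X {M : Subgroup G} (hM : M ≤ S) (hn : H ≤ normalizer (M : Set G)) :
    ∑ φ ∈ X H Q Z M, (φ 1).re ^ 2 =
      Nat.card (Dg H t) * M.relIndex S * Z.relIndex P * (Nat.card Z - 1 : ℝ) := by
  have h1 := sum_seqIndD_square C.le C.le_normalizer (sup_le C.ZQ (hM.trans C.SQ))
    (le_sup_right : M ≤ Z ⊔ M) (FT.le_normalizer_sup C.nZ hn) hn
  have hd : DProdIn M Z (Z ⊔ M) := dprodIn_of_sup (sup_comm _ _)
    (le_bot_iff.1 ((inf_le_inf hM C.ZP).trans C.dprod.compl.2.2.1.le))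
    fun a ha b hb => C.dprod.comm a (hM ha) b (C.ZP hb)
  have h2 : (Z ⊔ M).relIndex H = Nat.card (Dg H t) * M.relIndex S * Z.relIndex P := by
    have a1 := card_eq_relIndex_mul ((sup_le C.ZQ (hM.trans C.SQ)).trans C.le)
    rw [IsComplIn_card hd.compl, C.card_H, IsComplIn_card C.dprod.compl, card_eq_relIndex_mul hM,
      card_eq_relIndex_mul C.ZP] at a1
    apply Nat.eq_of_mul_eq_mul_right (Nat.mul_pos (Nat.card_pos (α := M)) (Nat.card_pos (α := Z)))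
    rw [← a1]; ring
  rw [IsComplIn_relIndex hd.compl, h2] at h1
  push_cast at h1
  rw [← h1]
  refine Finset.sum_congr rfl fun φ h => ?_
  rw [(C.X_irr hM h).cfnorm, div_one]

theorem deg_P {ρ : G → ℂ} (hρ : IsIrr P ρ) :
    ∃ a : ℕ, ρ 1 = (p ^ a : ℕ) ∧ p ^ (2 * a) ∣ Z.relIndex P := by
  have : Fact p.Prime := ⟨C.prime⟩
  obtain ⟨n, hn⟩ := IsPGroup.iff_card.1 C.pP
  obtain ⟨m, -, hm⟩ := hρ.exists_nat_one
  obtain ⟨a, -, rfl⟩ := (Nat.dvd_prime_pow C.prime).1 (hn ▸ hρ.degree_dvd_card hm)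
  refine ⟨a, hm, ?_⟩
  have h1 := hρ.one_sq_le_index C.ZP (fun z hz y hy => by
    rw [← C.Zc z hz y hy, mul_inv_cancel_right, mul_inv_cancel]; exact one_mem _)
  obtain ⟨j, -, hj⟩ := (Nat.dvd_prime_pow C.prime).1
    (hn ▸ (relIndex_dvd_card Z P : Z.relIndex P ∣ Nat.card P))
  rw [hm, Complex.natCast_re, hj] at h1
  have h2 : (p ^ a) ^ 2 ≤ p ^ j := by exact_mod_cast h1
  rw [← pow_mul, mul_comm, Nat.pow_le_pow_iff_right C.prime.one_lt] at h2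
  rw [hj]; exact pow_dvd_pow p h2

theorem S_nil : Group.IsNilpotent S := isNilpotent_of_le (C.Q_nilpotent C.rank2) C.SQ

theorem comm_lt {M : Subgroup G} (hM : M ≤ S) (hn : H ≤ normalizer (M : Set G)) (h0 : M ≠ ⊥) :
    ⁅M, S⁆ < M := by
  refine lt_of_le_of_ne (Cop.commutator_le_left_of_le_normalizer ((C.SQ.trans C.le).trans hn))
    fun h => h0 (eq_bot_of_le_commutator_of_isNilpotent C.S_nil hM h.ge)

theorem Q0_ne_bot : Q0g Q ≠ ⊥ := by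
  obtain ⟨s, r, hs⟩ := C.exists_dist
  exact fun h => hs.s_ne (mem_bot.1 (h ▸ mem_Q0g_of hs.s_mem hs.ss))

theorem coherent : ∃ φ₁ ψ : G → ℂ, φ₁ ∈ X H Q Z S ∧ S ≤ cfker H φ₁ ∧ IsDirr ⊤ ψ ∧
    (∀ φ ∈ X H Q Z ⊥, ∃ n : ℕ, φ 1 = n * φ₁ 1) ∧
    ∀ φ ∈ X H Q Z ⊥, φ ≠ φ₁ → CohAt H φ₁ ψ φ := by
  classical
  have hex : ∃ a : ℕ, ∃ ρ, IsIrr P ρ ∧ ¬ Z ≤ cfker P ρ ∧ ρ 1 = (p ^ a : ℕ) := by
    obtain ⟨⟨z, hz⟩, hz1⟩ := (Subgroup.ne_bot_iff_exists_ne_one).1 C.Zne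
    obtain ⟨ρ, hρ, -, h⟩ := exists_irr_ker_not_mem (L := P) (N := ⊥) bot_le le_normalizer_bot
      (C.ZP hz) (fun h => hz1 (Subtype.ext (mem_bot.1 h)))
    obtain ⟨a, ha, -⟩ := C.deg_P hρ
    exact ⟨a, ρ, hρ, fun h' => h (h' hz), ha⟩
  set a₀ := Nat.find hex with ha₀
  obtain ⟨ρ₀, hρ₀, hk₀, hd₀⟩ := Nat.find_spec hex
  rw [← ha₀] at hd₀
  have hmin : ∀ ρ, IsIrr P ρ → ¬ Z ≤ cfker P ρ →
      ∃ a : ℕ, ρ 1 = (p ^ a : ℕ) ∧ p ^ (2 * a) ∣ Z.relIndex P ∧ a₀ ≤ a := fun ρ hρ hk => by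
    obtain ⟨a, ha, h⟩ := C.deg_P hρ
    exact ⟨a, ha, h, Nat.find_min' hex ⟨ρ, hρ, hk, ha⟩⟩
  set d := Nat.card (Dg H t) with hd
  have hd0 : 0 < d := Nat.card_pos
  set φ₁ := cfInd Q H (cfProd S P (cf1 S) ρ₀) with hφ₁
  have hφ₁1 : φ₁ 1 = (d * p ^ a₀ : ℕ) := by
    rw [hφ₁, C.ind_one, cf1_one, hd₀]; push_cast; ring
  have hX1 : φ₁ ∈ X H Q Z S :=
    (C.mem_X le_rfl).2 ⟨_, _, isIrr_cf1 S, hρ₀, cfker_cf1.ge, hk₀, rfl⟩
  have hk1 : S ≤ cfker H φ₁ := (C.ind_ker (isIrr_cf1 S) hρ₀ le_rfl C.nS).2 cfker_cf1.ge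
  have hint : ∀ φ ∈ X H Q Z ⊥, ∃ n : ℕ, φ 1 = n * φ₁ 1 := by
    intro φ h
    obtain ⟨σ, ρ, hσ, hρ, -, h2, rfl⟩ := (C.mem_X bot_le).1 h
    obtain ⟨a, ha, -, hle⟩ := hmin ρ hρ h2
    obtain ⟨c, -, hc⟩ := hσ.exists_nat_one
    obtain ⟨j, rfl⟩ := Nat.exists_eq_add_of_le hle
    exact ⟨c * p ^ j, by rw [C.ind_one, hφ₁1, ha, hc]; push_cast; ring⟩
  have hS2 : ⁅S, S⁆ ≤ S := Cop.commutator_le_left_of_le_normalizer le_normalizer
  have hn2 : H ≤ normalizer ((⁅S, S⁆ : Subgroup G) : Set G) := Cop.le_normalizer_commutator C.nS C.nS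
  have hSne : S ≠ ⊥ := fun h => C.Q0_ne_bot (le_bot_iff.1 (h ▸ C.Q0_le))
  have hint' : ∀ {M}, M ≤ S → ∀ φ ∈ X H Q Z M, ∃ n : ℕ, φ 1 = n * φ₁ 1 := fun hM φ h =>
    hint φ (C.X_mono hM bot_le h)
  have he : ∀ φ ∈ X H Q Z ⁅S, S⁆,
      ∃ a : ℕ, φ 1 = (d * p ^ a : ℕ) ∧ p ^ (2 * a) ∣ Z.relIndex P ∧ a₀ ≤ a := by
    intro φ h
    obtain ⟨σ, ρ, hσ, hρ, h1, h2, rfl⟩ := (C.mem_X hS2).1 h
    obtain ⟨a, ha, h3, hle⟩ := hmin ρ hρ h2
    refine ⟨a, ?_, h3, hle⟩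
    rw [C.ind_one, (hσ.isLin_of_commutator_le h1).one, ha]; push_cast; ring
  choose! e he1 he2 he3 using he
  have hX1' : φ₁ ∈ X H Q Z ⁅S, S⁆ := C.X_mono le_rfl hS2 hX1
  have he_of : ∀ φ ∈ X H Q Z ⁅S, S⁆, φ 1 = φ₁ 1 → e φ = a₀ := by
    intro φ h h1
    rw [he1 φ h, hφ₁1] at h1
    have h2 : d * p ^ e φ = d * p ^ a₀ := by exact_mod_cast h1
    exact Nat.pow_right_injective C.prime.two_le (Nat.eq_of_mul_eq_mul_left hd0 h2)
  have hTI := C.normedTI_Q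
  -- base
  obtain ⟨ψ, hψ, hbase⟩ := exists_cohAt (φ₁ := φ₁) hTI
    (A := (X H Q Z ⁅S, S⁆).filter fun φ => e φ = a₀)
    (fun φ h => C.X_irr hS2 (Finset.mem_filter.1 h).1) (fun φ h => C.X_on (Finset.mem_filter.1 h).1)
    (fun φ h => by rw [he1 φ (Finset.mem_filter.1 h).1, (Finset.mem_filter.1 h).2, hφ₁1])
    (Finset.mem_filter.2 ⟨hX1', he_of _ hX1' rfl⟩) (by
      obtain ⟨σ, hσ, hσ1, hσk⟩ := exists_lin_ne_one (C.comm_lt le_rfl C.nS hSne) le_rfl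
      have h1 : cfInd Q H (cfProd S P σ ρ₀) ∈ X H Q Z ⁅S, S⁆ :=
        (C.mem_X hS2).2 ⟨_, _, hσ.isIrr, hρ₀, hσk, hk₀, rfl⟩
      refine Finset.one_lt_card.2 ⟨φ₁, Finset.mem_filter.2 ⟨hX1', he_of _ hX1' rfl⟩, _,
        Finset.mem_filter.2 ⟨h1, he_of _ h1 ?_⟩, fun h => hσ1 ?_⟩
      · rw [hφ₁, C.ind_one, C.ind_one, hσ.one, cf1_one]
      · exact hσ.isIrr.eq_cf1_iff.2 ((C.ind_ker hσ.isIrr hρ₀ le_rfl C.nS).1 (h ▸ hk1)))
  have hp3 : 3 ≤ p := by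
    have := C.prime.two_le
    have := C.p_ne
    omega
  -- stage 1
  have stage1 : ∀ n, ∀ φ ∈ X H Q Z ⁅S, S⁆, e φ = n → φ ≠ φ₁ → CohAt H φ₁ ψ φ := by
    intro n
    induction n using Nat.strong_induction_on with
    | _ n ih =>
    intro φ' h' hn hne
    rcases (he3 φ' h').eq_or_lt with h0 | h0
    · exact hbase φ' (Finset.mem_filter.2 ⟨h', h0.symm⟩) hne
    rw [hn] at h0
    have hA1 : φ₁ ∈ (X H Q Z ⁅S, S⁆).filter fun φ => e φ < n :=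
      Finset.mem_filter.2 ⟨hX1', by rw [he_of _ hX1' rfl]; exact h0⟩
    refine cohAt_step hTI (A := (X H Q Z ⁅S, S⁆).filter fun φ => e φ < n)
      (fun φ h => C.X_irr hS2 (Finset.mem_filter.1 h).1)
      (fun φ h => C.X_on (Finset.mem_filter.1 h).1)
      (fun φ h => hint' hS2 φ (Finset.mem_filter.1 h).1) hA1 hψ
      (fun φ h => ih _ (Finset.mem_filter.1 h).2 φ (Finset.mem_filter.1 h).1 rfl)
      (C.X_irr hS2 h') (C.X_on h') (fun h => by simp [hn] at h) (hint' hS2 _ h') ?_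
    have hsum : ∀ A ⊆ X H Q Z ⁅S, S⁆,
        ∑ φ ∈ A, (φ 1).re ^ 2 = ((d ^ 2 * ∑ φ ∈ A, p ^ (2 * e φ) : ℕ) : ℝ) := by
      intro A hA
      push_cast
      rw [Finset.mul_sum]
      refine Finset.sum_congr rfl fun φ h => ?_
      rw [he1 φ (hA h), Complex.natCast_re]; push_cast; ring
    have h1 := C.sum_X hS2 hn2
    rw [hsum _ subset_rfl, ← Nat.cast_one, ← Nat.cast_sub Nat.card_pos] at h1
    have h2 : d ^ 2 * ∑ φ ∈ X H Q Z ⁅S, S⁆, p ^ (2 * e φ) =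
        d * ⁅S, S⁆.relIndex S * Z.relIndex P * (Nat.card Z - 1) := by exact_mod_cast h1
    have h3 : p ^ (2 * n) ∣ ∑ φ ∈ X H Q Z ⁅S, S⁆, p ^ (2 * e φ) := by
      refine (((C.card_D_le.2.symm.pow_left (2 * n)).pow_right 2)).dvd_of_dvd_mul_left ?_
      rw [h2, ← hn]
      exact ((he2 φ' h').mul_left _).mul_right _
    rw [← Finset.sum_filter_add_sum_filter_not _ (fun φ => e φ < n)] at h3
    have h4 : p ^ (2 * n) ∣ ∑ φ ∈ (X H Q Z ⁅S, S⁆).filter (fun φ => e φ < n), p ^ (2 * e φ) := by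
      refine (Nat.dvd_add_left (Finset.dvd_sum fun φ h => pow_dvd_pow p ?_)).1 h3
      have := (Finset.mem_filter.1 h).2
      omega
    have h5 := Nat.le_of_dvd (Finset.sum_pos (fun φ _ => pow_pos C.prime.pos _) ⟨_, hA1⟩) h4
    rw [hsum _ (Finset.filter_subset _ _), he1 φ' h', hn, hφ₁1, Complex.natCast_re,
      Complex.natCast_re]
    obtain ⟨j, rfl⟩ := Nat.exists_eq_add_of_lt h0
    have h6 : 3 * p ^ a₀ ≤ p ^ (a₀ + j + 1) := by
      rw [pow_succ, mul_comm]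
      exact Nat.mul_le_mul (Nat.pow_le_pow_right C.prime.pos (by omega)) hp3
    have h7 : 0 < p ^ a₀ := pow_pos C.prime.pos _
    rw [mul_comm 2, pow_mul] at h5
    generalize p ^ (a₀ + j + 1) = u at *
    generalize p ^ a₀ = v at *
    have h8 : 2 * (d * u) * (d * v) + (d * v) ^ 2 < d ^ 2 * u ^ 2 := by
      have : 2 * u * v + v ^ 2 < u ^ 2 := by nlinarith
      have h9 : 0 < d ^ 2 := by positivity
      nlinarith
    exact_mod_cast h8.trans_le (Nat.mul_le_mul_left _ h5)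
  -- stage 2
  have stage2 : ∀ M : Subgroup G, M ≤ ⁅S, S⁆ → H ≤ normalizer (M : Set G) →
      (∀ φ ∈ X H Q Z M, φ ≠ φ₁ → CohAt H φ₁ ψ φ) →
      ∀ φ ∈ X H Q Z ⊥, φ ≠ φ₁ → CohAt H φ₁ ψ φ := by
    intro M
    induction M using WellFoundedLT.induction with
    | _ M ih =>
    intro hM hn hc
    by_cases h0 : M = ⊥
    · exact h0 ▸ hc
    have hMS := hM.trans hS2
    have hlt := C.comm_lt hMS hn h0
    refine ih _ hlt (hlt.le.trans hM) (Cop.le_normalizer_commutator hn C.nS) fun φ' h' hne => ?_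
    by_cases hX : φ' ∈ X H Q Z M
    · exact hc φ' hX hne
    refine cohAt_step hTI (A := X H Q Z M) (fun φ h => C.X_irr hMS h) (fun φ h => C.X_on h)
      (hint' hMS) (C.X_mono le_rfl hMS hX1) hψ hc (C.X_irr (hlt.le.trans hMS) h') (C.X_on h') hX
      (hint' (hlt.le.trans hMS) _ h') ?_
    obtain ⟨σ, ρ, hσ, hρ, h1, h2, rfl⟩ := (C.mem_X (hlt.le.trans hMS)).1 h'
    obtain ⟨a, ha, h3, hle⟩ := hmin ρ hρ h2
    obtain ⟨c, hc0, hc⟩ := hσ.exists_nat_one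
    have hc2 : 2 ≤ c := by
      by_contra h
      have : c = 1 := by omega
      subst this
      exact hX ((C.mem_X hMS).2 ⟨σ, ρ, hσ, hρ,
        hM.trans (hσ.isLin (by simpa using hc)).commutator_le_cfker, h2, rfl⟩)
    have h4 := hσ.one_sq_le_index hMS (fun z hz y hy => h1 (by
      rw [Subgroup.commutator_comm]; exact commutator_mem_commutator hy hz))
    rw [hc, Complex.natCast_re] at h4
    have h5 : ((p ^ a : ℕ) : ℝ) ^ 2 ≤ Z.relIndex P := by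
      have := Nat.le_of_dvd (Nat.pos_of_ne_zero (relIndex_ne_zero' Z P)) h3
      rw [mul_comm, pow_mul] at this
      exact_mod_cast this
    have h6 : (2 * d : ℝ) ≤ Nat.card Z - 1 := by
      have : ((2 * d + 1 : ℕ) : ℝ) ≤ Nat.card Z := by exact_mod_cast C.card_D_le.1
      push_cast at this; linarith
    have h7 : ((p ^ a₀ : ℕ) : ℝ) ≤ (p ^ a : ℕ) := by
      exact_mod_cast Nat.pow_le_pow_right C.prime.pos hle
    have h8 : (0 : ℝ) < (p ^ a₀ : ℕ) := by exact_mod_cast pow_pos C.prime.pos _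
    rw [C.sum_X hMS hn, C.ind_one, hφ₁1, hc, ha, ← Nat.cast_mul, ← Nat.cast_mul,
      Complex.natCast_re, Complex.natCast_re, Nat.cast_mul, Nat.cast_mul, Nat.cast_mul, ← hd]
    have hd' : (0 : ℝ) < d := by exact_mod_cast hd0
    have hc' : (2 : ℝ) ≤ c := by exact_mod_cast hc2
    generalize ((p ^ a : ℕ) : ℝ) = u at *
    generalize ((p ^ a₀ : ℕ) : ℝ) = v at *
    have h9 : (c : ℝ) ^ 2 * u ^ 2 ≤ M.relIndex S * Z.relIndex P :=
      mul_le_mul h4 h5 (by positivity) (by positivity)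
    have h10 : 2 * v ≤ c * u := by nlinarith
    calc 2 * (d * (c * u)) * (d * v) + (d * v) ^ 2 = d * ((2 * (c * u) * v + v ^ 2) * d) := by ring
      _ < d * ((c ^ 2 * u ^ 2) * (2 * d)) := by
          refine mul_lt_mul_of_pos_left ?_ hd'
          have : 2 * (c * u) * v + v ^ 2 < c ^ 2 * u ^ 2 * 2 := by nlinarith
          nlinarith
      _ ≤ d * ((M.relIndex S * Z.relIndex P) * (Nat.card Z - 1)) := by
          refine mul_le_mul_of_nonneg_left ?_ hd'.le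
          exact mul_le_mul h9 h6 (by positivity) (by positivity)
      _ = _ := by ring
  exact ⟨φ₁, ψ, hX1, hk1, hψ, hint,
    stage2 _ le_rfl hn2 fun φ h hne => stage1 _ φ h rfl hne⟩

set_option maxHeartbeats 800000 in
theorem false : False := by
  classical
  obtain ⟨φ₁, ψ, hX1, hk1, hψ, hint, hc⟩ := C.coherent
  obtain ⟨s, r, hs⟩ := C.exists_dist
  have hs0 : s ∈ Q0g Q := mem_Q0g_of hs.s_mem hs.ss
  have hX1' := C.X_mono le_rfl bot_le hX1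
  have h1irr := C.X_irr le_rfl hX1
  have h0 := h1irr.one_ne_zero
  have hle := sum_exc_le C.normedTI_Q (fun φ h => C.X_irr bot_le h) (fun φ h => C.X_on h) hint hX1'
    hψ hc
  have hn0 := C.le_normalizer_Q0 C.rank2
  have U0 := C.sum_X bot_le le_normalizer_bot
  have U1 := C.sum_X C.Q0_le hn0
  obtain ⟨n, hn2, hn⟩ := C.exists_card_Q0 C.rank2
  have hq4 : 4 ≤ Nat.card (Q0g Q) := by
    rw [hn]; exact Nat.pow_le_pow_right (n := 2) (by norm_num) hn2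
  have hdq : Nat.card (Q0g Q) ≤ Nat.card (Dg H t) + 1 := by
    rw [← C.card_Kg C.rank2]; exact Nat.succ_le_succ (card_le_of_le Kg_le_Dg)
  have hz := C.card_D_le.1
  have hS := card_eq_relIndex_mul C.Q0_le
  have hN : Nat.card Q =
      (Q0g Q).relIndex S * Nat.card (Q0g Q) * (Z.relIndex P * Nat.card Z) := by
    rw [IsComplIn_card C.dprod.compl, hS, card_eq_relIndex_mul C.ZP]
  rw [relIndex_bot_left, hS] at U0
  have hi1 : 0 < (Q0g Q).relIndex S := Nat.pos_of_ne_zero (relIndex_ne_zero' _ _)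
  have hi2 : 0 < Z.relIndex P := Nat.pos_of_ne_zero (relIndex_ne_zero' _ _)
  have hN15 : 15 ≤ Nat.card Q := by
    rw [hN]
    calc 15 ≤ 1 * 4 * (1 * 7) := by norm_num
      _ ≤ _ := Nat.mul_le_mul (Nat.mul_le_mul hi1 hq4) (Nat.mul_le_mul hi2 (by omega))
  obtain ⟨δ, hδ0, hδ⟩ := h1irr.exists_nat_one
  obtain ⟨m, hm⟩ := ZIrr_one_int hψ.mem_ZIrr
  obtain ⟨a, ha⟩ := ZIrr_int_of_pow_eq hψ.mem_ZIrr (x := s) (fun k hk => by
    have ho : orderOf s = 2 := orderOf_eq_prime (by rw [sq, hs.ss]) hs.s_ne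
    rw [ho, Nat.coprime_two_right] at hk
    obtain ⟨j, rfl⟩ := hk
    rw [pow_succ, pow_mul, sq, hs.ss, one_pow, one_mul])
  have hsub := C.X_mono C.Q0_le bot_le
  have hker : ∀ φ ∈ X H Q Z ⊥, φ ∈ X H Q Z (Q0g Q) ↔ Q0g Q ≤ cfker H φ := by
    intro φ h
    obtain ⟨σ, ρ, hσ, hρ, -, h2, rfl⟩ := (C.mem_X bot_le).1 h
    rw [C.ind_ker hσ hρ C.Q0_le hn0]
    refine ⟨fun h' => ?_, fun h' => (C.mem_X C.Q0_le).2 ⟨σ, ρ, hσ, hρ, h', h2, rfl⟩⟩
    obtain ⟨σ', ρ', hσ', hρ', h3, -, e⟩ := (C.mem_X C.Q0_le).1 h'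
    rw [← C.ind_ker hσ hρ C.Q0_le hn0, e, C.ind_ker hσ' hρ' C.Q0_le hn0]
    exact h3
  set q : ℝ := ((Nat.card (Q0g Q) : ℕ) : ℝ) with hq
  set z : ℝ := ((Nat.card Z : ℕ) : ℝ) with hzz
  set W : ℝ := ((Nat.card (Dg H t) : ℕ) : ℝ) * (Q0g Q).relIndex S * Z.relIndex P with hW
  have hq4' : 4 ≤ q := by rw [hq]; exact_mod_cast hq4
  have hz' : 2 * (q - 1) ≤ z - 1 := by
    have h1 : ((2 * Nat.card (Dg H t) + 1 : ℕ) : ℝ) ≤ z := by rw [hzz]; exact_mod_cast hz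
    have h2 : q ≤ ((Nat.card (Dg H t) + 1 : ℕ) : ℝ) := by rw [hq]; exact_mod_cast hdq
    push_cast at h1 h2; linarith
  have hW0 : 0 < W := by
    have : 0 < Nat.card (Dg H t) := Nat.card_pos
    positivity
  have hδ' : (0 : ℝ) < δ := by exact_mod_cast hδ0
  have hδc : (δ : ℂ) ≠ 0 := by exact_mod_cast hδ0.ne'
  have U0' : ∑ φ ∈ X H Q Z ⊥, (φ 1).re ^ 2 = q * (W * (z - 1)) := by
    rw [U0, hW, hq]; push_cast; ring
  have hNd : (Nat.card Q : ℝ) * Nat.card (Dg H t) = W * q * z := by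
    rw [hN, hW, hq, hzz]; push_cast; ring
  -- degrees
  have i1 := hle 1
  rw [Finset.sum_congr rfl (g := fun φ => (φ 1).re ^ 2 * ((m : ℝ) ^ 2 / δ ^ 2)), ← Finset.sum_mul,
    U0', centralizer_eq_top_iff_subset.2 (by simp), card_top, C.card_G] at i1
  swap
  · intro φ h
    rw [exc_one h0, hδ, hm, (C.X_irr bot_le h).isChar.one_eq_re, Complex.ofReal_re]
    simp [div_pow, mul_pow]
    ring
  -- values at `s`
  have i2 := hle s
  have hqc : (Nat.card (Q0g Q) : ℂ) - 1 ≠ 0 := by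
    rw [sub_ne_zero]; exact_mod_cast (by omega : Nat.card (Q0g Q) ≠ 1)
  rw [← Finset.sum_sdiff hsub,
    Finset.sum_congr rfl (s₁ := X H Q Z (Q0g Q)) (g := fun φ => (φ 1).re ^ 2 * ((a : ℝ) ^ 2 / δ ^ 2)),
    Finset.sum_congr rfl (s₁ := X H Q Z ⊥ \ X H Q Z (Q0g Q))
      (g := fun φ => (φ 1).re ^ 2 * ((a - δ - δ / (q - 1) : ℝ) ^ 2 / δ ^ 2)),
    ← Finset.sum_mul, ← Finset.sum_mul, Finset.sum_sdiff_eq_sub hsub, U0', U1] at i2
  rotate_left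
  · intro φ h
    obtain ⟨h1, h2⟩ := Finset.mem_sdiff.1 h
    have h3 := C.apply_s C.rank2 hs (C.X_irr bot_le h1) (fun h => h2 ((hker φ h1).2 h))
    have h4 : φ s = -φ 1 / (Nat.card (Q0g Q) - 1) := by field_simp; linear_combination h3
    rw [exc_apply C.normedTI_Q (C.X_on hX1) (C.X_on h1) h0 ⟨hs.s_mem, hs.s_ne⟩, h4,
      cfker_apply (hk1 (C.Q0_le hs0)), hδ, ha, (C.X_irr bot_le h1).isChar.one_eq_re,
      Complex.ofReal_re]
    have : -((φ 1).re : ℂ) / (Nat.card (Q0g Q) - 1) + (φ 1).re / δ * (a - δ) =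
        (((φ 1).re * (a - δ - δ / (q - 1)) / δ : ℝ) : ℂ) := by
      rw [hq]; push_cast; field_simp; ring
    rw [this, Complex.norm_real, Real.norm_eq_abs, sq_abs]; ring
  · intro φ h
    rw [exc_apply C.normedTI_Q (C.X_on hX1) (C.X_on h) h0 ⟨hs.s_mem, hs.s_ne⟩,
      cfker_apply ((hker φ (hsub h)).1 h hs0),
      cfker_apply (hk1 (C.Q0_le hs0)), hδ, ha, (C.X_irr C.Q0_le h).isChar.one_eq_re,
      Complex.ofReal_re]
    have : ((φ 1).re : ℂ) + (φ 1).re / δ * (a - δ) = (((φ 1).re * a / δ : ℝ) : ℂ) := by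
      push_cast; field_simp; ring
    rw [this, Complex.norm_real, Real.norm_eq_abs, sq_abs]; ring
  have hcs : (Nat.card (centralizer ({s} : Set G)) : ℝ) * (q - 1) = W * q * z := by
    rw [← hNd, hq, ← Nat.cast_one, ← Nat.cast_sub Nat.card_pos]
    exact_mod_cast C.card_cent_s C.rank2 hs
  -- the class formula
  obtain ⟨φ, hφ, hφ'⟩ : ∃ φ ∈ X H Q Z ⊥, φ ∉ X H Q Z (Q0g Q) := by
    by_contra h
    push Not at h
    rw [Finset.Subset.antisymm h hsub, U1] at U0'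
    have : 0 < W * (z - 1) := mul_pos hW0 (by linarith)
    nlinarith
  have i3 := C.class_eq C.rank2 hs h1irr (C.X_on hX1) (C.X_irr bot_le hφ) (C.X_on hφ) (hint φ hφ)
    hψ (hc φ hφ fun h => hφ' (h ▸ C.X_mono le_rfl C.Q0_le hX1)) (C.Q0_le.trans hk1)
    (fun h => hφ' ((hker φ hφ).2 h))
  rw [hm, ha, hδ] at i3
  have i3' : (q - 2) * m = (Nat.card Q + 1) * (2 * (q - 1) * a - q * δ) := by
    rw [hq]; exact_mod_cast i3
  have hq1 : 0 < q - 1 := by linarith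
  refine thmC_numerics (q := q) (z := z) (N := Nat.card Q) (δ := δ) (m := m)
    (u := (q - 1) * (a - δ)) hq4' (by linarith) (by exact_mod_cast hN15) hδ' ?_ ?_
    (by rw [i3']; ring)
  · push_cast at i1
    rw [hNd, ← mul_div_assoc, div_le_iff₀ (by positivity)] at i1
    have : (W * q) * ((z - 1) * m ^ 2) ≤ (W * q) * (δ ^ 2 * z * (Nat.card Q + 1)) := by nlinarith
    exact le_of_mul_le_mul_left this (by positivity)
  · have j1 := mul_le_mul_of_nonneg_right i2 (show 0 ≤ (q - 1) ^ 2 * δ ^ 2 by positivity)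
    have j2 : (W * q) * ((z - 1) * (((q - 1) * (a - δ)) ^ 2 + (q - 1) * δ ^ 2)) ≤
        (W * q) * ((q - 1) * δ ^ 2 * z) := by
      calc _ = ((q * (W * (z - 1)) - W * (z - 1)) * ((a - δ - δ / (q - 1)) ^ 2 / δ ^ 2) +
            W * (z - 1) * ((a : ℝ) ^ 2 / δ ^ 2)) * ((q - 1) ^ 2 * δ ^ 2) := by
            field_simp; ring
        _ ≤ _ := j1
        _ = (Nat.card (centralizer ({s} : Set G)) : ℝ) * (q - 1) * ((q - 1) * δ ^ 2) := by ring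
        _ = _ := by rw [hcs]; ring
    have j3 := le_of_mul_le_mul_left j2 (by positivity)
    have j4 : (q - 1) * (2 * ((q - 1) * (a - δ)) ^ 2) ≤ (q - 1) * δ ^ 2 := by
      nlinarith [sq_nonneg ((q - 1) * (a - δ))]
    exact le_of_mul_le_mul_left j4 hq1

end CHyp

/-- **Theorem C**: if `D` acts fixed-point-freely on the elements of odd order of `Q` then `Q` is a
2-group. -/
theorem RO.isPGroup_of_fpf {G : Type*} [Group G] [Finite G] {H Q : Subgroup G} {t : G}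
    (R : RO H Q t) (h2 : Rank2 Q)
    (h : ∀ d ∈ Dg H t, d ≠ 1 → ∀ y ∈ Q, Odd (orderOf y) → d * y = y * d → y = 1) :
    IsPGroup 2 Q := by
  have := Fintype.ofFinite G
  by_contra hQ
  have hnil := R.Q_nilpotent h2
  obtain ⟨p, hp, hp2, hpQ⟩ : ∃ p : ℕ, p.Prime ∧ p ≠ 2 ∧ p ∣ Nat.card Q := by
    by_contra hc
    push Not at hc
    have : Fact (Nat.Prime 2) := ⟨Nat.prime_two⟩
    exact hQ (IsPGroup.of_card (Nat.eq_prime_pow_of_unique_prime_dvd Nat.card_pos.ne'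
      fun {d} hd hdv => by by_contra h; exact hc d hd h hdv))
  have : Fact p.Prime := ⟨hp⟩
  set P := piCoreOf {p} Q
  set S := piCoreOf {p}ᶜ Q
  have hPp : IsPGroup p P := isPGroup_iff_isPiSubgroup.2 (piCoreOf_isPi _ _)
  have hcop : (Nat.card S).Coprime (Nat.card P) :=
    coprime_card_of_isPiSubgroup disjoint_compl_left (piCoreOf_isPi _ _) (piCoreOf_isPi _ _)
  have hnP : H ≤ normalizer (P : Set G) := R.le_normalizer.trans (norm_le_norm_piCoreOf _ _)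
  have hPne : P ≠ ⊥ := by
    intro h0
    have h1 := piCoreOf_sup_of_nil {p} hnil
    change P ⊔ S = Q at h1
    rw [h0, bot_sup_eq] at h1
    exact piCoreOf_isPi {p}ᶜ Q p hp (by change p ∣ Nat.card S; rw [h1]; exact hpQ) rfl
  have hodd : Odd (Nat.card P) := by
    obtain ⟨n, hn⟩ := IsPGroup.iff_card.1 hPp
    rw [hn]; exact (hp.odd_of_ne_two hp2).pow
  refine CHyp.false (H := H) (Q := Q) (t := t) (S := S) (P := P) (Z := P ⊓ centralizer (P : Set G))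
    (p := p) ⟨R, h2, dprodIn_of_sup (by rw [sup_comm]; exact piCoreOf_sup_of_nil _ hnil)
      (disjoint_of_coprime_natCard hcop).eq_bot fun a ha b hb => ?_, hp, hp2, hPp,
      R.le_normalizer.trans (norm_le_norm_piCoreOf _ _),
      Cop.le_normalizer_inf_centralizer hnP hnP, inf_le_left,
      inf_centralizer_ne_bot_of_isNilpotent hPp.isNilpotent le_rfl Subgroup.le_normalizer hPne,
      fun z hz x hx => (mem_centralizer_iff.1 hz.2 x hx).symm, fun d hd h1 z hz hc => ?_⟩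
  · exact (mem_centralizer_iff.1
      (le_cent_of_nil hnil (piCoreOf_le _ _) (piCoreOf_le _ _) hcop ha) b hb).symm
  · exact h d hd h1 z (piCoreOf_le _ _ hz.1) (hodd.of_dvd_nat (P.orderOf_dvd_natCard hz.1)) hc

end CfsgLib.Suz
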