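import Mathlib
import Cfsg.Agent.Lib.Suz.ThmC
import Cfsg.Agent.Lib.Suz.SL2Id

/-! Project D: Zassenhaus groups of odd degree: `Q` is a 2-group; if `Q` is abelian it is
elementary abelian. -/

set_option autoImplicit false

namespace CfsgLib.Suz
open Subgroup CfsgLib.FT Cfsg
open scoped ComplexConjugate commutatorElement

variable {G : Type*} [Group G] {H Q : Subgroup G} {t : G}

theorem ZT.isPGroup [Finite G] (Z : ZT H Q t) : IsPGroup 2 Q :=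
  Z.isPGroup_of_fpf Z.rank2 fun _ hd h1 _ hy _ h => Z.fpf hd h1 hy h

theorem RO.relIndex_Q [Finite G] (R : RO H Q t) : Q.relIndex H = Nat.card (Dg H t) := by
  have := Fintype.ofFinite G
  have h1 := card_eq_relIndex_mul R.le
  rw [R.card_H, mul_comm] at h1
  exact (Nat.eq_of_mul_eq_mul_right Nat.card_pos h1).symm

theorem ZT.frobKer [Fintype G] (Z : ZT H Q t) : FrobKer H Q := by
  refine frobKer_of_cent (lt_of_le_of_ne Z.le fun h => Z.ne ?_) Z.le_normalizer Z.Q_ne_bot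
    fun k hk h1 g hg => Z.mem_Q_of_comm hk h1 (mem_centralizer_singleton_iff.1 hg.2).symm
  exact (eq_bot_iff_forall _).2 fun d hd => Z.eq_one_of_mem_D (h ▸ Dg_le hd) hd

theorem ZT.sq_eq_one_of_comm [Finite G] (Z : ZT H Q t) (hc : ∀ x ∈ Q, ∀ y ∈ Q, x * y = y * x) :
    ∀ x ∈ Q, x * x = 1 := by
  classical
  have := Fintype.ofFinite G
  by_contra hne
  have hlt : Q0g Q < Q := lt_of_le_of_ne Q0g_le fun h =>
    hne fun x hx => ((Z.mem_Q0 Z.rank2).1 (h.ge hx)).2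
  have hF := Z.frobKer
  have hn0 := Z.le_normalizer_Q0 Z.rank2
  obtain ⟨s, r, hs⟩ := Z.exists_dist
  have hs0 : s ∈ Q0g Q := mem_Q0g_of hs.s_mem hs.ss
  set A := seqIndD Q H Q ⊥ with hA
  have hmem : ∀ θ, IsIrr Q θ → θ ≠ cf1 Q → cfInd Q H θ ∈ A := fun θ h h1 =>
    seqIndC1P.2 ⟨θ, h, h1, rfl⟩
  have hirr : ∀ φ ∈ A, IsIrr H φ := fun φ h => by
    obtain ⟨θ, h1, h2, rfl⟩ := seqIndC1P.1 h
    exact hF.cfInd_irr h1 h2
  have hon : ∀ φ ∈ A, φ ∈ CFon H (Q : Set G) := fun φ h => seqInd_on Z.le_normalizer h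
  have hdeg : ∀ φ ∈ A, φ 1 = Nat.card (Dg H t) := fun φ h => by
    obtain ⟨θ, h1, h2, rfl⟩ := seqIndC1P.1 h
    rw [cfInd_one Z.le, (h1.isLin_of_comm hc).one, mul_one, Z.relIndex_Q]
  have hcomm : ⁅Q, Q⁆ = ⊥ := commutator_eq_bot_of_comm hc
  obtain ⟨θ₁, hθ₁, hθ₁1, hθ₁k⟩ := exists_lin_ne_one hlt (hcomm.le.trans bot_le)
  obtain ⟨θ, hθ, -, hθk⟩ := exists_irr_ker_not_mem (L := Q) (N := ⊥) bot_le le_normalizer_bot
    hs.s_mem (fun h => hs.s_ne (mem_bot.1 h))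
  have hθ1 : θ ≠ cf1 Q := fun h => hθk (by rw [h, cfker_cf1]; exact hs.s_mem)
  have hk1 : Q0g Q ≤ cfker H (cfInd Q H θ₁) := (sub_cfker_Ind_irr Z.le hn0 hθ₁.isIrr).2 hθ₁k
  have hk : ¬ Q0g Q ≤ cfker H (cfInd Q H θ) := fun h =>
    hθk ((sub_cfker_Ind_irr Z.le hn0 hθ).1 h hs0)
  have h1 := hmem _ hθ₁.isIrr hθ₁1
  have h1' := hmem _ hθ hθ1
  have hne' : cfInd Q H θ ≠ cfInd Q H θ₁ := fun h => hk (h ▸ hk1)
  have hdeg' : ∀ φ ∈ A, φ 1 = cfInd Q H θ₁ 1 := fun φ h => by rw [hdeg φ h, hdeg _ h1]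
  obtain ⟨ψ, hψ, hcoh⟩ := exists_cohAt Z.normedTI_Q hirr hon hdeg' h1
    (Finset.one_lt_card.2 ⟨_, h1', _, h1, hne'⟩)
  have hint : ∀ φ ∈ A, ∃ n : ℕ, φ 1 = n * cfInd Q H θ₁ 1 := fun φ h =>
    ⟨1, by rw [hdeg' φ h]; simp⟩
  have i1 := sum_exc_le Z.normedTI_Q hirr hon hint h1 hψ hcoh 1
  have i3 := Z.class_eq Z.rank2 hs (hirr _ h1) (hon _ h1) (hirr _ h1') (hon _ h1') (hint _ h1') hψ
    (hcoh _ h1' hne') hk1 hk
  obtain ⟨m, hm⟩ := ZIrr_one_int hψ.mem_ZIrr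
  obtain ⟨a, ha⟩ := ZIrr_int_of_pow_eq hψ.mem_ZIrr (x := s) (fun k hk => by
    have ho : orderOf s = 2 := orderOf_eq_prime (by rw [sq, hs.ss]) hs.s_ne
    rw [ho, Nat.coprime_two_right] at hk
    obtain ⟨j, rfl⟩ := hk
    rw [pow_succ, pow_mul, sq, hs.ss, one_pow, one_mul])
  have hm0 : m ≠ 0 := by rintro rfl; exact hψ.one_ne_zero (by simpa using hm)
  rw [Finset.sum_congr rfl (g := fun _ => (m : ℝ) ^ 2), Finset.sum_const, nsmul_eq_mul,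
    centralizer_eq_top_iff_subset.2 (by simp), card_top, Z.card_G] at i1
  swap
  · intro φ h
    rw [exc_one (hirr _ h1).one_ne_zero, hdeg' φ h, div_self (hirr _ h1).one_ne_zero, hm]
    simp
  have i2 := sum_seqIndC1_square Z.le Z.le_normalizer
  rw [← hA, Finset.sum_congr rfl (g := fun _ => (Nat.card (Dg H t) : ℝ) ^ 2), Finset.sum_const,
    nsmul_eq_mul, Z.relIndex_Q] at i2
  swap
  · intro φ h
    rw [(hirr φ h).cfnorm, hdeg φ h]; simp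
  have hD := Z.card_D
  obtain ⟨n, hn2, hn⟩ := Z.exists_card_Q0 Z.rank2
  have hq4 : 4 ≤ Nat.card (Q0g Q) := by
    rw [hn]; exact Nat.pow_le_pow_right (n := 2) (by norm_num) hn2
  have hidx : Nat.card (Dg H t) + 1 ≤ (Q0g Q).relIndex Q := by
    have h2 := (hF.frobQuo hlt hn0).index_dvd Q0g_le le_rfl Z.le_normalizer
    rw [Z.relIndex_Q] at h2
    have h3 : (Q0g Q).relIndex Q ≠ 1 := fun h => hlt.not_ge (relIndex_eq_one.1 h)
    have h4 := relIndex_ne_zero' (Q0g Q) Q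
    have := Nat.le_of_dvd (by omega) h2
    omega
  have hN := card_eq_relIndex_mul (Q0g_le (Q := Q))
  rw [hm, ha, hdeg _ h1, ← hD] at i3
  obtain ⟨b, hb⟩ : Even (Nat.card (Dg H t) + 1) := by
    rw [hD, hn]; exact (Nat.even_pow' (by omega)).2 even_two
  rw [← hD] at hN hq4
  generalize Nat.card (Dg H t) = d at *
  generalize Nat.card Q = N at *
  have i3' : ((d : ℤ) - 1) * m = (N + 1) * (d * (2 * (a - b))) := by
    have hb' : (d : ℂ) + 1 = b + b := by exact_mod_cast hb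
    have : ((d : ℂ) - 1) * m = (N + 1) * (d * (2 * (a - b))) := by
      push_cast at i3
      linear_combination i3 - (N + 1) * d * hb'
    exact_mod_cast this
  have i1' : (A.card : ℤ) * m ^ 2 ≤ N * d * (N + 1) := by exact_mod_cast i1
  have i2' : (A.card : ℤ) * d ^ 2 = d * (N - 1) := by exact_mod_cast i2
  have hd3 : (3 : ℤ) ≤ d := by omega
  have hN' : ((d : ℤ) + 1) * (d + 1) ≤ N := by
    rw [hN]; exact_mod_cast Nat.mul_le_mul_right _ hidx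
  have hT : (d : ℤ) + 1 ≤ A.card := by
    by_contra h
    push Not at h
    nlinarith
  have hab : a - b ≠ 0 := by
    intro h
    rw [h] at i3'
    simp only [mul_zero, mul_eq_zero] at i3'
    omega
  have h5 : 1 ≤ (a - b) ^ 2 := by
    have := sq_pos_of_ne_zero hab
    omega
  have h6 : (((d : ℤ) - 1) * m) ^ 2 ≥ (N + 1) ^ 2 * (2 * d) ^ 2 := by
    rw [i3']
    calc ((N + 1 : ℤ) * (d * (2 * (a - b)))) ^ 2 = (N + 1) ^ 2 * (2 * d) ^ 2 * (a - b) ^ 2 := by ring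
      _ ≥ _ := le_mul_of_one_le_right (by positivity) h5
  have h7 : ((d : ℤ) + 1) * m ^ 2 ≤ N * d * (N + 1) :=
    (mul_le_mul_of_nonneg_right hT (sq_nonneg _)).trans i1'
  have h8 : ((d : ℤ) + 1) * ((N + 1) ^ 2 * (2 * d) ^ 2) ≤ (d - 1) ^ 2 * (N * d * (N + 1)) := by
    calc _ ≤ ((d : ℤ) + 1) * ((d - 1) * m) ^ 2 := mul_le_mul_of_nonneg_left h6 (by omega)
      _ = (d - 1) ^ 2 * ((d + 1) * m ^ 2) := by ring
      _ ≤ _ := mul_le_mul_of_nonneg_left h7 (sq_nonneg _)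
  have h9 : (0 : ℤ) < (N + 1) * d := by positivity
  have h10 : ((N + 1) * d : ℤ) * ((d + 1) * (N + 1) * (4 * d)) ≤ ((N + 1) * d) * ((d - 1) ^ 2 * N) := by
    linarith
  have h11 := le_of_mul_le_mul_left h10 h9
  have h12 : (0 : ℤ) ≤ N := by positivity
  nlinarith [mul_nonneg h12 (sq_nonneg (d : ℤ)), mul_nonneg h12 (show (0 : ℤ) ≤ d by omega)]

open scoped MatrixGroups in
/-- Zassenhaus groups of odd degree with abelian `Q` -/
theorem RO.ZT_abelian [Finite G] (R : RO H Q t) (hD : ∀ d ∈ Dg H t, t * d * t = d⁻¹)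
    (hD1 : Dg H t ≠ ⊥) (hc : ∀ x ∈ Q, ∀ y ∈ Q, x * y = y * x) :
    ∃ n : ℕ, 2 ≤ n ∧ (∀ x ∈ Q, x * x = 1) ∧ Nat.card Q = 2 ^ n ∧ Nat.card (Dg H t) + 1 = 2 ^ n ∧
      (∀ s r, Dist Q t s r → r = s) ∧
      Nonempty (G ≃* SL(2, GaloisField 2 n)) ∧
      Nonempty (G ≃* Matrix.ProjectiveSpecialLinearGroup (Fin 2) (GaloisField 2 n)) := by
  have Z : ZT H Q t := ⟨R, hD, hD1⟩
  have h := Z.sq_eq_one_of_comm hc
  obtain ⟨n, h1, h2, h3, h4, h5⟩ := Z.sl2 h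
  exact ⟨n, h1, h, h2, h3, fun s r hs => R.r_eq_s hs (h r hs.r_mem), h4, h5⟩

end CfsgLib.Suz
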