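import Mathlib
import Cfsg.Agent.Lib.Suz.ZTAb

/-! Project D: centralizers of strongly real elements in Zassenhaus groups, and the class formula
`|A| (N - 1) = (N + 1)(q - 1)`. -/

set_option autoImplicit false

namespace CfsgLib.Suz
open Subgroup CfsgLib.FT Cfsg
open scoped ComplexConjugate commutatorElement

variable {G : Type*} [Group G] {H Q : Subgroup G} {t : G}

theorem inv_of_fpf_invol {A : Subgroup G} (hodd : Odd (Nat.card A)) {y : G} (hy : y * y = 1)
    (hn : ∀ a ∈ A, y * a * y ∈ A) (hf : ∀ a ∈ A, y * a = a * y → a = 1) :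
    ∀ a ∈ A, y * a * y = a⁻¹ := by
  intro a ha
  have yy : ∀ g, y * (y * g) = g := fun g => by rw [← mul_assoc, hy, one_mul]
  set c := a⁻¹ * (y * a * y) with hc
  have hcA : c ∈ A := mul_mem (inv_mem ha) (hn a ha)
  have h1 : y * c * y = c⁻¹ := by
    rw [hc]; simp only [mul_inv_rev, inv_eq_of_mul_self hy, mul_assoc, yy, hy, mul_one, inv_inv]
  obtain ⟨j, hj⟩ := exists_sq_eq_of_odd hodd (pow_card_of_mem hcA)
  have h2 := conj_pow_of_inv hy h1 j
  have h3 := hf (a * c ^ j) (mul_mem ha (pow_mem hcA j)) (by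
    calc y * (a * c ^ j) = a * (a⁻¹ * (y * a * y)) * (y * c ^ j * y) * y := by
          simp only [mul_assoc, yy, hy, mul_one, mul_inv_cancel_left]
      _ = a * c ^ j * y := by rw [← hc, h2]; nth_rewrite 1 [← hj]; group)
  have h4 : a = y * c ^ j * y := by rw [h2]; exact eq_inv_of_mul_eq_one_left h3
  rw [inv_eq_of_mul_eq_one_right h3]
  nth_rewrite 1 [h4]
  simp only [mul_assoc, yy, hy, mul_one]

/-- `u ∈ Q` is an involution inverting `x`, `x² ≠ 1` -/
structure SReal (Q : Subgroup G) (u x : G) : Prop where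
  mem : u ∈ Q
  uu : u * u = 1
  inv : u * x * u = x⁻¹
  ne : x * x ≠ 1

theorem SReal.u_ne {u x : G} (h : SReal Q u x) : u ≠ 1 := by
  rintro rfl
  exact h.ne (mul_eq_one_iff_eq_inv.2 (by simpa using h.inv))

theorem mem_cent {x a : G} : a ∈ centralizer ({x} : Set G) ↔ a * x = x * a :=
  mem_centralizer_singleton_iff

theorem mem_cent_of_inv {u v x : G} (hv : v * v = 1) (h1 : u * x * u = x⁻¹)
    (h2 : v * x * v = x⁻¹) (hu : u * u = 1) : v * u ∈ centralizer ({x} : Set G) := by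
  rw [mem_cent]
  have h3 : v * x⁻¹ * v = x := by
    rw [← h2]; simp only [← mul_assoc, hv, one_mul]; rw [mul_assoc, hv, mul_one]
  calc v * u * x = v * (u * x * u) * (v * v) * u := by
        rw [hv]; simp only [mul_assoc, hu, mul_one]
    _ = x * (v * u) := by rw [h1, ← mul_assoc, h3, mul_assoc]

theorem conj_mem_cent_of_inv {u x a : G} (hu : u * u = 1) (h : u * x * u = x⁻¹)
    (ha : a ∈ centralizer ({x} : Set G)) : u * a * u ∈ centralizer ({x} : Set G) := by
  rw [mem_cent] at ha ⊢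
  have h1 : a * x⁻¹ = x⁻¹ * a := by
    calc a * x⁻¹ = x⁻¹ * (x * a) * x⁻¹ := by group
      _ = x⁻¹ * a := by rw [← ha]; group
  have h2 : u * x = x⁻¹ * u := by rw [← h, mul_assoc, hu, mul_one]
  have h3 : x * u = u * x⁻¹ := by rw [← h, ← mul_assoc, ← mul_assoc, hu, one_mul]
  calc u * a * u * x = u * (a * x⁻¹) * u := by rw [mul_assoc, h2]; group
    _ = (u * x⁻¹) * a * u := by rw [h1]; group
    _ = x * (u * a * u) := by rw [← h3]; group

namespace ZT
variable [Finite G] (Z : ZT H Q t) {u x : G} (h : SReal Q u x)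
include Z h

theorem cent_odd : Odd (Nat.card (centralizer ({x} : Set G))) := by
  rw [← Nat.not_even_iff_odd]
  intro hev
  obtain ⟨z, hz, h1, h2⟩ := exists_invol_of_even hev
  exact h1 (Z.eq_one_of_comm_strongly_real Z.rank2 h.uu h.inv h.ne h2 (mem_cent.1 hz))

theorem cent_inf_Q {a : G} (ha : a ∈ centralizer ({x} : Set G)) (hQ : a ∈ Q) : a = 1 := by
  by_contra h1
  exact h.ne (Z.sq_eq_one_of_real Z.rank2 h.uu h.inv (Z.mem_Q_of_comm hQ h1 (mem_cent.1 ha)))

theorem cent_inv : ∀ a ∈ centralizer ({x} : Set G), u * a * u = a⁻¹ :=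
  inv_of_fpf_invol (Z.cent_odd h) h.uu (fun _ ha => conj_mem_cent_of_inv h.uu h.inv ha)
    fun _ ha hc => Z.cent_inf_Q h ha (Z.mem_Q_of_comm h.mem h.u_ne hc)

theorem cent_comm {a b : G} (ha : a ∈ centralizer ({x} : Set G))
    (hb : b ∈ centralizer ({x} : Set G)) : a * b = b * a := by
  have h1 := Z.cent_inv h _ (mul_mem ha hb)
  have h2 : u * (a * b) * u = (u * a * u) * (u * b * u) := by
    calc u * (a * b) * u = u * a * (u * u) * b * u := by rw [h.uu]; group
      _ = _ := by group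
  rw [h2, Z.cent_inv h a ha, Z.cent_inv h b hb, ← mul_inv_rev] at h1
  exact (inv_injective h1).symm

theorem sreal_of_mem {a : G} (ha : a ∈ centralizer ({x} : Set G)) (h1 : a ≠ 1) : SReal Q u a :=
  ⟨h.mem, h.uu, Z.cent_inv h a ha, fun h2 => h1 (eq_one_of_odd_card (Z.cent_odd h) ha h2)⟩

theorem cent_eq {a : G} (ha : a ∈ centralizer ({x} : Set G)) (h1 : a ≠ 1) :
    centralizer ({a} : Set G) = centralizer ({x} : Set G) := by
  have hx : x ∈ centralizer ({x} : Set G) := mem_cent.2 rfl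
  refine le_antisymm (fun b hb => mem_cent.2 ?_) fun b hb => mem_cent.2 (Z.cent_comm h hb ha)
  exact Z.cent_comm (Z.sreal_of_mem h ha h1) hb (mem_cent.2 (Z.cent_comm h hx ha))

theorem mem_norm_of_conj {a g : G} (ha : a ∈ centralizer ({x} : Set G)) (h1 : a ≠ 1)
    (hg : g * a * g⁻¹ ∈ centralizer ({x} : Set G)) :
    g ∈ normalizer (centralizer ({x} : Set G) : Set G) := by
  have h2 : g * a * g⁻¹ ≠ 1 := fun e => h1 (by simpa using e)
  rw [mem_normalizer_iff]
  intro b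
  nth_rewrite 1 [← Z.cent_eq h ha h1]
  rw [← Z.cent_eq h hg h2, mem_cent, mem_cent]
  constructor
  · intro e
    calc g * b * g⁻¹ * (g * a * g⁻¹) = g * (b * a) * g⁻¹ := by group
      _ = _ := by rw [e]; group
  · intro e
    calc b * a = g⁻¹ * (g * b * g⁻¹ * (g * a * g⁻¹)) * g := by group
      _ = _ := by rw [e]; group

theorem x_ne : x ≠ 1 := by rintro rfl; exact h.ne (one_mul 1)

theorem normedTI_cent : NormedTI (sharp (centralizer ({x} : Set G))) ⊤
    (normalizer (centralizer ({x} : Set G) : Set G)) :=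
  ⟨⟨x, mem_cent.2 rfl, Z.x_ne h⟩, le_top, sharp_conj le_rfl,
    fun _ _ _ ha hg => Z.mem_norm_of_conj h ha.1 ha.2 hg.1⟩

theorem u_mem_norm : u ∈ normalizer (centralizer ({x} : Set G) : Set G) :=
  Z.mem_norm_of_conj h (mem_cent.2 rfl) (Z.x_ne h) (by
    rw [inv_eq_of_mul_self h.uu, h.inv]; exact inv_mem (mem_cent.2 rfl))

theorem norm_dec {g : G} (hg : g ∈ normalizer (centralizer ({x} : Set G) : Set G)) :
    ∃ a ∈ centralizer ({x} : Set G), ∃ y ∈ Q, g = a * y := by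
  have h1 : g⁻¹ * x * g ∈ centralizer ({x} : Set G) := by
    have := (mem_normalizer_iff.1 (inv_mem hg) x).1 (mem_cent.2 rfl)
    simpa using this
  have h2 : (g * u * g⁻¹) * u ∈ centralizer ({x} : Set G) := by
    refine mem_cent_of_inv ?_ h.inv ?_ h.uu
    · calc g * u * g⁻¹ * (g * u * g⁻¹) = g * (u * u) * g⁻¹ := by group
        _ = 1 := by rw [h.uu]; group
    · calc g * u * g⁻¹ * x * (g * u * g⁻¹) = g * (u * (g⁻¹ * x * g) * u) * g⁻¹ := by group
        _ = x⁻¹ := by rw [Z.cent_inv h _ h1]; group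
  obtain ⟨j, hj⟩ := exists_sq_eq_of_odd (Z.cent_odd h) (pow_card_of_mem h2)
  set a := (g * u * g⁻¹ * u) ^ j
  have ha : a ∈ centralizer ({x} : Set G) := pow_mem h2 j
  refine ⟨a, ha, a⁻¹ * g, Z.mem_Q_of_comm h.mem h.u_ne ?_, by group⟩
  have h3 := Z.cent_inv h a ha
  have h4 : g * u = a * a * u * g := by
    rw [hj]
    calc g * u = g * u * g⁻¹ * (u * u) * g := by rw [h.uu]; group
      _ = _ := by group
  calc u * (a⁻¹ * g) = (u * u) * a * u * g := by rw [← h3]; group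
    _ = a⁻¹ * g * u := by rw [h.uu, mul_assoc a⁻¹, h4]; group

theorem eq_u_of_invol {y : G} (hy : y ∈ normalizer (centralizer ({x} : Set G) : Set G))
    (hQ : y ∈ Q) (hyy : y * y = 1) (h1 : y ≠ 1) : y = u := by
  have h2 := inv_of_fpf_invol (Z.cent_odd h) hyy
    (fun a ha => by
      have := (mem_normalizer_iff.1 hy a).1 ha
      rwa [inv_eq_of_mul_self hyy] at this)
    (fun a ha hc => Z.cent_inf_Q h ha (Z.mem_Q_of_comm hQ h1 hc)) x (mem_cent.2 rfl)
  have h3 := Z.cent_inf_Q h (mem_cent_of_inv hyy h.inv h2 h.uu) (mul_mem hQ h.mem)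
  rw [← inv_eq_of_mul_self h.uu]; exact eq_inv_of_mul_eq_one_left h3

omit h in
theorem mem_H_of_comm_D {d g : G} (hd : d ∈ Dg H t) (h1 : d ≠ 1) (hc : d * g = g * d) : g ∈ H := by
  by_contra hg
  obtain ⟨a, ha, e, he, y, hy, rfl⟩ := Z.canon3 hg
  have h2 := Z.canon3_unique (Z.norm' (Dg_le hd) ha) ha (mul_mem hd he) (mul_mem he (inv_mem hd))
    hy (Z.norm d (Dg_le hd) y hy) (by
      calc d * a * d⁻¹ * (d * e) * t * y = d * (a * e * t * y) := by group
        _ = a * e * (t * d) * (d⁻¹ * y * d) := by rw [hc]; group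
        _ = _ := by rw [Z.t_mul_K (Z.mem_K hd)]; group)
  have h3 : d * d = 1 := by
    have := h2.2.1
    rw [Z.D_comm hd he, mul_left_cancel_iff] at this
    exact mul_eq_one_iff_eq_inv.2 this
  exact h1 (eq_one_of_odd_card Z.odd hd h3)

omit h in
/-- a strongly real element conjugate into `H` is conjugate into `D` -/
theorem exists_conj_D_of_real {u x : G} (hu : u * u = 1) (hx : u * x * u = x⁻¹) (hx2 : x * x ≠ 1)
    {g : G} (hg : g * x * g⁻¹ ∈ H) : ∃ g' : G, g' * x * g'⁻¹ ∈ Dg H t := by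
  have h1 : g * x * g⁻¹ ∉ Q := fun hQ => hx2 (by
    have := Z.sq_eq_one_of_real Z.rank2 (u := g * u * g⁻¹) (by
      calc g * u * g⁻¹ * (g * u * g⁻¹) = g * (u * u) * g⁻¹ := by group
        _ = 1 := by rw [hu]; group) (by
      calc g * u * g⁻¹ * (g * x * g⁻¹) * (g * u * g⁻¹) = g * (u * x * u) * g⁻¹ := by group
        _ = _ := by rw [hx]; group) hQ
    calc x * x = g⁻¹ * (g * x * g⁻¹ * (g * x * g⁻¹)) * g := by group
      _ = 1 := by rw [this]; group)
  obtain ⟨y, -, hy⟩ := Z.exists_conj_D hg h1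
  exact ⟨y⁻¹ * g, by convert hy using 1; group⟩

theorem not_conj_of_mem (hx : ∀ g : G, g * x * g⁻¹ ∉ H) {a : G}
    (ha : a ∈ centralizer ({x} : Set G)) (h1 : a ≠ 1) (g : G) : g * a * g⁻¹ ∉ H := by
  intro hg
  have h2 := Z.sreal_of_mem h ha h1
  obtain ⟨g', hg'⟩ := Z.exists_conj_D_of_real h2.uu h2.inv h2.ne hg
  refine hx g' (Z.mem_H_of_comm_D hg' (fun e => h1 (by simpa using e)) ?_)
  calc g' * a * g'⁻¹ * (g' * x * g'⁻¹) = g' * (a * x) * g'⁻¹ := by group
    _ = _ := by rw [mem_cent.1 ha]; group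

end ZT

theorem RO.cfInd_apply_H [Fintype G] (R : RO H Q t) {φ : G → ℂ} (hφ : φ ∈ CF H) {h : G}
    (hh : h ∈ H) : cfInd H ⊤ φ h = φ h + ∑ y ∈ elems (Q : Set G), φ (t * (y * h * y⁻¹) * t) := by
  classical
  rw [cfInd_apply' hφ.1 (mem_top h), elems_top,
    ← Finset.sum_sdiff (Finset.subset_univ (elems (H : Set G))),
    Finset.sum_congr rfl (s₁ := elems (H : Set G)) (g := fun _ => φ h)
      (fun x hx => CF_conj hφ (mem_elems.1 hx) h), sum_elems_const,
    ← Finset.sum_bij (s := elems (H : Set G) ×ˢ elems (Q : Set G))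
      (f := fun z => φ (t * (z.2 * h * z.2⁻¹) * t)) (fun z _ => z.1 * t * z.2),
    Finset.sum_product]
  · dsimp only
    rw [sum_elems_const, nsmul_eq_mul, nsmul_eq_mul]
    have := card_ne_zero H
    field_simp
    ring
  · intro z hz
    simp only [Finset.mem_product, mem_elems, Finset.mem_sdiff, Finset.mem_univ, true_and] at hz ⊢
    exact R.notMem_canon hz.1 (R.le hz.2)
  · intro z hz w hw e
    simp only [Finset.mem_product, mem_elems] at hz hw
    obtain ⟨h1, h2⟩ := R.canon_unique hz.1 hw.1 hz.2 hw.2 e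
    exact Prod.ext h1 h2
  · intro g hg
    simp only [Finset.mem_sdiff, Finset.mem_univ, true_and, mem_elems] at hg
    obtain ⟨a, ha, y, hy, rfl⟩ := R.canon g hg
    exact ⟨(a, y), Finset.mem_product.2 ⟨mem_elems.2 ha, mem_elems.2 hy⟩, rfl⟩
  · intro z hz
    simp only [Finset.mem_product, mem_elems] at hz
    rw [← CF_conj hφ hz.1]
    congr 1
    simp only [mul_inv_rev, R.t_inv, mul_assoc]

theorem RO.cfdot_perm [Fintype G] (R : RO H Q t) :
    cfdot ⊤ (cfInd H ⊤ (cf1 H)) (cfInd H ⊤ (cf1 H)) = 2 := by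
  classical
  rw [cfdot_cfInd_right le_top cfInd_mem_CF, cfdot_cf1_right,
    Finset.sum_congr rfl fun h hh => R.cfInd_apply_H cf1_mem_CF (mem_elems.1 hh),
    Finset.sum_add_distrib, Finset.sum_comm,
    Finset.sum_congr rfl (g := fun _ => (1 : ℂ)) fun h hh => cf1_apply (mem_elems.1 hh),
    Finset.sum_congr rfl (s₁ := elems (Q : Set G)) (g := fun _ => (Nat.card (Dg H t) : ℂ)),
    sum_elems_const, sum_elems_const, R.card_H]
  · have := card_ne_zero Q
    have := card_ne_zero (Dg H t)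
    simp only [nsmul_eq_mul]
    push_cast
    field_simp
    ring
  · intro y hy
    rw [sum_elems_conj (Subgroup.le_normalizer (R.le (mem_elems.1 hy))) (fun h => cf1 H (t * h * t)),
      ← Finset.sum_subset (s₁ := elems (Dg H t : Set G)),
      Finset.sum_congr rfl (g := fun _ => (1 : ℂ)), sum_elems_const, nsmul_eq_mul, mul_one]
    · exact fun d hd => cf1_apply (R.mem_D.1 (mem_elems.1 hd)).2
    · exact fun d hd => mem_elems.2 (Dg_le (mem_elems.1 hd))
    · exact fun d hd hd' => cf1_apply_of_notMem fun h => hd' (mem_elems.2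
        (R.mem_D.2 ⟨mem_elems.1 hd, h⟩))

theorem RO.perm_apply_Q [Fintype G] (R : RO H Q t) {x : G} (hx : x ∈ Q) (h1 : x ≠ 1) :
    cfInd H ⊤ (cf1 H) x = 1 := by
  rw [R.cfInd_apply_H cf1_mem_CF (R.le hx), cf1_apply (R.le hx), Finset.sum_eq_zero, add_zero]
  intro y hy
  exact cf1_apply_of_notMem (R.txt_notMem (R.norm' (R.le (mem_elems.1 hy)) hx)
    (fun e => h1 (by simpa using e)))

theorem sum_InvSet_conj [Fintype G] (g : G) (f : G → ℂ) :
    ∑ x ∈ elems (InvSet G), f (g * x * g⁻¹) = ∑ x ∈ elems (InvSet G), f x := by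
  refine Finset.sum_nbij' (fun x => g * x * g⁻¹) (fun x => g⁻¹ * x * g⁻¹⁻¹) ?_ ?_ ?_ ?_ ?_
  · exact fun x hx => mem_elems.2 (InvSet_conj g (mem_elems.1 hx))
  · exact fun x hx => mem_elems.2 (InvSet_conj g⁻¹ (mem_elems.1 hx))
  · intro x _; group
  · intro x _; group
  · intro x _; rfl

theorem RO.sum_sum_InvSet [Fintype G] (R : RO H Q t) {s r : G} (hs : Dist Q t s r) {ψ : G → ℂ}
    (hψ : ψ ∈ CF (⊤ : Subgroup G)) :
    ∑ v ∈ elems (InvSet G), ∑ x ∈ elems (InvSet G), ψ (x * v) =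
      (InvSet G).ncard * ∑ x ∈ elems (InvSet G), ψ (x * s) := by
  rw [← card_elems_set, ← nsmul_eq_mul, ← Finset.sum_const]
  refine Finset.sum_congr rfl fun v hv => ?_
  obtain ⟨g, rfl⟩ := R.invol_conj_s hs (mem_elems.1 hv).1 (mem_elems.1 hv).2
  rw [← sum_InvSet_conj g⁻¹]
  refine Finset.sum_congr rfl fun x _ => ?_
  rw [← CF_conj' hψ (mem_top g) (x * s)]
  congr 1; group

open Classical in
/-- number of ways of writing `g` as a product of two involutions -/
noncomputable def invCount [Fintype G] (g : G) : ℂ :=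
  ∑ v ∈ elems (InvSet G), if g * v ∈ InvSet G then 1 else 0

theorem invCount_conj [Fintype G] (y g : G) : invCount (y * g * y⁻¹) = invCount g := by
  classical
  rw [invCount, ← sum_InvSet_conj y]
  refine Finset.sum_congr rfl fun v _ => ?_
  have : y * g * y⁻¹ * (y * v * y⁻¹) ∈ InvSet G ↔ g * v ∈ InvSet G := by
    refine ⟨fun h => ?_, fun h => ?_⟩
    · convert InvSet_conj y⁻¹ h using 1; group
    · convert InvSet_conj y h using 1; group
  simp only [this]

theorem sum_invCount [Fintype G] (ψ : G → ℂ) :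
    ∑ v ∈ elems (InvSet G), ∑ x ∈ elems (InvSet G), ψ (x * v) = ∑ g, invCount g * ψ g := by
  classical
  simp only [invCount, Finset.sum_mul]
  rw [Finset.sum_comm (s := Finset.univ)]
  refine Finset.sum_congr rfl fun v hv => ?_
  have hvv := (mem_elems.1 hv).2
  rw [← Equiv.sum_comp (Equiv.mulRight v)]
  simp only [Equiv.coe_mulRight, mul_assoc, hvv, mul_one, ite_mul, one_mul, zero_mul]
  rw [← Finset.sum_filter]
  rfl

theorem ZT.invCount_cent [Fintype G] (Z : ZT H Q t) {u x : G} (h : SReal Q u x) {a : G}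
    (ha : a ∈ centralizer ({x} : Set G)) (h1 : a ≠ 1) :
    invCount a = Nat.card (centralizer ({x} : Set G)) := by
  classical
  have hu : u ∉ centralizer ({x} : Set G) := fun hu => h.u_ne (Z.cent_inf_Q h hu h.mem)
  have key : ∀ b ∈ centralizer ({x} : Set G), b * u ∈ InvSet G := fun b hb =>
    ⟨fun e => hu (by rw [eq_inv_of_mul_eq_one_right e]; exact inv_mem hb), by
      rw [mul_assoc, ← mul_assoc u, Z.cent_inv h b hb, mul_inv_cancel]⟩
  rw [invCount, ← Finset.sum_filter, Finset.sum_const, nsmul_eq_mul, mul_one, ← card_elems]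
  congr 1
  symm
  refine Finset.card_bij (fun b _ => b * u) ?_ ?_ ?_
  · intro b hb
    rw [mem_elems] at hb
    refine Finset.mem_filter.2 ⟨mem_elems.2 (key b hb), ?_⟩
    rw [← mul_assoc]; exact key _ (mul_mem ha hb)
  · exact fun _ _ _ _ e => mul_right_cancel e
  · intro v hv
    obtain ⟨h2, h3⟩ := Finset.mem_filter.1 hv
    rw [mem_elems] at h2
    refine ⟨v * u, mem_elems.2 ?_, by rw [mul_assoc, h.uu, mul_one]⟩
    rw [← Z.cent_eq h ha h1]
    refine mem_cent_of_inv h2.2 (Z.cent_inv h a ha) ?_ h.uu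
    rw [eq_inv_iff_mul_eq_one]
    calc v * a * v * a = a⁻¹ * (a * v * (a * v)) * a := by group
      _ = 1 := by rw [h3.2]; group

/-- the class formula for a self-centralizing subgroup with automizer of order 2 -/
theorem ZT.card_cent [Finite G] (Z : ZT H Q t) {u x : G} (h : SReal Q u x)
    (hx : ∀ g : G, g * x * g⁻¹ ∉ H)
    (hN : ∀ y ∈ Q, y ∈ normalizer (centralizer ({x} : Set G) : Set G) → y * y = 1) :
    Nat.card (centralizer ({x} : Set G)) * (Nat.card Q - 1) =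
      (Nat.card Q + 1) * (Nat.card (Q0g Q) - 1) := by
  classical
  have := Fintype.ofFinite G
  obtain ⟨s, r, hs⟩ := Z.exists_dist
  set A := centralizer ({x} : Set G) with hA
  set N := normalizer (A : Set G) with hNN
  have hAN : A ≤ N := Subgroup.le_normalizer
  have hu : u ∉ A := fun hu => h.u_ne (Z.cent_inf_Q h hu h.mem)
  have hidx : A.relIndex N = 2 := by
    rw [relIndex, index_eq_two_iff]
    refine ⟨⟨u, Z.u_mem_norm h⟩, fun ⟨g, hg⟩ => ?_⟩
    obtain ⟨a, ha, y, hy, rfl⟩ := Z.norm_dec h hg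
    have hyN : y ∈ N := by simpa using mul_mem (inv_mem (hAN ha)) hg
    simp only [mem_subgroupOf, coe_mul]
    by_cases h1 : y = 1
    · subst h1
      rw [mul_one, mul_mem_cancel_left ha]
      exact Or.inr ⟨ha, hu⟩
    · rw [Z.eq_u_of_invol h hyN hy (hN y hy hyN) h1, mul_assoc, h.uu, mul_one,
        mul_mem_cancel_left ha]
      exact Or.inl ⟨ha, hu⟩
  have hAne : A ≠ ⊥ := fun e => Z.x_ne h (mem_bot.1 (e ▸ (mem_cent.2 rfl : x ∈ A)))
  have hF : FrobKer N A := frobKer_of_cent (lt_of_le_of_ne hAN fun e => hu (e ▸ Z.u_mem_norm h))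
    le_rfl hAne fun k hk h1 => by rw [Z.cent_eq h hk h1]; exact inf_le_right
  have hcomm : ∀ a ∈ A, ∀ b ∈ A, a * b = b * a := fun a ha b hb => Z.cent_comm h ha hb
  obtain ⟨μ, hμ, hμ1, -⟩ := exists_lin_ne_one (bot_lt_iff_ne_bot.2 hAne)
    (commutator_eq_bot_of_comm hcomm).le
  set α := cfInd A N (cf1 A - μ) with hα
  have hαon : α ∈ CFon N (sharp A) := mem_CFon_sharp.2 ⟨cfInd_normal_mem_CFon le_rfl, by
    rw [hα, cfInd_one hAN, Pi.sub_apply, cf1_one, hμ.one, sub_self, mul_zero]⟩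
  have hTI : NormedTI (sharp A) ⊤ N := Z.normedTI_cent h
  set β := cfInd N ⊤ α with hβ
  have hβ' : β = cfInd A ⊤ (cf1 A - μ) := cfInd_cfInd hAN le_top
  have hβZ : β ∈ ZIrr (⊤ : Subgroup G) := by
    rw [hβ']; exact ZIrr_cfInd le_top (Submodule.sub_mem _ cf1_mem_ZIrr hμ.isIrr.mem_ZIrr)
  have d1 : cfdot ⊤ β β = 3 := by
    have e1 := not_cfclass_Ind_ortho hAN le_rfl (isIrr_cf1 A) hμ.isIrr (by
      rw [cfclass_of_invariant fun g hg => mem_inertia_cf1 hg]; simpa using hμ1)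
    rw [normedTI_isometry hTI hαon hαon, hα, map_sub, cfdot_sub_left, cfdot_sub_right,
      cfdot_sub_right, e1, cfdot_symm_zero e1, (hF.cfInd_irr hμ.isIrr hμ1).cfdot_self, cfdot_self,
      cfnorm_Ind1 hAN le_rfl, hidx]
    norm_num
  have d2 : cfdot ⊤ β (cf1 ⊤) = 1 := by
    rw [hβ', cfdot_cfInd_cfRes le_top cf1_mem_CF, cfRes_cf1 le_top, cfdot_sub_left, cfdot_cf1,
      hμ.isIrr.cfdot_ne (isIrr_cf1 A) hμ1, sub_zero]
  set π := cfInd H ⊤ (cf1 H) with hπ
  have d3 : cfdot ⊤ β π = 0 := by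
    rw [hβ', cfdot_cfInd_left le_top cfInd_mem_CF]
    refine cfdot_eq_zero_of_supp fun a ha => ?_
    by_cases h1 : a = 1
    · left; rw [h1, Pi.sub_apply, cf1_one, hμ.one, sub_self]
    · exact Or.inr (cfInd_eq_zero fun g _ hg => absurd hg (Z.not_conj_of_mem h hx ha h1 g))
  have d4 : cfdot ⊤ π π = 2 := Z.cfdot_perm
  have d5 : cfdot ⊤ π (cf1 ⊤) = 1 := by
    rw [hπ, cfdot_cfInd_cfRes le_top cf1_mem_CF, cfRes_cf1 le_top, cfdot_cf1]
  have d2' : cfdot ⊤ (cf1 ⊤) β = 1 := by rw [← cfdot_conj, d2, map_one]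
  have d5' : cfdot ⊤ (cf1 ⊤) π = 1 := by rw [← cfdot_conj, d5, map_one]
  have hπZ : π ∈ ZIrr (⊤ : Subgroup G) := ZIrr_cfInd le_top cf1_mem_ZIrr
  have hSt : IsDirr ⊤ (π - cf1 ⊤) := isDirr_of_cfdot (Submodule.sub_mem _ hπZ cf1_mem_ZIrr) (by
    simp only [cfdot_sub_left, cfdot_sub_right, d4, d5, d5', cfdot_cf1]; norm_num)
  have hη : IsDirr ⊤ (β - cf1 ⊤ + (π - cf1 ⊤)) := isDirr_of_cfdot
    (Submodule.add_mem _ (Submodule.sub_mem _ hβZ cf1_mem_ZIrr) hSt.mem_ZIrr) (by
      simp only [cfdot_sub_left, cfdot_sub_right, cfdot_add_left, cfdot_add_right, d1, d2, d2', d3,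
        cfdot_symm_zero d3, d4, d5, d5', cfdot_cf1]; norm_num)
  have v1 : β 1 = 0 := by rw [hβ, cfInd_one le_top, CFon_zero hαon one_notMem_sharp, mul_zero]
  have v2 : β s = 0 := cfInd_eq_zero fun g _ _ => CFon_zero hαon fun hg =>
    hg.2 (eq_one_of_odd_card (Z.cent_odd h) hg.1 (InvSet_conj g ⟨hs.s_ne, hs.ss⟩).2)
  have v3 : π 1 = Nat.card Q + 1 := by
    rw [hπ, cfInd_one le_top, relIndex_top_right, Z.index_H, cf1_one]; simp
  have v4 : π s = 1 := Z.perm_apply_Q hs.s_mem hs.s_ne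
  have r1 := Z.row_dirr hs (isIrr_cf1 ⊤).isDirr
  have r2 := Z.row_dirr hs hSt
  have r3 := Z.row_dirr hs hη
  simp only [Pi.add_apply, Pi.sub_apply, Finset.sum_add_distrib, Finset.sum_sub_distrib, v1, v2,
    v3, v4, cf1_top, Pi.one_apply] at r1 r2 r3
  have r4 := Z.sum_sum_InvSet hs (ZIrr_mem_CF hβZ)
  have r5 : ∑ g, invCount g * β g = ∑ g ∈ elems (classSupport (sharp A) ⊤), invCount g * β g := by
    refine (Finset.sum_subset (Finset.subset_univ _) fun g _ hg => ?_).symm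
    rw [hβ, CFon_zero (cfInd_mem_CFon_classSupport hαon.2) (fun h => hg (mem_elems.2 h)), mul_zero]
  have r6 := hTI.card_smul_sum_classSupport (f := fun g => invCount g * β g) (fun y _ g => by
    rw [invCount_conj, CF_conj (ZIrr_mem_CF hβZ) (mem_top y)])
  have r7 : ∑ a ∈ elems (sharp A), invCount a * β a = Nat.card A * Nat.card N := by
    have e1 : cfdot N α (cf1 N) = 1 := by
      rw [← d2, hβ, cfdot_cfInd_cfRes le_top cf1_mem_CF, cfRes_cf1 le_top]
    rw [cfdot_cf1_right, ← Finset.sum_subset (s₁ := elems (sharp A))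
      (fun a ha => mem_elems.2 (hAN (mem_elems.1 ha).1))
      (fun a _ ha => CFon_zero hαon fun h => ha (mem_elems.2 h)),
      inv_mul_eq_one₀ (card_ne_zero N)] at e1
    rw [e1, Finset.mul_sum]
    refine Finset.sum_congr rfl fun a ha => ?_
    rw [mem_elems] at ha
    rw [Z.invCount_cent h ha.1 ha.2, hβ, normedTI_Ind_id hTI hαon ha (mem_top a)]
  rw [sum_invCount, r5] at r4
  rw [r4, r7, nsmul_eq_mul, nsmul_eq_mul, card_top, Z.card_G] at r6
  have hN2 : 2 ≤ Nat.card Q := (one_lt_card_iff_ne_bot Q).2 Z.Q_ne_bot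
  have hq1 : 1 ≤ Nat.card (Q0g Q) := Nat.card_pos
  have hD : Nat.card (Dg H t) = Nat.card (Q0g Q) - 1 := by rw [← Z.card_D]; rfl
  rw [Z.ncard_InvSet Z.rank2] at r1 r2 r3 r6
  rw [hD] at r6
  have hd0 : ((Nat.card (Q0g Q) - 1 : ℕ) : ℂ) ≠ 0 := by rw [← hD]; exact card_ne_zero _
  have hN1 : (Nat.card Q : ℂ) - 1 ≠ 0 := by
    rw [sub_ne_zero]; exact_mod_cast (by omega : Nat.card Q ≠ 1)
  have hN3 : (Nat.card Q : ℂ) + 1 ≠ 0 := by exact_mod_cast (by omega : Nat.card Q + 1 ≠ 0)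
  have hN0 := card_ne_zero Q
  have hNN0 := card_ne_zero N
  have goal : (Nat.card A : ℂ) * (Nat.card Q - 1) =
      (Nat.card Q + 1) * ((Nat.card (Q0g Q) - 1 : ℕ) : ℂ) := by
    generalize Nat.card (Q0g Q) - 1 = d at *
    push_cast at r1 r2 r3 r6
    have r8 : ∑ x ∈ elems (InvSet G), β (x * s) =
        (Nat.card Q + 1) * d * Nat.card Q / (Nat.card Q - 1) := by
      rw [r2, r1] at r3
      have e : (0 - 1 + ((Nat.card Q : ℂ) + 1 - 1)) = Nat.card Q - 1 := by ring
      rw [e, sub_self, zero_pow two_ne_zero, mul_zero, zero_div] at r3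
      field_simp at r3 ⊢
      linear_combination r3
    rw [r8] at r6
    field_simp at r6
    linear_combination -r6
  have h1 : 1 ≤ Nat.card Q := by omega
  exact_mod_cast goal

end CfsgLib.Suz
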