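import Mathlib
import Cfsg.Agent.Lib.Suz.ZTCent
import Cfsg.Agent.Lib.Suz.SzId
import Cfsg.Agent.Lib.Suz.SzCoord

/-! Project D: in a Zassenhaus group of odd degree with non-abelian `Q` the product `s t` does not
have order three. -/

set_option autoImplicit false
set_option linter.unusedSectionVars false

namespace CfsgLib.Suz
open Subgroup CfsgLib.FT
open scoped commutatorElement

variable {G : Type*} [Group G] [Finite G] {H Q : Subgroup G} {t : G}

theorem RO.sreal_ut (R : RO H Q t) {u : G} (hu : u ∈ Q) (h1 : u ≠ 1) (huu : u * u = 1) :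
    SReal Q u (u * t) := by
  refine ⟨hu, huu, ?_, fun h => ?_⟩
  · rw [← mul_assoc, huu, one_mul, mul_inv_rev, R.t_inv, inv_eq_of_mul_self huu]
  · have ho := R.odd_mul (R.le hu) h1 huu R.t_notMem R.tt
    have h2 : orderOf (u * t) ∣ 2 := orderOf_dvd_of_pow_eq_one (by rw [sq, h])
    have h3 : orderOf (u * t) = 1 := by
      rcases (Nat.dvd_prime Nat.prime_two).1 h2 with h | h
      · exact h
      · rw [h] at ho; exact absurd ho (by decide)
    rw [orderOf_eq_one_iff, mul_eq_one_iff_eq_inv, R.t_inv] at h3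
    exact R.t_notMem (h3 ▸ R.le hu)

/-- every strongly real element is conjugate to some `u t` -/
theorem RO.exists_type (R : RO H Q t) (h2 : Rank2 Q) {u x : G} (huu : u * u = 1)
    (hx : u * x * u = x⁻¹) (hx2 : x * x ≠ 1) :
    ∃ g : G, ∃ u' ∈ Q, u' ≠ 1 ∧ u' * u' = 1 ∧ g⁻¹ * x * g = u' * t := by
  have hv : (u * x) * (u * x) = 1 := by rw [← mul_assoc, hx, inv_mul_cancel]
  have hne : u * (u * x) ≠ (u * x) * u := by
    rw [← mul_assoc, huu, one_mul, hx]
    intro h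
    exact hx2 (mul_eq_one_iff_eq_inv.2 h)
  obtain ⟨g, u', hu', h1, h3, e1, e2⟩ := R.strongly_real_conj h2 huu hv hne
  refine ⟨g, u', hu', h1, h3, ?_⟩
  rw [← e1, ← e2]
  calc g⁻¹ * x * g = g⁻¹ * (u * u) * x * g := by rw [huu, mul_one]
    _ = _ := by group

/-- the elements `u t` are pairwise non-conjugate -/
theorem ZT.type_unique (Z : ZT H Q t) {u u' g : G} (hu : u ∈ Q) (h1 : u ≠ 1) (huu : u * u = 1)
    (hu' : u' ∈ Q) (h1' : u' ≠ 1) (huu' : u' * u' = 1) (e : g * (u * t) * g⁻¹ = u' * t) :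
    u = u' := by
  have S := Z.sreal_ut hu h1 huu
  have S' := Z.sreal_ut hu' h1' huu'
  set x' := u' * t with hx'
  set v := g * u * g⁻¹ with hv
  have hvv : v * v = 1 := by
    rw [hv]
    calc g * u * g⁻¹ * (g * u * g⁻¹) = g * (u * u) * g⁻¹ := by group
      _ = 1 := by rw [huu, mul_one, mul_inv_cancel]
  have hvx : v * x' * v = x'⁻¹ := by
    rw [← e, hv]
    calc g * u * g⁻¹ * (g * (u * t) * g⁻¹) * (g * u * g⁻¹) = g * (u * (u * t) * u) * g⁻¹ := by
          group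
      _ = _ := by rw [S.inv]; group
  have ha := mem_cent_of_inv hvv S'.inv hvx huu'
  set a := v * u' with hadef
  obtain ⟨j, hj⟩ := exists_sq_eq_of_odd (a := a⁻¹) (Z.cent_odd S')
    (pow_card_of_mem (inv_mem ha))
  set b := a⁻¹ ^ j with hb
  have hbm : b ∈ centralizer ({x'} : Set G) := pow_mem (inv_mem ha) j
  have hab : a * b = b * a := Z.cent_comm S' ha hbm
  have hub : u' * b⁻¹ = b * u' := by
    have := Z.cent_inv S' _ (inv_mem hbm)
    rw [inv_inv] at this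
    calc u' * b⁻¹ = u' * b⁻¹ * u' * u' := by rw [mul_assoc (u' * b⁻¹), huu', mul_one]
      _ = b * u' := by rw [this]
  have hva : v = a * u' := by rw [hadef, mul_assoc, huu', mul_one]
  have e1 : (b * g) * u * (b * g)⁻¹ = u' := by
    calc (b * g) * u * (b * g)⁻¹ = b * v * b⁻¹ := by rw [hv]; group
      _ = b * a * (u' * b⁻¹) := by rw [hva]; group
      _ = (a * b) * b * u' := by rw [hub, hab]; group
      _ = a * (b * b) * u' := by group
      _ = u' := by rw [hj, mul_inv_cancel, one_mul]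
  have e2 : (b * g) * (u * t) * (b * g)⁻¹ = x' := by
    calc (b * g) * (u * t) * (b * g)⁻¹ = b * (g * (u * t) * g⁻¹) * b⁻¹ := by group
      _ = x' := by rw [e, mem_cent.1 hbm, mul_inv_cancel_right]
  set c := b * g with hc
  have e3 : c * t * c⁻¹ = t := by
    have : (c * u * c⁻¹) * (c * t * c⁻¹) = u' * t := by rw [← hx', ← e2]; group
    rw [e1] at this
    exact mul_left_cancel this
  have hcH : c ∈ H := Z.mem_H_of_conj' hu h1 (e1 ▸ Z.le hu')
  have hct : t * c = c * t := by rw [← mul_inv_eq_iff_eq_mul.1 e3]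
  have hcD : c ∈ Dg H t := Z.mem_D.2 ⟨hcH, by rw [hct, Z.tt'']; exact hcH⟩
  rw [Z.V_eq hcD hct] at e1
  simpa using e1

theorem ncard_diff_one (A : Subgroup G) : ((A : Set G) \ {1}).ncard + 1 = Nat.card A := by
  rw [Set.ncard_sdiff_singleton_add_one A.one_mem (Set.toFinite _)]
  rfl

/-- some `u t` is not conjugate to an element of `H` -/
theorem ZT.exists_free (Z : ZT H Q t) :
    ∃ u ∈ Q, u ≠ 1 ∧ u * u = 1 ∧ ∀ g : G, g * (u * t) * g⁻¹ ∉ H := by
  by_contra hcon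
  push Not at hcon
  have key : ∀ u : G, ∃ d : G, u ∈ (Q0g Q : Set G) \ {1} →
      d ∈ (Dg H t : Set G) \ {1} ∧ ∃ g : G, g * (u * t) * g⁻¹ = d := by
    intro u
    by_cases hu : u ∈ (Q0g Q : Set G) \ {1}
    · obtain ⟨hQ, huu⟩ := (Z.mem_Q0 Z.rank2).1 hu.1
      have S := Z.sreal_ut hQ hu.2 huu
      obtain ⟨g, hg⟩ := hcon u hQ hu.2 huu
      obtain ⟨g', hg'⟩ := Z.exists_conj_D_of_real huu S.inv S.ne hg
      refine ⟨_, fun _ => ⟨⟨hg', fun h => ?_⟩, g', rfl⟩⟩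
      have h1 : u * t = 1 := by simpa using h
      exact S.ne (by rw [h1, mul_one])
    · exact ⟨1, fun h => absurd h hu⟩
  choose d hd using key
  have hle := Set.ncard_le_ncard_of_injOn d (fun u hu => (hd u hu).1) (fun u hu u' hu' e => by
    obtain ⟨g, hg⟩ := (hd u hu).2
    obtain ⟨g', hg'⟩ := (hd u' hu').2
    obtain ⟨hQ, huu⟩ := (Z.mem_Q0 Z.rank2).1 hu.1
    obtain ⟨hQ', huu'⟩ := (Z.mem_Q0 Z.rank2).1 hu'.1
    refine Z.type_unique (g := g'⁻¹ * g) hQ hu.2 huu hQ' hu'.2 huu' ?_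
    calc g'⁻¹ * g * (u * t) * (g'⁻¹ * g)⁻¹ = g'⁻¹ * (g * (u * t) * g⁻¹) * g' := by group
      _ = g'⁻¹ * (g' * (u' * t) * g'⁻¹) * g' := by rw [hg, hg', e]
      _ = _ := by group) (Set.toFinite _)
  have h1 := ncard_diff_one (Q0g Q)
  have h2 := ncard_diff_one (Dg H t)
  have h3 := Z.card_D
  omega

theorem ZT.card_cent_le (Z : ZT H Q t) {u x : G} (h : SReal Q u x)
    (hx : ∀ g : G, g * x * g⁻¹ ∉ H) :
    Nat.card (centralizer ({x} : Set G)) ≤
      Nat.card ↥(Q ⊓ normalizer (centralizer ({x} : Set G) : Set G)) * (Nat.card (Q0g Q) - 2)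
        + 1 := by
  classical
  set A := centralizer ({x} : Set G) with hA
  set E := Q ⊓ normalizer (A : Set G) with hE
  -- the type of a non-trivial element of `D`
  obtain ⟨d, hd, hd1⟩ : ∃ d ∈ Dg H t, d ≠ 1 := by
    by_contra hc
    push Not at hc
    exact Z.ne (eq_bot_iff.2 fun d hd => hc d hd)
  have hdd : d * d ≠ 1 := fun e => hd1 (eq_one_of_odd_card Z.odd hd e)
  obtain ⟨g₀, u₀, hu₀, hu₀1, hu₀2, e₀⟩ := Z.exists_type Z.rank2 Z.tt (Z.inv d hd) hdd
  have key : ∀ a : G, ∃ w : G, a ∈ (A : Set G) \ {1} →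
      (w ∈ Q ∧ w ≠ 1 ∧ w * w = 1 ∧ w ≠ u₀) ∧ ∃ g : G, g⁻¹ * a * g = w * t := by
    intro a
    by_cases ha : a ∈ (A : Set G) \ {1}
    · have S := Z.sreal_of_mem h ha.1 ha.2
      obtain ⟨g, w, hw, hw1, hw2, e⟩ := Z.exists_type Z.rank2 S.uu S.inv S.ne
      refine ⟨w, fun _ => ⟨⟨hw, hw1, hw2, ?_⟩, g, e⟩⟩
      rintro rfl
      refine Z.not_conj_of_mem h hx ha.1 ha.2 (g₀ * g⁻¹) ?_
      have : g₀ * g⁻¹ * a * (g₀ * g⁻¹)⁻¹ = d := by
        calc g₀ * g⁻¹ * a * (g₀ * g⁻¹)⁻¹ = g₀ * (g⁻¹ * a * g) * g₀⁻¹ := by group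
          _ = d := by rw [e, ← e₀]; group
      rw [this]
      exact Dg_le hd
    · exact ⟨1, fun h => absurd h ha⟩
  choose ty hty using key
  set T : Set G := ((Q0g Q : Set G) \ {1}) \ {u₀} with hT
  have hTc : T.ncard + 2 = Nat.card (Q0g Q) := by
    have h1 := ncard_diff_one (Q0g Q)
    have h2 : T.ncard + 1 = ((Q0g Q : Set G) \ {1}).ncard :=
      Set.ncard_sdiff_singleton_add_one ⟨mem_Q0g_of hu₀ hu₀2, hu₀1⟩ (Set.toFinite _)
    omega
  have hle := Finset.card_le_mul_card_image_of_maps_to (f := ty)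
    (s := ((A : Set G) \ {1}).toFinite.toFinset) (t := T.toFinite.toFinset) (fun a ha => by
      rw [Set.Finite.mem_toFinset] at ha ⊢
      obtain ⟨⟨h1, h2, h3, h4⟩, -⟩ := hty a ha
      exact ⟨⟨mem_Q0g_of h1 h3, h2⟩, h4⟩) (Nat.card E) (fun w _ => by
      set F := ((A : Set G) \ {1}).toFinite.toFinset.filter (fun a => ty a = w) with hF
      rcases F.eq_empty_or_nonempty with h0 | ⟨a₀, ha₀⟩
      · rw [h0]; simp
      rw [hF, Finset.mem_filter, Set.Finite.mem_toFinset] at ha₀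
      obtain ⟨g₁, e₁⟩ := (hty a₀ ha₀.1).2
      have hsub : (F : Set G) ⊆ (fun y => y * a₀ * y⁻¹) '' (E : Set G) := by
        intro a ha
        rw [Finset.mem_coe, hF, Finset.mem_filter, Set.Finite.mem_toFinset] at ha
        obtain ⟨g₂, e₂⟩ := (hty a ha.1).2
        have e3 : (g₂ * g₁⁻¹) * a₀ * (g₂ * g₁⁻¹)⁻¹ = a := by
          calc (g₂ * g₁⁻¹) * a₀ * (g₂ * g₁⁻¹)⁻¹ = g₂ * (g₁⁻¹ * a₀ * g₁) * g₂⁻¹ := by group
            _ = a := by rw [e₁, ha₀.2, ← ha.2, ← e₂]; group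
        have hn := Z.mem_norm_of_conj h ha₀.1.1 ha₀.1.2 (e3 ▸ ha.1.1)
        obtain ⟨b, hb, y, hy, e4⟩ := Z.norm_dec h hn
        have hyn : y ∈ normalizer (A : Set G) := by
          have : y = b⁻¹ * (g₂ * g₁⁻¹) := by rw [e4]; group
          rw [this]
          exact mul_mem (inv_mem (Subgroup.le_normalizer hb)) hn
        refine ⟨y, ⟨hy, hyn⟩, ?_⟩
        have hm : y * a₀ * y⁻¹ ∈ A := ((mem_normalizer_iff.1 hyn) a₀).1 ha₀.1.1
        have hc := Z.cent_comm h hb hm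
        show y * a₀ * y⁻¹ = a
        rw [← e3, e4]
        calc y * a₀ * y⁻¹ = (y * a₀ * y⁻¹) * b * b⁻¹ := by group
          _ = b * (y * a₀ * y⁻¹) * b⁻¹ := by rw [hc]
          _ = _ := by group
      calc F.card = (F : Set G).ncard := (Set.ncard_coe_finset F).symm
        _ ≤ _ := Set.ncard_le_ncard hsub (Set.toFinite _)
        _ ≤ (E : Set G).ncard := Set.ncard_image_le (Set.toFinite _)
        _ = Nat.card E := rfl)
  rw [← Set.ncard_eq_toFinset_card, ← Set.ncard_eq_toFinset_card] at hle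
  have h1 := ncard_diff_one A
  rw [← h1, show Nat.card (Q0g Q) - 2 = T.ncard by omega]
  omega

/-- a group with a unique involution `u`, all squares and commutators in `⟨u⟩`, has order at most
eight -/
theorem card_le_eight {E : Subgroup G} {u : G} (huu : u * u = 1)
    (h1 : ∀ y ∈ E, y * y = 1 → y = 1 ∨ y = u) (h2 : ∀ y ∈ E, (y * y) * (y * y) = 1)
    (h3 : ∀ y ∈ E, ∀ z ∈ E, ⁅y, z⁆ * ⁅y, z⁆ = 1) : Nat.card E ≤ 8 := by
  by_cases hE : ∀ y ∈ E, y = 1 ∨ y = u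
  · have : (E : Set G) ⊆ {1, u} := fun y hy => hE y hy
    calc Nat.card E = (E : Set G).ncard := rfl
      _ ≤ _ := Set.ncard_le_ncard this (Set.toFinite _)
      _ ≤ 2 := (Set.ncard_insert_le _ _).trans (by simp)
      _ ≤ 8 := by norm_num
  push Not at hE
  obtain ⟨y, hy, hy1, hyu⟩ := hE
  have hsq : ∀ z ∈ E, z ≠ 1 → z ≠ u → z * z = u := fun z hz a b =>
    (h1 _ (mul_mem hz hz) (h2 z hz)).resolve_left fun e => (h1 z hz e).elim a b
  have hC : ∀ z ∈ E, z * y = y * z → z ∈ ({1, u, y⁻¹, y⁻¹ * u} : Set G) := by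
    intro z hz hc
    by_cases a : z = 1
    · simp [a]
    by_cases b : z = u
    · simp [b]
    have e : (y * z) * (y * z) = 1 := by
      calc (y * z) * (y * z) = y * (z * y) * z := by group
        _ = (y * y) * (z * z) := by rw [hc]; group
        _ = 1 := by rw [hsq y hy hy1 hyu, hsq z hz a b, huu]
    rcases h1 _ (mul_mem hy hz) e with e | e
    · have : z = y⁻¹ := eq_inv_of_mul_eq_one_right e
      simp [this]
    · have : z = y⁻¹ * u := by rw [← e]; group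
      simp [this]
  set C : Set G := {1, u, y⁻¹, y⁻¹ * u} with hCdef
  have hC4 : C.ncard ≤ 4 := by
    have a := Set.ncard_insert_le (1 : G) {u, y⁻¹, y⁻¹ * u}
    have b := Set.ncard_insert_le u {y⁻¹, y⁻¹ * u}
    have c := Set.ncard_insert_le y⁻¹ {y⁻¹ * u}
    rw [Set.ncard_singleton] at c
    rw [hCdef]
    omega
  by_cases hz : ∀ z ∈ E, z * y = y * z
  · have : (E : Set G) ⊆ C := fun z hz' => hC z hz' (hz z hz')
    calc Nat.card E = (E : Set G).ncard := rfl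
      _ ≤ _ := Set.ncard_le_ncard this (Set.toFinite _)
      _ ≤ 8 := by omega
  push Not at hz
  obtain ⟨z, hz, hzy⟩ := hz
  have hcm : ∀ g ∈ E, g * y ≠ y * g → g * y * g⁻¹ = u * y := fun g hg hgy => by
    have := (h1 _ (mul_mem (mul_mem (mul_mem hg hy) (inv_mem hg)) (inv_mem hy)) (h3 g hg y hy)).resolve_left
      (fun e => hgy (commutatorElement_eq_one_iff_mul_comm.1 e))
    rw [← this]; group
  have hsub : (E : Set G) ⊆ C ∪ (fun c => z * c) '' C := by
    intro g hg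
    by_cases hgy : g * y = y * g
    · exact Or.inl (hC g hg hgy)
    · refine Or.inr ⟨z⁻¹ * g, hC _ (mul_mem (inv_mem hz) hg) ?_, by simp⟩
      have e := (hcm g hg hgy).trans (hcm z hz hzy).symm
      calc z⁻¹ * g * y = z⁻¹ * (g * y * g⁻¹) * g := by group
        _ = y * (z⁻¹ * g) := by rw [e]; group
  calc Nat.card E = (E : Set G).ncard := rfl
    _ ≤ _ := Set.ncard_le_ncard hsub (Set.toFinite _)
    _ ≤ C.ncard + ((fun c => z * c) '' C).ncard := Set.ncard_union_le _ _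
    _ ≤ C.ncard + C.ncard := Nat.add_le_add_left (Set.ncard_image_le (Set.toFinite _)) _
    _ ≤ 8 := by omega

theorem three_numerics {n j m : ℕ} (hn : 2 ≤ n) (hj : 2 ^ j ≤ 8) (hm : 0 < m)
    (h1 : 2 ^ j ∣ m * (2 ^ n + 1) - 1) (h2 : m * (2 ^ n + 1) ≤ 2 ^ j * (2 ^ n - 2) + 1)
    (h3 : Odd (m * (2 ^ n + 1))) : m = 1 := by
  have hj3 : j ≤ 3 := (Nat.pow_le_pow_iff_right (by norm_num : 1 < 2)).1 hj
  rcases hn.eq_or_lt with rfl | hn
  · have hm3 : m ≤ 3 := by omega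
    have hmo := (Nat.odd_mul.1 h3).1
    interval_cases m
    · rfl
    · exact absurd hmo (by decide)
    · interval_cases j <;> omega
  · have h4 : 2 ^ j ∣ 2 ^ n := pow_dvd_pow 2 (by omega)
    set e := 2 ^ j
    set q := 2 ^ n
    have hq : 2 ≤ q := Nat.one_lt_two_pow (by omega)
    have h5 : e ∣ m - 1 := by
      have : m * (q + 1) - 1 = m * q + (m - 1) := by rw [mul_add, mul_one]; omega
      rw [this] at h1
      exact (Nat.dvd_add_right (Dvd.dvd.mul_left h4 m)).1 h1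
    have he : 0 < e := by positivity
    have h6 : m < e := by
      by_contra hc
      have h7 : e * (q + 1) ≤ m * (q + 1) := Nat.mul_le_mul_right _ (by omega)
      obtain ⟨q', hq'⟩ : ∃ q', q = q' + 2 := ⟨q - 2, by omega⟩
      rw [hq'] at h2 h7
      rw [Nat.add_sub_cancel] at h2
      nlinarith
    have := Nat.eq_zero_of_dvd_of_lt h5 (by omega)
    omega

/-- the case `(s t)³ = 1` forces `Q` to be elementary abelian -/
theorem ZT.sq_eq_one_of_three (Z : ZT H Q t) {s : G} (hs : Dist Q t s s) : ∀ y ∈ Q, y * y = 1 := by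
  have h2 := Z.rank2
  by_cases hna : IsMulCommutative Q
  · exact Z.sq_eq_one_of_comm fun x hx y hy =>
      congrArg Subtype.val (hna.is_comm.comm (⟨x, hx⟩ : Q) ⟨y, hy⟩)
  obtain ⟨hig1, hig2, -, -⟩ := (Z.sz2 h2 Z.isPGroup).higman hna
  obtain ⟨n, hn, hq⟩ := Z.exists_card_Q0 h2
  obtain ⟨L, htL, hQL, -, -, ZL⟩ := Z.exists_ZT h2 (Q' := Q0g Q) Q0g_le
    (fun d hd x hx => Z.Q0_norm h2 (Dg_le hd.1) hx) (Z.Q0_closed h2 hs)
    (by rw [hq]; exact (Nat.even_pow.2 ⟨even_two, by omega⟩))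
  obtain ⟨u, hu, hu1, huu, hx⟩ := Z.exists_free
  have S := Z.sreal_ut hu hu1 huu
  have hQ0L : ∀ y, y ∈ Q0g Q ↔ y ∈ Q ∧ y ∈ L := fun y => by rw [← hQL]; rfl
  have huL : u ∈ L := ((hQ0L u).1 (mem_Q0g_of hu huu)).2
  set x := u * t with hxdef
  have hxL : x ∈ L := mul_mem huL htL
  have hsqL : ∀ y ∈ Q.subgroupOf L, y * y = 1 := fun y hy =>
    Subtype.ext ((Z.mem_Q0 h2).1 ((hQ0L y).2 ⟨hy, y.2⟩)).2
  have SL : SReal (Q.subgroupOf L) ⟨u, huL⟩ ⟨x, hxL⟩ :=
    ⟨hu, Subtype.ext huu, Subtype.ext S.inv, fun e => S.ne (congrArg Subtype.val e)⟩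
  have hcL := ZL.card_cent SL (fun g hg => hx g hg) (fun y hy _ => hsqL y hy)
  have hQ0' : Q0g (Q.subgroupOf L) = Q.subgroupOf L :=
    le_antisymm Q0g_le fun y hy => mem_Q0g_of hy (hsqL y hy)
  have hq4 : 4 ≤ 2 ^ n := Nat.pow_le_pow_right (by norm_num : 0 < 2) hn
  rw [hQ0', card_subgroupOf_eq, hQL, hq] at hcL
  have hcL' := Nat.eq_of_mul_eq_mul_right (by omega) hcL
  set A := centralizer ({x} : Set G) with hA
  have hAL : centralizer ({(⟨x, hxL⟩ : L)} : Set L) = A.subgroupOf L := by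
    ext a
    rw [mem_cent, mem_subgroupOf, mem_cent, Subtype.ext_iff]
    rfl
  rw [hAL, card_subgroupOf_eq] at hcL'
  obtain ⟨m, hm⟩ := card_dvd_of_le (inf_le_left : A ⊓ L ≤ A)
  rw [hcL', mul_comm] at hm
  set E := Q ⊓ normalizer (A : Set G) with hE
  obtain ⟨j, hj⟩ := IsPGroup.iff_card.1 (Z.isPGroup.to_le (inf_le_left : E ≤ Q))
  have hinv : ∀ y ∈ E, y * y = 1 → y = 1 ∨ y = u := fun y hy hyy => by
    by_cases h1 : y = 1
    · exact Or.inl h1
    · exact Or.inr (Z.eq_u_of_invol S hy.2 hy.1 hyy h1)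
  have hE8 := card_le_eight (E := E) huu hinv (fun y hy => ((Z.mem_Q0 h2).1 (hig1 y hy.1)).2)
    (fun y hy z hz => ((Z.mem_Q0 h2).1 (hig2 y hy.1 z hz.1)).2)
  have hdvd : Nat.card E ∣ Nat.card A - 1 := by
    refine semiregular_card_dvd inf_le_right fun y hy hy1 => eq_bot_iff.2 fun a ha => ?_
    by_contra ha1
    have h3 : y ∈ centralizer ({a} : Set G) := mem_cent.2 (mem_cent.1 ha.2).symm
    rw [Z.cent_eq S ha.1 ha1] at h3
    exact hy1 (Z.cent_inf_Q S h3 hy.1)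
  have hle := Z.card_cent_le S hx
  have hodd := Z.cent_odd S
  rw [← hA] at hle hodd
  rw [← hE, hq] at hle
  rw [hj] at hE8 hdvd hle
  rw [hm] at hdvd hle hodd
  have hm0 : 0 < m := Nat.pos_of_ne_zero (by rintro rfl; simp at hodd)
  have hm1 := three_numerics hn hE8 hm0 hdvd hle hodd
  rw [hm1, one_mul] at hm
  have hAle : A ≤ L := by
    have := eq_of_le_of_card_ge (inf_le_left : A ⊓ L ≤ A) (by rw [hm, hcL'])
    rw [← this]
    exact inf_le_right
  have hxA : x ∈ A := mem_cent.2 rfl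
  have hN : ∀ y ∈ Q, y ∈ normalizer (A : Set G) → y * y = 1 := by
    intro y hy hyn
    have hx' : y * x * y⁻¹ ∈ A := ((mem_normalizer_iff.1 hyn) x).1 hxA
    have hx1 : y * x * y⁻¹ ≠ 1 := fun e => Z.x_ne S (by simpa using e)
    have S' := Z.sreal_of_mem S hx' hx1
    obtain ⟨l, u', hu', hu'1, hu'2, e⟩ := ZL.exists_type ZL.rank2 (u := ⟨u, huL⟩)
      (x := ⟨_, hAle hx'⟩) (Subtype.ext huu) (Subtype.ext S'.inv)
      (fun e => S'.ne (congrArg Subtype.val e))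
    have e' : ((l : G)⁻¹ * y) * (u * t) * ((l : G)⁻¹ * y)⁻¹ = u' * t := by
      have := congrArg Subtype.val e
      simp only [coe_mul, InvMemClass.coe_inv] at this
      rw [← this, hxdef]; group
    have : u = (u' : G) := Z.type_unique hu hu1 huu hu' (fun e => hu'1 (Subtype.ext e))
      (congrArg Subtype.val hu'2) e'
    rw [← this, mul_inv_eq_iff_eq_mul] at e'
    have h4 : (l : G)⁻¹ * y ∈ L := hAle (mem_cent.2 e')
    have h5 : y ∈ L := by simpa using mul_mem l.2 h4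
    exact ((Z.mem_Q0 h2).1 ((hQ0L y).2 ⟨hy, h5⟩)).2
  have hc := Z.card_cent S hx hN
  rw [← hA, hm, hq] at hc
  have hNq : Nat.card Q = 2 ^ n := by
    have h0 : 0 < Nat.card Q := Nat.card_pos
    obtain ⟨N, hN⟩ : ∃ N, Nat.card Q = N + 1 := ⟨Nat.card Q - 1, by omega⟩
    obtain ⟨q, hq⟩ : ∃ q, 2 ^ n = q + 1 := ⟨2 ^ n - 1, by omega⟩
    rw [hN, hq] at hc ⊢
    simp only [Nat.add_sub_cancel] at hc
    nlinarith
  have := eq_of_le_of_card_ge (Q0g_le : Q0g Q ≤ Q) (by rw [hNq, hq])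
  intro y hy
  exact ((Z.mem_Q0 h2).1 (this.symm ▸ hy)).2

end CfsgLib.Suz
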