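import Mathlib
import Cfsg.Prelude.Def_Sz
import Cfsg.Agent.Lib.Suz.ZTThree

/-! Project D: Zassenhaus groups of odd degree (Suzuki): the case where `t` inverts `D`. -/

set_option autoImplicit false

namespace CfsgLib.Suz
open Subgroup
open scoped MatrixGroups

variable {G : Type*} [Group G] [Finite G] {H Q : Subgroup G} {t : G}

/-- Suzuki's theorem on Zassenhaus groups of odd degree. -/
theorem RO.ZT_theorem (R : RO H Q t) (hD : ∀ d ∈ Dg H t, t * d * t = d⁻¹) (hD1 : Dg H t ≠ ⊥) :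
    (∃ n : ℕ, 2 ≤ n ∧ (∀ x ∈ Q, x * x = 1) ∧ Nat.card Q = 2 ^ n ∧ Nat.card (Dg H t) + 1 = 2 ^ n ∧
        (∀ s r, Dist Q t s r → r = s) ∧
        Nonempty (G ≃* SL(2, GaloisField 2 n)) ∧
        Nonempty (G ≃* Matrix.ProjectiveSpecialLinearGroup (Fin 2) (GaloisField 2 n))) ∨
      (IsPGroup 2 Q ∧ ¬ IsMulCommutative Q ∧ Nat.card Q = (Nat.card (Dg H t) + 1) ^ 2 ∧
        (∀ s r, Dist Q t s r → r * r = s) ∧
        ∃ (F : Type) (_ : Field F) (_ : Fintype F) (m : ℕ), 1 ≤ m ∧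
          Fintype.card F = 2 ^ (2 * m + 1) ∧ Nat.card (Dg H t) + 1 = 2 ^ (2 * m + 1) ∧
          Nonempty (G ≃* Cfsg.Lie.Sz F (2 ^ (m + 1)))) := by
  have Z : ZT H Q t := { R with inv := hD, ne := hD1 }
  by_cases hQ : ∀ x ∈ Q, x * x = 1
  · refine Or.inl (R.ZT_abelian hD hD1 fun x hx y hy => ?_)
    rw [← inv_eq_of_mul_self (hQ _ (mul_mem hx hy)), mul_inv_rev, inv_eq_of_mul_self (hQ x hx),
      inv_eq_of_mul_self (hQ y hy)]
  have hna : ¬ IsMulCommutative Q := fun hc => hQ (Z.sq_eq_one_of_comm fun x hx y hy =>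
    congrArg Subtype.val (hc.is_comm.comm (⟨x, hx⟩ : Q) ⟨y, hy⟩))
  obtain ⟨s, r, hs⟩ := R.exists_dist
  have hr : r ≠ s := by
    rintro rfl
    exact hQ (Z.sq_eq_one_of_three hs)
  obtain ⟨h1, h2, h3⟩ := Z.sz Z.isPGroup hna hs hr
  refine Or.inr ⟨Z.isPGroup, hna, h1, fun s' r' hs' => ?_, h3⟩
  obtain ⟨rfl, rfl⟩ := R.dist_unique hs hs'
  exact h2

end CfsgLib.Suz
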