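import Mathlib
import Cfsg.Agent.Lib.Suz.SzCoord
import Cfsg.Agent.Lib.Suz.SzFour

/-! The three types in the conclusion of Suzuki's theorem (weak form), transfer along maps and
counting of square roots. -/

set_option autoImplicit false
set_option linter.unusedSectionVars false
set_option linter.style.haveILetI false

namespace CfsgLib.Suz
open Subgroup
open scoped commutatorElement IsMulCommutative

variable {G : Type*} [Group G]

/-- Conclusion of the weak form of Suzuki's theorem: `Q` is a 2-group and either elementary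
abelian, or nonabelian of order `q²` with `r² = s`, or nonabelian of order `q³` with `r = s` and an
element of `D` centralizing the involutions of `Q` but not `Q`. -/
def Typ (D Q : Subgroup G) (s r : G) : Prop :=
  IsPGroup 2 Q ∧ ((∀ x ∈ Q, x * x = 1) ∨
    (¬ IsMulCommutative Q ∧ Nat.card Q = Nat.card (Q0g Q) ^ 2 ∧ r * r = s) ∨
    (¬ IsMulCommutative Q ∧ Nat.card Q = Nat.card (Q0g Q) ^ 3 ∧ r = s ∧
      ∃ w ∈ D, (∀ u ∈ Q, u * u = 1 → u * w = w * u) ∧ ∃ x ∈ Q, x * w ≠ w * x))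

theorem isMulCommutative_iff' {Q : Subgroup G} :
    IsMulCommutative Q ↔ ∀ x ∈ Q, ∀ y ∈ Q, x * y = y * x :=
  ⟨fun hc x hx y hy => congrArg Subtype.val (hc.is_comm.comm (⟨x, hx⟩ : Q) ⟨y, hy⟩),
    fun h => ⟨⟨fun a b => Subtype.ext (h a a.2 b b.2)⟩⟩⟩

section map
variable {G' : Type*} [Group G'] (f : G →* G') {D Q : Subgroup G}

theorem card_map_of_injOn {A : Subgroup G} (hf : ∀ x ∈ A, f x = 1 → x = 1) :
    Nat.card (A.map f) = Nat.card A := by
  have h : Function.Injective (f.comp A.subtype) :=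
    (injective_iff_map_eq_one _).2 fun a ha => Subtype.ext (hf a a.2 ha)
  have e : A.map f = (f.comp A.subtype).range := by
    rw [MonoidHom.range_comp, range_subtype]
  rw [e]
  exact (Nat.card_congr (MonoidHom.ofInjective h).toEquiv).symm

theorem eq_of_injOn (hf : ∀ x ∈ Q, f x = 1 → x = 1) {x y : G} (hx : x ∈ Q) (hy : y ∈ Q)
    (e : f x = f y) : x = y := by
  have := hf (x⁻¹ * y) (mul_mem (inv_mem hx) hy) (by simp [e])
  exact inv_mul_eq_one.1 this

theorem Q0g_map (hf : ∀ x ∈ Q, f x = 1 → x = 1) : Q0g (Q.map f) = (Q0g Q).map f := by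
  unfold Q0g
  rw [MonoidHom.map_closure]
  congr 1
  ext y
  constructor
  · rintro ⟨⟨x, hx, rfl⟩, h⟩
    exact ⟨x, ⟨hx, hf _ (mul_mem hx hx) (by rw [map_mul]; exact h)⟩, rfl⟩
  · rintro ⟨x, ⟨hx, h⟩, rfl⟩
    exact ⟨⟨x, hx, rfl⟩, by rw [← map_mul, h, map_one]⟩

theorem Typ.of_map {s r : G} (hf : ∀ x ∈ Q, f x = 1 → x = 1)
    (hn : ∀ d ∈ D, ∀ x ∈ Q, d⁻¹ * x * d ∈ Q) (hs : s ∈ Q) (hr : r ∈ Q)
    (h : Typ (D.map f) (Q.map f) (f s) (f r)) : Typ D Q s r := by
  have c1 : Nat.card (Q.map f) = Nat.card Q := card_map_of_injOn f hf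
  have c0 : Nat.card (Q0g (Q.map f)) = Nat.card (Q0g Q) := by
    rw [Q0g_map f hf]
    exact card_map_of_injOn f fun x hx => hf x (Q0g_le hx)
  have hna : ¬ IsMulCommutative (Q.map f) → ¬ IsMulCommutative Q := by
    intro h1 h2
    refine h1 (isMulCommutative_iff'.2 ?_)
    rintro _ ⟨x, hx, rfl⟩ _ ⟨y, hy, rfl⟩
    rw [← map_mul, ← map_mul, isMulCommutative_iff'.1 h2 x hx y hy]
  obtain ⟨hp, h⟩ := h
  refine ⟨fun x => ?_, ?_⟩
  · obtain ⟨k, hk⟩ := hp ⟨f x, x, x.2, rfl⟩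
    refine ⟨k, Subtype.ext (hf _ (pow_mem x.2 _) ?_)⟩
    rw [Subgroup.coe_pow, map_pow]
    exact congrArg Subtype.val hk
  rcases h with h | ⟨h1, h2, h3⟩ | ⟨h1, h2, h3, _, ⟨w, hw, rfl⟩, h4, _, ⟨x, hx, rfl⟩, h5⟩
  · exact Or.inl fun x hx => hf _ (mul_mem hx hx) (by rw [map_mul]; exact h _ ⟨x, hx, rfl⟩)
  · exact Or.inr (Or.inl ⟨hna h1, by rw [← c1, ← c0, h2],
      eq_of_injOn f hf (mul_mem hr hr) hs (by rw [map_mul, h3])⟩)
  · refine Or.inr (Or.inr ⟨hna h1, by rw [← c1, ← c0, h2], eq_of_injOn f hf hr hs h3, w, hw,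
      fun u hu huu => ?_, x, hx, fun e => h5 (by rw [← map_mul, e, map_mul])⟩)
    have h6 := h4 (f u) ⟨u, hu, rfl⟩ (by rw [← map_mul, huu, map_one])
    have h7 : w⁻¹ * u * w = u := eq_of_injOn f hf (hn w hw u hu) hu (by
      rw [map_mul, map_mul, mul_assoc, h6, map_inv, inv_mul_cancel_left])
    calc u * w = w * (w⁻¹ * u * w) := by group
      _ = w * u := by rw [h7]

theorem Typ.map {s r : G} (hf : Function.Injective f) (h : Typ D Q s r) :
    Typ (D.map f) (Q.map f) (f s) (f r) := by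
  have hf' : ∀ A : Subgroup G, ∀ x ∈ A, f x = 1 → x = 1 := fun A x _ h =>
    hf (h.trans (map_one f).symm)
  have c1 : Nat.card (Q.map f) = Nat.card Q := card_map_of_injOn f (hf' Q)
  have c0 : Nat.card (Q0g (Q.map f)) = Nat.card (Q0g Q) := by
    rw [Q0g_map f (hf' Q)]
    exact card_map_of_injOn f (hf' _)
  have hna : ¬ IsMulCommutative Q → ¬ IsMulCommutative (Q.map f) := by
    intro h1 h2
    refine h1 (isMulCommutative_iff'.2 fun x hx y hy => hf ?_)
    rw [map_mul, map_mul, isMulCommutative_iff'.1 h2 _ ⟨x, hx, rfl⟩ _ ⟨y, hy, rfl⟩]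
  obtain ⟨hp, h⟩ := h
  refine ⟨hp.map f, ?_⟩
  rcases h with h | ⟨h1, h2, h3⟩ | ⟨h1, h2, h3, w, hw, h4, x, hx, h5⟩
  · left
    rintro _ ⟨x, hx, rfl⟩
    rw [← map_mul, h x hx, map_one]
  · exact Or.inr (Or.inl ⟨hna h1, by rw [c1, c0, h2], by rw [← map_mul, h3]⟩)
  · refine Or.inr (Or.inr ⟨hna h1, by rw [c1, c0, h2], by rw [h3], f w, ⟨w, hw, rfl⟩, ?_,
      f x, ⟨x, hx, rfl⟩, fun e => h5 (hf (by rw [map_mul, map_mul, e]))⟩)
    rintro _ ⟨u, hu, rfl⟩ huu
    rw [← map_mul, ← map_mul, h4 u hu (hf (by rw [map_mul, huu, map_one]))]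

end map

theorem Typ.of_subgroupOf {D Q L : Subgroup G} {s r : L}
    (h : Typ (D.subgroupOf L) (Q.subgroupOf L) s r) : Typ (D ⊓ L) (Q ⊓ L) (s : G) (r : G) := by
  have := h.map L.subtype L.subtype_injective
  rwa [subgroupOf_map_subtype, subgroupOf_map_subtype] at this

theorem Typ.mono {D D' Q : Subgroup G} {s r : G} (h : Typ D Q s r) (hD : D ≤ D') :
    Typ D' Q s r := by
  obtain ⟨hp, h | h | ⟨h1, h2, h3, w, hw, h4⟩⟩ := h
  · exact ⟨hp, Or.inl h⟩
  · exact ⟨hp, Or.inr (Or.inl h)⟩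
  · exact ⟨hp, Or.inr (Or.inr ⟨h1, h2, h3, w, hD hw, h4⟩)⟩

/-- The induction hypothesis in the form used: centralizers of nontrivial elements of `V`. -/
def IH (H Q : Subgroup G) (t s r : G) : Prop :=
  ∀ v ∈ Vg H t, v ≠ 1 → Rank2 (Q ⊓ centralizer {v}) →
    Typ (Dg H t ⊓ centralizer {v}) (Q ⊓ centralizer {v}) s r

/-! ### Counting -/

theorem card_modEq_fixed [Finite G] {p : ℕ} (hp : p.Prime) {v : G} (hv : v ^ p = 1)
    (A : Set G) (hA : ∀ x ∈ A, v⁻¹ * x * v ∈ A) :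
    A.ncard ≡ {x | x ∈ A ∧ x * v = v * x}.ncard [MOD p] := by
  classical
  haveI := Fact.mk hp
  have hA' : ∀ g ∈ zpowers v, ∀ x ∈ A, g⁻¹ * x * g ∈ A := by
    intro g hg
    obtain ⟨n, -, rfl⟩ := (mem_zpowers_iff_mem_range_orderOf.trans Finset.mem_image).1 hg
    induction n with
    | zero => simp
    | succ n ih =>
      intro x hx
      have := hA _ (ih (pow_mem (mem_zpowers v) n) x hx)
      simpa [pow_succ, mul_assoc] using this
  letI : MulAction (zpowers v) A :=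
    { smul := fun g x => ⟨g * x * (g : G)⁻¹, by
        simpa using hA' (g : G)⁻¹ (inv_mem g.2) x x.2⟩
      one_smul := fun x => Subtype.ext (by
        change ((1 : zpowers v) : G) * x * ((1 : zpowers v) : G)⁻¹ = x; simp)
      mul_smul := fun a b x => Subtype.ext (by
        change ((a * b : zpowers v) : G) * x * ((a * b : zpowers v) : G)⁻¹ =
          a * (b * x * (b : G)⁻¹) * (a : G)⁻¹
        simp [mul_assoc]) }
  have hP : IsPGroup p (zpowers v) := by
    intro g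
    refine ⟨1, Subtype.ext ?_⟩
    obtain ⟨n, hn⟩ := mem_zpowers_iff.1 g.2
    change (g : G) ^ p ^ 1 = 1
    rw [pow_one, ← hn, ← zpow_natCast, ← zpow_mul, mul_comm, zpow_mul, zpow_natCast, hv, one_zpow]
  have h := hP.card_modEq_card_fixedPoints A
  rw [Nat.card_coe_set_eq] at h
  refine h.trans ?_
  have : Nat.card (MulAction.fixedPoints (zpowers v) A) =
      {x | x ∈ A ∧ x * v = v * x}.ncard := by
    rw [← Nat.card_coe_set_eq]
    refine Nat.card_congr ⟨fun x => ⟨x.1.1, x.1.2, ?_⟩, fun x => ⟨⟨x.1, x.2.1⟩, fun g => ?_⟩,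
      fun _ => rfl, fun _ => rfl⟩
    · have := congrArg Subtype.val (x.2 ⟨v, mem_zpowers v⟩)
      change v * x.1.1 * v⁻¹ = x.1.1 at this
      rw [mul_inv_eq_iff_eq_mul] at this
      exact this.symm
    · refine Subtype.ext ?_
      change (g : G) * x.1 * (g : G)⁻¹ = x.1
      obtain ⟨n, hn⟩ := mem_zpowers_iff.1 g.2
      have hc : Commute v x.1 := x.2.2.symm
      rw [← hn, (hc.zpow_left n).eq, mul_inv_cancel_right]
  rw [this]

theorem card_modEq_cent [Finite G] {p : ℕ} (hp : p.Prime) {v : G} (hv : v ^ p = 1)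
    (A : Subgroup G) (hA : ∀ x ∈ A, v⁻¹ * x * v ∈ A) :
    Nat.card A ≡ Nat.card ↥(A ⊓ centralizer {v}) [MOD p] := by
  have h := card_modEq_fixed hp hv (A : Set G) hA
  have e : {x | x ∈ (A : Set G) ∧ x * v = v * x} = ((A ⊓ centralizer {v} : Subgroup G) : Set G) := by
    ext x
    simp [mem_centralizer_singleton_iff]
  rw [e, ← Nat.card_coe_set_eq, ← Nat.card_coe_set_eq] at h
  exact h

/-- The square roots of `s` in `Y`. -/
def Rt (Y : Subgroup G) (s : G) : Set G := {y | y ∈ Y ∧ y * y = s}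

/-- Counting square roots: if all squares in `Y` are involutions or trivial, the involutions of
`Y` generate a group of exponent 2 and are conjugate to `s` under the normalizer of `Y`. -/
theorem card_eq_rt [Finite G] {Y : Subgroup G} {s : G}
    (h0 : ∀ x, x ∈ Q0g Y → x * x = 1) (hsq : ∀ y ∈ Y, y * y ∈ Q0g Y)
    (hc : ∀ u ∈ Q0g Y, u ≠ 1 → ∃ k : G, (∀ y, y ∈ Y ↔ k⁻¹ * y * k ∈ Y) ∧ u = k⁻¹ * s * k) :
    Nat.card Y = Nat.card (Q0g Y) + (Nat.card (Q0g Y) - 1) * (Rt Y s).ncard := by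
  classical
  haveI := Fintype.ofFinite G
  have h1 : (Finset.univ.filter (· ∈ Y)).card =
      ∑ u ∈ Finset.univ.filter (· ∈ Q0g Y),
        ((Finset.univ.filter (· ∈ Y)).filter fun y => y * y = u).card :=
    Finset.card_eq_sum_card_fiberwise (f := fun y => y * y) (by
      intro y hy
      simpa using hsq y (by simpa using hy))
  have h2 : ∀ A : Subgroup G, Nat.card A = (Finset.univ.filter (· ∈ A)).card := fun A => by
    rw [Nat.card_eq_fintype_card, Fintype.card_subtype]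
  have h3 : (1 : G) ∈ Finset.univ.filter (· ∈ Q0g Y) := by simp
  rw [← Finset.add_sum_erase _ _ h3] at h1
  have h4 : ((Finset.univ.filter (· ∈ Y)).filter fun y => y * y = 1) =
      Finset.univ.filter (· ∈ Q0g Y) := by
    ext y
    simp only [Finset.mem_filter, Finset.mem_univ, true_and]
    exact ⟨fun h => mem_Q0g_of h.1 h.2, fun h => ⟨Q0g_le h, h0 y h⟩⟩
  have h5 : ∀ u ∈ (Finset.univ.filter (· ∈ Q0g Y)).erase 1,
      ((Finset.univ.filter (· ∈ Y)).filter fun y => y * y = u).card = (Rt Y s).ncard := by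
    intro u hu
    obtain ⟨hu1, hu⟩ := Finset.mem_erase.1 hu
    obtain ⟨k, hk, rfl⟩ := hc u (by simpa using hu) hu1
    rw [← Set.ncard_coe_finset]
    symm
    refine Set.ncard_congr (fun y _ => k⁻¹ * y * k) (fun y hy => ?_) (fun a b _ _ e => ?_)
      (fun y hy => ?_)
    · simp only [Finset.coe_filter, Finset.mem_filter, Finset.mem_univ, true_and,
        Set.mem_ofPred_eq]
      exact ⟨(hk y).1 hy.1, by rw [← hy.2]; group⟩
    · simpa using e
    · simp only [Finset.coe_filter, Finset.mem_filter, Finset.mem_univ, true_and,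
        Set.mem_ofPred_eq] at hy
      refine ⟨k * y * k⁻¹, ⟨(hk _).2 (by simpa [mul_assoc] using hy.1), ?_⟩, by group⟩
      calc k * y * k⁻¹ * (k * y * k⁻¹) = k * (y * y) * k⁻¹ := by group
        _ = s := by rw [hy.2]; group
  rw [h4, Finset.sum_congr rfl h5, Finset.sum_const, Finset.card_erase_of_mem h3, smul_eq_mul]
    at h1
  rw [h2, h2, h1]

end CfsgLib.Suz
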