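import Mathlib
import Cfsg.Agent.Lib.Suz.Types
import Cfsg.Agent.Lib.Suz.ThmC
import Cfsg.Agent.Lib.FT.Wielandt
import Cfsg.Agent.Lib.CoprimeAction

/-! Suzuki's theorem, the case where all centralizers of prime order elements of `V` have
2-rank at least 2. -/

set_option autoImplicit false
set_option linter.unusedSectionVars false
set_option linter.style.haveILetI false

namespace CfsgLib.Suz
open Subgroup
open scoped commutatorElement IsMulCommutative

variable {G : Type*} [Group G] [Finite G] {H Q : Subgroup G} {t s r : G}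

theorem exists_pow_prime_order {d : G} (hd : d ≠ 1) : ∃ j : ℕ, (orderOf (d ^ j)).Prime := by
  have h0 : orderOf d ≠ 0 := (orderOf_pos d).ne'
  have h1 : orderOf d ≠ 1 := fun h => hd (orderOf_eq_one_iff.1 h)
  refine ⟨orderOf d / (orderOf d).minFac, ?_⟩
  rw [orderOf_pow_orderOf_div h0 (Nat.minFac_dvd _)]
  exact Nat.minFac_prime h1

theorem zpowers_eq_of_prime {v x : G} (hp : (orderOf v).Prime) (hx : x ∈ zpowers v)
    (h1 : x ≠ 1) : zpowers x = zpowers v := by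
  have hle : zpowers x ≤ zpowers v := zpowers_le.2 hx
  have h := card_dvd_of_le hle
  rw [Nat.card_zpowers, Nat.card_zpowers] at h
  refine eq_of_le_of_card_ge hle ?_
  rw [Nat.card_zpowers, Nat.card_zpowers]
  rcases (Nat.dvd_prime hp).1 h with h | h
  · exact absurd (orderOf_eq_one_iff.1 h) h1
  · exact h.ge

theorem comm_of_mem_zpowers {v x y : G} (hx : x ∈ zpowers v) (h : y * v = v * y) :
    y * x = x * y := by
  obtain ⟨n, rfl⟩ := mem_zpowers_iff.1 hx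
  exact (Commute.zpow_right h n).eq

theorem comm_of_prime {v x y : G} (hp : (orderOf v).Prime) (hx : x ∈ zpowers v) (h1 : x ≠ 1)
    (h : y * x = x * y) : y * v = v * y :=
  comm_of_mem_zpowers (by rw [zpowers_eq_of_prime hp hx h1]; exact mem_zpowers v) h

theorem centralizer_zpowers' (v : G) :
    centralizer (zpowers v : Set G) = centralizer {v} := by
  rw [zpowers_eq_closure, centralizer_closure]

theorem le_normalizer_of_conj {A Y : Subgroup G} (h : ∀ a ∈ A, ∀ y ∈ Y, a⁻¹ * y * a ∈ Y) :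
    A ≤ normalizer (Y : Set G) := fun a ha =>
  mem_normalizer_iff.2 fun y => ⟨fun hy => by simpa using h _ (inv_mem ha) y hy,
    fun hy => by simpa [mul_assoc] using h a ha _ hy⟩

theorem zpowers_le_normalizer {v : G} {Y : Subgroup G} (h : ∀ y ∈ Y, v⁻¹ * y * v ∈ Y) :
    zpowers v ≤ normalizer (Y : Set G) := by
  rw [zpowers_le, ← inv_mem_iff]
  exact mem_normalizer_fintype fun y hy => by simpa using h y hy

theorem coprime_of_fpf {K Y : Subgroup G} (hn : ∀ k ∈ K, ∀ y ∈ Y, k⁻¹ * y * k ∈ Y)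
    (hf : ∀ k ∈ K, k ≠ 1 → ∀ y ∈ Y, k * y = y * k → y = 1) :
    (Nat.card K).Coprime (Nat.card Y) := by
  refine Nat.coprime_of_dvd fun p hp h1 h2 => ?_
  haveI := Fact.mk hp
  obtain ⟨k, hk⟩ := exists_prime_orderOf_dvd_card' p h1
  have hk' : orderOf (k : G) = p := by rw [orderOf_coe, hk]
  have h3 := card_modEq_cent hp (v := (k : G)) (by rw [← hk', pow_orderOf_eq_one]) Y (hn k k.2)
  have h4 : Y ⊓ centralizer {(k : G)} = ⊥ := eq_bot_iff.2 fun y hy =>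
    hf k k.2 (fun e => hp.ne_one (by rw [← hk', e, orderOf_one])) y hy.1
      (mem_centralizer_singleton_iff.1 hy.2).symm
  rw [h4, card_bot] at h3
  exact hp.ne_one (Nat.dvd_one.1 ((h3.dvd_iff dvd_rfl).1 h2))

namespace RO
variable (R : RO H Q t) (h2 : Rank2 Q)
include R h2

theorem card_eq_pow {v : G} (hp : (orderOf v).Prime) {K Y : Subgroup G} (hK : K ≤ Kg H t)
    (hK1 : K ≠ ⊥) (hvK : zpowers v ≤ normalizer (K : Set G))
    (hf : K ⊓ centralizer {v} = ⊥) (hY : Y ≤ Q) (hKY : ∀ k ∈ K, ∀ y ∈ Y, k⁻¹ * y * k ∈ Y)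
    (hvY : ∀ y ∈ Y, v⁻¹ * y * v ∈ Y) (hc : ¬ orderOf v ∣ Nat.card Y) :
    Nat.card Y = Nat.card ↥(Y ⊓ centralizer {v}) ^ orderOf v := by
  have hfp : ∀ k ∈ K, k ≠ 1 → ∀ y ∈ Y, k * y = y * k → y = 1 := fun k hk hk1 y hy e =>
    R.K_fpf ((R.mem_Kg h2).1 (hK hk)) hk1 (hY hy) e
  haveI := R.Q_nilpotent h2
  haveI : Group.IsNilpotent Y := Group.nilpotent_of_mulEquiv (subgroupOfEquivOfLe hY)
  have h := FT.Frobenius_Wielandt_card (K := K) (R := zpowers v) (M := Y) hvK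
    (fun x hx hx1 => eq_bot_iff.2 fun k hk => hf.le ⟨hk.1, mem_centralizer_singleton_iff.2
      (comm_of_prime hp hx hx1 (mem_centralizer_singleton_iff.1 hk.2))⟩)
    (le_normalizer_of_conj hKY) (zpowers_le_normalizer hvY) inferInstance
    (coprime_of_fpf hKY hfp)
    (by rw [Nat.card_zpowers]; exact (Nat.Prime.coprime_iff_not_dvd hp).2 hc) (by
      obtain ⟨⟨k, hk⟩, hk1⟩ := (ne_bot_iff_exists_ne_one).1 hK1
      exact eq_bot_iff.2 fun y hy => hfp k hk (fun e => hk1 (Subtype.ext e)) y hy.1 (hy.2 k hk))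
  rwa [centralizer_zpowers', Nat.card_zpowers] at h

theorem mem_Q0_inf {L : Subgroup G} {x : G} : x ∈ Q0g (Q ⊓ L) ↔ x ∈ Q0g Q ∧ x ∈ L := by
  refine ⟨fun h => ⟨Subgroup.closure_mono (k := {x | x ∈ Q ∧ x * x = 1})
    (fun y hy => ⟨hy.1.1, hy.2⟩) h, (Q0g_le h).2⟩, fun h => ?_⟩
  obtain ⟨h1, h3⟩ := (R.mem_Q0 h2).1 h.1
  exact mem_Q0g_of ⟨h1, h.2⟩ h3

theorem Q0_inf (L : Subgroup G) : Q0g (Q ⊓ L) = Q0g Q ⊓ L := by
  ext x
  exact R.mem_Q0_inf h2

theorem card_Q_eq_rt (hs : Dist Q t s r) (hsq : ∀ y ∈ Q, y * y ∈ Q0g Q) :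
    Nat.card Q = Nat.card (Q0g Q) + (Nat.card (Q0g Q) - 1) * (Rt Q s).ncard := by
  refine card_eq_rt (fun x hx => ((R.mem_Q0 h2).1 hx).2) hsq fun u hu hu1 => ?_
  obtain ⟨hu2, hu3⟩ := (R.mem_Q0 h2).1 hu
  obtain ⟨k, hk, rfl⟩ := R.exists_K_conj hs hu2 hu1 hu3
  exact ⟨k, fun y => ⟨R.norm k (Dg_le hk.1) y, fun h => by
    simpa [mul_assoc] using R.norm' (Dg_le hk.1) h⟩, rfl⟩

theorem card_cent_eq_rt (hs : Dist Q t s r) (hsq : ∀ y ∈ Q, y * y ∈ Q0g Q) {v : G}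
    (hv : v ∈ Vg H t) :
    Nat.card ↥(Q ⊓ centralizer {v}) = Nat.card (Q0g (Q ⊓ centralizer {v})) +
      (Nat.card (Q0g (Q ⊓ centralizer {v})) - 1) * (Rt (Q ⊓ centralizer {v}) s).ncard := by
  refine card_eq_rt (fun x hx => ((R.mem_Q0 h2).1 ((R.mem_Q0_inf h2).1 hx).1).2)
    (fun y hy => (R.mem_Q0_inf h2).2 ⟨hsq y hy.1, mul_mem hy.2 hy.2⟩) fun u hu hu1 => ?_
  obtain ⟨hu, huv⟩ := (R.mem_Q0_inf h2).1 hu
  obtain ⟨hu2, hu3⟩ := (R.mem_Q0 h2).1 hu
  obtain ⟨k, hk, rfl⟩ := R.exists_K_conj hs hu2 hu1 hu3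
  have hkv : v⁻¹ * k * v = k := by
    refine R.K_inj hs (R.K_conj_V hk hv) hk ?_
    have h1 := mem_centralizer_singleton_iff.1 huv
    calc (v⁻¹ * k * v)⁻¹ * s * (v⁻¹ * k * v) = v⁻¹ * k⁻¹ * (v * s) * v⁻¹ * k * v := by group
      _ = v⁻¹ * (k⁻¹ * s * k * v) := by rw [← R.V_comm_s hs hv]; group
      _ = k⁻¹ * s * k := by rw [h1]; group
  have hkc : k ∈ centralizer ({v} : Set G) := mem_centralizer_singleton_iff.2 (by
    calc k * v = v * (v⁻¹ * k * v) := by group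
      _ = v * k := by rw [hkv])
  refine ⟨k, fun y => ⟨fun h => mem_inf.2 ⟨R.norm k (Dg_le hk.1) y h.1,
    mul_mem (mul_mem (inv_mem hkc) (mem_inf.1 h).2) hkc⟩, fun h => mem_inf.2 ⟨?_, ?_⟩⟩, rfl⟩
  · simpa [mul_assoc] using R.norm' (Dg_le hk.1) h.1
  · simpa [mul_assoc] using mul_mem (mul_mem hkc (mem_inf.1 h).2) (inv_mem hkc)

omit h2 in
theorem rt_modEq (hs : Dist Q t s r) {v : G} (hv : v ∈ Vg H t) (hp : (orderOf v).Prime) :
    (Rt Q s).ncard ≡ (Rt (Q ⊓ centralizer {v}) s).ncard [MOD orderOf v] := by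
  have h := card_modEq_fixed hp (pow_orderOf_eq_one v) (Rt Q s) fun x hx =>
    ⟨R.norm v (Dg_le (Vg_le_Dg hv)) x hx.1, by
      calc v⁻¹ * x * v * (v⁻¹ * x * v) = v⁻¹ * (x * x) * v := by group
        _ = s := by rw [hx.2, mul_assoc, R.V_comm_s hs hv, inv_mul_cancel_left]⟩
  have e : {x | x ∈ Rt Q s ∧ x * v = v * x} = Rt (Q ⊓ centralizer {v}) s := by
    ext x
    simp only [Rt, Set.mem_ofPred_eq, mem_inf, mem_centralizer_singleton_iff]
    tauto
  rwa [e] at h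

theorem Q0_modEq {v : G} (hv : v ∈ Dg H t) (hp : (orderOf v).Prime) :
    Nat.card (Q0g Q) ≡ Nat.card (Q0g (Q ⊓ centralizer {v})) [MOD orderOf v] := by
  rw [R.Q0_inf h2]
  exact card_modEq_cent hp (pow_orderOf_eq_one v) _ fun x hx => R.Q0_norm h2 (Dg_le hv) hx

omit h2 in
theorem odd_orderOf {d : G} (hd : d ∈ Dg H t) : Odd (orderOf d) :=
  R.odd.of_dvd_nat (orderOf_dvd_of_pow_eq_one (R.D_pow hd))

theorem not_dvd_Q0 {v : G} (hv : v ∈ Dg H t) (hp : (orderOf v).Prime) :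
    ¬ orderOf v ∣ Nat.card (Q0g Q) := by
  obtain ⟨n, -, hn⟩ := R.exists_card_Q0 h2
  rw [hn]
  intro h
  have := (Nat.prime_dvd_prime_iff_eq hp Nat.prime_two).1 (hp.dvd_of_dvd_pow h)
  have h3 := R.odd_orderOf hv
  rw [this] at h3
  exact absurd h3 (by decide)

theorem isPGroup_of_C1 (hs : Dist Q t s r) (ih : IH H Q t s r)
    (hC : ∀ v ∈ Vg H t, (orderOf v).Prime → Rank2 (Q ⊓ centralizer {v})) : IsPGroup 2 Q := by
  refine R.isPGroup_of_fpf h2 fun d hd hd1 y hy hodd hdy => ?_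
  by_contra hy1
  obtain ⟨j, hj⟩ := exists_pow_prime_order hd1
  have hc : y * d ^ j = d ^ j * y := ((Commute.pow_left hdy j).eq).symm
  obtain ⟨k, hk, hk'⟩ := R.exists_conj_V (X := {d ^ j}) (by simpa using pow_mem hd j) hy hy1
    (mem_centralizer_singleton_iff.2 hc)
  have hv := hk' _ rfl
  have ho : orderOf (k * d ^ j * k⁻¹) = orderOf (d ^ j) :=
    (MulAut.conj k).orderOf_eq (d ^ j)
  have h := (ih _ hv (fun e => hj.ne_one (by rw [← ho, e, orderOf_one]))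
    (hC _ hv (ho ▸ hj))).1
  obtain ⟨n, hn⟩ := h ⟨k * y * k⁻¹, R.norm' (Dg_le hk.1) hy, mem_centralizer_singleton_iff.2 (by
    calc k * y * k⁻¹ * (k * d ^ j * k⁻¹) = k * (y * d ^ j) * k⁻¹ := by group
      _ = _ := by rw [hc]; group)⟩
  have h3 : (k * y * k⁻¹) ^ 2 ^ n = 1 := congrArg Subtype.val hn
  rw [conj_pow, mul_inv_eq_one, mul_eq_left] at h3
  have h4 := orderOf_dvd_of_pow_eq_one h3
  exact hy1 (orderOf_eq_one_iff.1 (Nat.Coprime.eq_one_of_dvd
    (Nat.Coprime.pow_right n (Nat.coprime_two_right.2 hodd)) h4))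

end RO

theorem exists_order_four {Q : Subgroup G} (hp : IsPGroup 2 Q) {x : G} (hx : x ∈ Q)
    (h : x * x ≠ 1) : ∃ y ∈ Q, y * y ≠ 1 ∧ y * y * (y * y) = 1 := by
  obtain ⟨n, hn⟩ := hp ⟨x, hx⟩
  replace hn : x ^ 2 ^ n = 1 := congrArg Subtype.val hn
  induction n generalizing x with
  | zero => exact absurd (by simpa using hn) (fun e : x = 1 => h (by simp [e]))
  | succ n ih =>
    by_cases h4 : x * x * (x * x) = 1
    · exact ⟨x, hx, h, h4⟩
    · exact ih (mul_mem hx hx) h4 (by rw [← pow_two, ← pow_mul, ← pow_succ', hn])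

theorem eq_of_sq_count {q a : ℕ} (hq : 2 ≤ q) (h : q ^ 2 = q + (q - 1) * a) : a = q := by
  obtain ⟨m, rfl⟩ := Nat.exists_eq_add_of_le' hq
  have : (m + 1) * a = (m + 1) * (m + 2) := by
    simp only [show m + 2 - 1 = m + 1 from rfl] at h
    nlinarith
  exact Nat.eq_of_mul_eq_mul_left (Nat.succ_pos m) this

theorem eq_of_cube_count {q a : ℕ} (hq : 2 ≤ q) (h : q ^ 3 = q + (q - 1) * a) :
    a = q * (q + 1) := by
  obtain ⟨m, rfl⟩ := Nat.exists_eq_add_of_le' hq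
  have : (m + 1) * a = (m + 1) * ((m + 2) * (m + 2 + 1)) := by
    simp only [show m + 2 - 1 = m + 1 from rfl] at h
    nlinarith
  exact Nat.eq_of_mul_eq_mul_left (Nat.succ_pos m) this

theorem two_le_card_Q0 {Y : Subgroup G} (h : Rank2 Y) : 2 ≤ Nat.card (Q0g Y) := by
  obtain ⟨x, hx, -, -, hx1, -, -, hxx, -⟩ := h
  exact (one_lt_card_iff_ne_bot _).2 fun e => hx1 (by simpa [e] using mem_Q0g_of hx hxx)

theorem rt_eq_empty {Y : Subgroup G} (hs : s ≠ 1) (h : ∀ x ∈ Y, x * x = 1) :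
    (Rt Y s).ncard = 0 := by
  have : Rt Y s = ∅ := Set.eq_empty_of_forall_notMem fun y hy => hs (hy.2 ▸ h y hy.1)
  rw [this, Set.ncard_empty]

theorem RO.c1_case (R : RO H Q t) (h2 : Rank2 Q) (hs : Dist Q t s r) (hcore : H.normalCore = ⊥)
    (ih : IH H Q t s r) (hV : Vg H t ≠ ⊥)
    (hC : ∀ v ∈ Vg H t, (orderOf v).Prime → Rank2 (Q ⊓ centralizer {v})) :
    Typ (Dg H t) Q s r := by
  have hQ := R.isPGroup_of_C1 h2 hs ih hC
  refine ⟨hQ, ?_⟩
  obtain ⟨⟨v₀, hv₀⟩, hv₀1⟩ := ne_bot_iff_exists_ne_one.1 hV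
  obtain ⟨j, hp⟩ := exists_pow_prime_order (d := v₀) fun e => hv₀1 (Subtype.ext e)
  have hv := pow_mem hv₀ j
  generalize v₀ ^ j = v at hp hv
  have hv1 : v ≠ 1 := fun e => hp.ne_one (by rw [e, orderOf_one])
  have hT := (ih v hv hv1 (hC v hv hp)).2
  have hq := R.not_dvd_Q0 h2 (Vg_le_Dg hv) hp
  have hm := R.rt_modEq hs hv hp
  have hl := R.Q0_modEq h2 (Vg_le_Dg hv) hp
  have hq2 := two_le_card_Q0 h2
  have hl2 := two_le_card_Q0 (hC v hv hp)
  by_cases hab : IsMulCommutative Q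
  · left
    by_contra hc
    push Not at hc
    obtain ⟨x, hx, hx1⟩ := hc
    have hab' := isMulCommutative_iff'.1 hab
    obtain ⟨y, hy, hy1, hy2⟩ := exists_order_four hQ hx hx1
    obtain ⟨k, hk, e⟩ := R.exists_K_conj hs (mul_mem hy hy) hy1 hy2
    have hy0 : k * y * k⁻¹ ∈ Rt Q s := ⟨R.norm' (Dg_le hk.1) hy, by
      calc k * y * k⁻¹ * (k * y * k⁻¹) = k * (y * y) * k⁻¹ := by group
        _ = s := by rw [e]; group⟩
    generalize k * y * k⁻¹ = z at hy0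
    have hcard : (Rt Q s).ncard = Nat.card (Q0g Q) := by
      rw [← Nat.card_coe_set_eq]
      refine Nat.card_congr ⟨fun a => ⟨z⁻¹ * a, mem_Q0g_of (mul_mem (inv_mem hy0.1) a.2.1) ?_⟩,
        fun u => ⟨z * u, mul_mem hy0.1 (Q0g_le u.2), ?_⟩, fun a => by simp, fun u => by simp⟩
      · have h1 := hab' _ (inv_mem hy0.1) _ a.2.1
        calc z⁻¹ * a * (z⁻¹ * a) = z⁻¹ * (a * z⁻¹) * a := by group
          _ = (z * z)⁻¹ * (a * a) := by rw [← h1]; group
          _ = 1 := by rw [hy0.2, a.2.2, inv_mul_cancel]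
      · have h1 := hab' _ hy0.1 _ (Q0g_le u.2)
        calc z * u * (z * u) = z * (u * z) * u := by group
          _ = (z * z) * (u * u) := by rw [← h1]; group
          _ = s := by rw [hy0.2, ((R.mem_Q0 h2).1 u.2).2, mul_one]
    have hna : IsMulCommutative ↥(Q ⊓ centralizer {v}) :=
      isMulCommutative_iff'.2 fun x hx y hy => hab' x hx.1 y hy.1
    rcases hT with h | h | h
    · rw [rt_eq_empty hs.s_ne h, hcard] at hm
      exact hq (Nat.modEq_zero_iff_dvd.1 hm)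
    · exact h.1 hna
    · exact h.1 hna
  right
  obtain ⟨hsq, -, -, hcard⟩ := (R.sz2 h2 hQ).higman hab
  have c1 := R.card_Q_eq_rt h2 hs hsq
  have c2 := R.card_cent_eq_rt h2 hs hsq hv
  have key : ∀ a b : ℕ, a ≡ b [MOD orderOf v] → ¬ a * (a + 1) ≡ b [MOD orderOf v] ∨
      orderOf v ∣ a := by
    intro a b hab
    by_cases h : a * (a + 1) ≡ b [MOD orderOf v]
    · right
      have h3 : a + a * a ≡ a + 0 [MOD orderOf v] := by
        have := h.trans hab.symm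
        rwa [show a * (a + 1) = a + a * a by ring, ← add_zero a, add_zero a] at this
      exact hp.dvd_of_dvd_pow (n := 2) (by
        rw [pow_two]; exact Nat.modEq_zero_iff_dvd.1 (Nat.ModEq.add_left_cancel' _ h3))
    · exact Or.inl h
  rcases hcard with hcard | hcard
  · left
    refine ⟨hab, hcard, ?_⟩
    rw [eq_of_sq_count hq2 (hcard.symm.trans c1)] at hm
    rcases hT with h | h | h
    · rw [rt_eq_empty hs.s_ne h] at hm
      exact absurd (Nat.modEq_zero_iff_dvd.1 hm) hq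
    · exact h.2.2
    · rw [eq_of_cube_count hl2 (h.2.1.symm.trans c2)] at hm
      rcases key _ _ hl.symm with h3 | h3
      · exact absurd hm.symm h3
      · exact absurd ((hl.dvd_iff dvd_rfl).2 h3) hq
  right
  rw [eq_of_cube_count hq2 (hcard.symm.trans c1)] at hm
  have hnB : ¬ Nat.card ↥(Q ⊓ centralizer {v}) = Nat.card (Q0g (Q ⊓ centralizer {v})) ^ 2 := by
    intro h
    rw [eq_of_sq_count hl2 (h.symm.trans c2)] at hm
    exact (key _ _ hl).elim (fun h3 => h3 hm) hq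
  refine ⟨hab, hcard, ?_, ?_⟩
  · rcases hT with h | h | h
    · exact R.r_eq_s hs (h r ⟨hs.r_mem, mem_centralizer_singleton_iff.2 (R.V_comm_r hs hv)⟩)
    · exact absurd h.2.1 hnB
    · exact h.2.2.1
  by_cases hW : Wg H Q t = ⊥
  swap
  · obtain ⟨⟨w, hw⟩, hw1⟩ := ne_bot_iff_exists_ne_one.1 hW
    refine ⟨w, hw.1, fun u hu huu => hw.2 u (mem_Q0g_of hu huu), ?_⟩
    by_contra hc
    push Not at hc
    have : w ∈ H.normalCore := R.mem_normalCore_iff.2 ⟨hw.1, hc⟩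
    rw [hcore, mem_bot] at this
    exact hw1 (Subtype.ext this)
  exfalso
  rcases hT with h | h | ⟨-, -, -, w, hw, h3, x, hx, h4⟩
  · rw [rt_eq_empty hs.s_ne h] at hm
    have h5 : orderOf v ∣ Nat.card (Q0g Q) + 1 :=
      ((Nat.Prime.dvd_mul hp).1 (Nat.modEq_zero_iff_dvd.1 hm)).resolve_left hq
    have h6 : ¬ orderOf v ∣ Nat.card (Kg H t) := by
      intro h6
      rw [← R.card_Kg h2, add_assoc] at h5
      have h7 := (Nat.prime_dvd_prime_iff_eq hp Nat.prime_two).1 ((Nat.dvd_add_right h6).1 h5)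
      have h8 := R.odd_orderOf (Vg_le_Dg hv)
      rw [h7] at h8
      exact absurd h8 (by decide)
    have hvK : zpowers v ≤ normalizer (Kg H t : Set G) := zpowers_le_normalizer fun k hk =>
      (R.mem_Kg h2).2 (R.K_conj_V ((R.mem_Kg h2).1 hk) hv)
    have hK0 : ⁅Kg H t, zpowers v⁆ ≤ Kg H t := Cop.commutator_le_left_of_le_normalizer hvK
    have hf : ⁅Kg H t, zpowers v⁆ ⊓ centralizer {v} = ⊥ := by
      rw [← centralizer_zpowers']
      exact Cop.commutator_inf_centralizer_eq_bot hvK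
        (by rw [Nat.card_zpowers]; exact (Nat.Prime.coprime_iff_not_dvd hp).2 h6)
        (isMulCommutative_iff'.2 fun a ha b hb =>
          R.K_comm h2 ((R.mem_Kg h2).1 ha) ((R.mem_Kg h2).1 hb))
    have hne : ⁅Kg H t, zpowers v⁆ ≠ ⊥ := by
      intro e
      have h7 := Cop.commutator_eq_bot_iff_le_centralizer'.1 e (mem_zpowers v)
      have : v ∈ Wg H Q t := R.mem_W_iff.2 ⟨hv, fun k hk => h7 k ((R.mem_Kg h2).2 hk)⟩
      rw [hW, mem_bot] at this
      exact hv1 this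
    have hvK0 : zpowers v ≤ normalizer ((⁅Kg H t, zpowers v⁆ : Subgroup G) : Set G) :=
      Cop.le_normalizer_commutator hvK Subgroup.le_normalizer
    have e1 := R.card_eq_pow h2 hp hK0 hne hvK0 hf le_rfl
      (fun k hk y hy => R.norm k (Dg_le (Kg_le_Dg (hK0 hk))) y hy)
      (fun y hy => R.norm v (Dg_le (Vg_le_Dg hv)) y hy)
      (fun h7 => hq (hp.dvd_of_dvd_pow (hcard ▸ h7)))
    have e2 := R.card_eq_pow h2 hp hK0 hne hvK0 hf Q0g_le
      (fun k hk y hy => R.Q0_norm h2 (Dg_le (Kg_le_Dg (hK0 hk))) hy)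
      (fun y hy => R.Q0_norm h2 (Dg_le (Vg_le_Dg hv)) hy) hq
    have e3 : Q0g Q ⊓ centralizer {v} = Q ⊓ centralizer {v} :=
      le_antisymm (inf_le_inf_right _ Q0g_le) fun x hx => ⟨mem_Q0g_of hx.1 (h x hx), hx.2⟩
    rw [e3, ← e1, hcard] at e2
    have := Nat.pow_lt_pow_right (lt_of_lt_of_le one_lt_two hq2) (show 1 < 3 by norm_num)
    rw [pow_one, ← e2] at this
    exact lt_irrefl _ this
  · exact hnB h.2.1
  · have hwV : w ∈ Vg H t := R.mem_V_of_comm_s hs hw.1 (h3 s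
      ⟨hs.s_mem, mem_centralizer_singleton_iff.2 (R.V_comm_s hs hv)⟩ hs.ss)
    obtain ⟨j, w', hw', rfl⟩ := R.mem_zpowers_sup_W h2 hv hwV fun u hu huv =>
      h3 u ⟨Q0g_le hu, mem_centralizer_singleton_iff.2 huv⟩ ((R.mem_Q0 h2).1 hu).2
    rw [hW, mem_bot] at hw'
    rw [hw', mul_one] at h4
    exact h4 (Commute.pow_right (mem_centralizer_singleton_iff.1 hx.2) j).eq

end CfsgLib.Suz
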