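import Mathlib
import Cfsg.Agent.Lib.Suz.C1
import Cfsg.Agent.Lib.Blk.BS
import Cfsg.Agent.Lib.FT.Main
import Cfsg.Agent.Lib.CoreSolvable

/-! Hypothesis `RO` with a unique involution in `Q`: modulo the kernel of the action there is a
regular elementary abelian normal subgroup (Brauer–Suzuki and Feit–Thompson). -/

set_option autoImplicit false
set_option linter.unusedSectionVars false
set_option linter.style.haveILetI false

namespace CfsgLib.Suz
open Subgroup Cfsg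
open scoped commutatorElement IsMulCommutative

theorem card_le_pow_ker {A : Type*} [AddCommGroup A] [Finite A] (g : AddMonoid.End A) (n : ℕ)
    (h : g ^ n = 0) : Nat.card A ≤ Nat.card (AddMonoidHom.ker (g : A →+ A)) ^ n := by
  have step : ∀ (g : A →+ A) (B : AddSubgroup A), Nat.card B ≤
      Nat.card (B.map g) * Nat.card g.ker := fun g B => by
    rw [← AddSubgroup.relIndex_ker, ← (g.ker.addSubgroupOf B).index_mul_card]
    refine Nat.mul_le_mul_left _ (Nat.card_le_card_of_injective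
      (fun x => (⟨x.1.1, x.2⟩ : g.ker)) fun a b e => ?_)
    exact Subtype.ext (Subtype.ext (congrArg (fun y : g.ker => (y : A)) e))
  have key : ∀ i : ℕ, Nat.card A ≤ Nat.card ((⊤ : AddSubgroup A).map (g ^ i : AddMonoid.End A)) *
      Nat.card (AddMonoidHom.ker (g : A →+ A)) ^ i := by
    intro i
    induction i with
    | zero =>
      rw [pow_zero, pow_zero, mul_one]
      refine le_of_eq ?_
      have : (⊤ : AddSubgroup A).map (1 : AddMonoid.End A) = ⊤ := AddSubgroup.map_id _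
      rw [this, AddSubgroup.card_top]
    | succ i ih =>
      refine ih.trans ?_
      have e : (⊤ : AddSubgroup A).map (g ^ (i + 1) : AddMonoid.End A) =
          ((⊤ : AddSubgroup A).map (g ^ i : AddMonoid.End A)).map (g : A →+ A) := by
        rw [pow_succ']
        exact (AddSubgroup.map_map _ _ _).symm
      rw [e, pow_succ', ← mul_assoc]
      exact Nat.mul_le_mul_right _ (step _ _)
  have h1 := key n
  have : (⊤ : AddSubgroup A).map (g ^ n : AddMonoid.End A) = ⊥ := by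
    rw [h]
    exact eq_bot_iff.2 (by rintro _ ⟨x, -, rfl⟩; rfl)
  rwa [this, AddSubgroup.card_bot, one_mul] at h1

variable {G : Type*} [Group G] [Finite G]

theorem card_le_pow_cent {F : Subgroup G} {p : ℕ} (hp : p.Prime)
    (hc : ∀ x ∈ F, ∀ y ∈ F, x * y = y * x) (he : ∀ x ∈ F, x ^ p = 1) {w : G}
    (hw : ∀ x ∈ F, w⁻¹ * x * w ∈ F) (hwp : w ^ p = 1) :
    Nat.card F ≤ Nat.card ↥(F ⊓ centralizer {w}) ^ p := by
  haveI : IsMulCommutative F := isMulCommutative_iff'.2 hc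
  let f₀ : F →* F := MonoidHom.mk' (fun x => ⟨w⁻¹ * x * w, hw x x.2⟩) fun a b => Subtype.ext (by
    change w⁻¹ * (a * b) * w = w⁻¹ * a * w * (w⁻¹ * b * w)
    group)
  let f : AddMonoid.End (Additive F) := MonoidHom.toAdditive f₀
  have hf : ∀ (n : ℕ) (x : Additive F), (((f ^ n) x).toMul : G) = (w ^ n)⁻¹ * x.toMul * w ^ n := by
    intro n
    induction n with
    | zero => intro x; simp
    | succ n ih =>
      intro x
      rw [pow_succ' f, AddMonoid.End.coe_mul, Function.comp_apply]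
      change w⁻¹ * ((f ^ n) x).toMul * w = _
      rw [ih, pow_succ]
      group
  have h1 : f ^ p = 1 := by
    ext x
    change (((f ^ p) x).toMul : G) = (x.toMul : G)
    rw [hf, hwp]
    simp
  have h0 : (p : AddMonoid.End (Additive F)) = 0 := by
    ext x
    rw [AddMonoid.End.natCast_apply]
    exact he _ x.toMul.2
  have h2 : (f - 1) ^ p = 0 := by
    obtain ⟨u, hu⟩ := (Commute.one_right (f - 1)).exists_add_pow_prime_eq hp
    rw [sub_add_cancel, h1, h0, one_pow] at hu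
    simpa using hu.symm
  refine (card_le_pow_ker _ p h2).trans (Nat.pow_le_pow_left ?_ p)
  refine Nat.card_le_card_of_injective (fun x => (⟨x.1.toMul, mem_inf.2 ⟨x.1.toMul.2, ?_⟩⟩ :
    ↥(F ⊓ centralizer {w}))) fun a b e => Subtype.ext (Subtype.ext
      (congrArg (fun y : ↥(F ⊓ centralizer {w}) => (y : G)) e))
  have h3 : f x.1 - x.1 = 0 := x.2
  rw [sub_eq_zero] at h3
  have h4 : w⁻¹ * (x.1.toMul : G) * w = x.1.toMul := congrArg (fun y : Additive F => (y.toMul : G)) h3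
  rw [mem_centralizer_singleton_iff]
  calc (x.1.toMul : G) * w = w * (w⁻¹ * x.1.toMul * w) := by group
    _ = _ := by rw [h4]

/-- The affine structure of a subgroup `C` of 2-rank one modulo the kernel `N`. -/
structure Aff (H Q : Subgroup G) (t s : G) (C N R : Subgroup G) (l : ℕ) : Prop where
  prime : l.Prime
  le : R ≤ C
  N_le : N ≤ R
  norm : ∀ c ∈ C, ∀ x ∈ R, c⁻¹ * x * c ∈ R
  inf : ∀ x ∈ R, x ∈ H → x ∈ N
  pow : ∀ x ∈ R, x ^ l ∈ N
  comm : ∀ x ∈ R, ∀ y ∈ R, ⁅x, y⁆ ∈ N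
  dec : ∀ g ∈ C, ∃ h ∈ H, ∃ n ∈ R, g = h * n
  st_mem : s * t ∈ R
  trans : ∀ x ∈ R, x ∉ N → ∃ y ∈ Q ⊓ C, ∃ n ∈ N, x = y⁻¹ * (s * t) * y * n
  card : Nat.card R = (Nat.card ↥(Q ⊓ C) + 1) * Nat.card N
  ppow : ∃ m, Nat.card ↥(Q ⊓ C) + 1 = l ^ m
  bound : ∀ w ∈ Vg H t, w ∈ C → w ^ l = 1 →
    Nat.card ↥(Q ⊓ C) + 1 ≤ (Nat.card ↥(Q ⊓ C ⊓ centralizer {w}) + 1) ^ l

variable {H Q : Subgroup G} {t s r : G}

theorem eq_of_not_rank2 {Y : Subgroup G} (h1 : ¬ Rank2 Y) (hs : s ∈ Y) (hs1 : s ≠ 1)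
    (hss : s * s = 1) {u : G} (hu : u ∈ Y) (huu : u * u = 1) : u = 1 ∨ u = s := by
  by_contra hc
  push Not at hc
  exact h1 ⟨u, hu, s, hs, hc.1, hs1, hc.2, huu, hss⟩

theorem RO.st_notMem (R : RO H Q t) (hs : Dist Q t s r) : s * t ∉ H := fun h =>
  R.t_notMem (by simpa using mul_mem (inv_mem (R.le hs.s_mem)) h)

theorem RO.aff_of_core (R : RO H Q t) (hs : Dist Q t s r) (h1 : ¬ Rank2 Q)
    (hcore : H.normalCore = ⊥) : ∃ F l, Aff H Q t s ⊤ ⊥ F l := by
  haveI : Fact (Nat.Prime 2) := Nat.fact_prime_two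
  have hU : Blk.UniqInv s := ⟨orderOf_eq_prime (by rw [pow_two, hs.ss]) hs.s_ne, fun u hu e => by
    rw [pow_two] at hu
    exact eq_of_not_rank2 h1 hs.s_mem hs.s_ne hs.ss
      (R.mem_Q_of_invol (R.mem_H_of_comm hs.s_mem hs.s_ne e.symm) hu) hu⟩
  have hO : pPrimeCore 2 G ≠ ⊥ := fun e => by
    have := Blk.brauer_suzuki G s hU t
    rw [e, mem_bot, mul_inv_eq_one, mul_inv_eq_iff_eq_mul] at this
    exact R.t_notMem (R.mem_H_of_comm hs.s_mem hs.s_ne this.symm)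
  haveI := pPrimeCore_characteristic (G := G) 2
  obtain ⟨F, hF, hFO⟩ := exists_isMinNormal_le _ hO
  obtain ⟨l, hl, hab, he⟩ := hF.exists_isElementaryAbelian (FT.feit_thompson
    (Nat.coprime_two_right.1 ((pPrimeCore_coprime 2).coprime_dvd_left (card_dvd_of_le hFO))))
  have hab' := isMulCommutative_iff'.1 hab
  haveI hN := hF.1
  have hFH : ¬ F ≤ H := fun h => hF.2.1 (eq_bot_iff.2 (hcore ▸ normal_le_normalCore.2 h))
  have hdec : ∀ g, ∃ h ∈ H, ∃ n ∈ F, g = h * n := by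
    obtain ⟨n, hn, hnH⟩ := SetLike.not_le_iff_exists.1 hFH
    obtain ⟨h₀, hh₀, y₀, hy₀, e⟩ := R.canon n hnH
    intro g
    by_cases hg : g ∈ H
    · exact ⟨g, hg, 1, one_mem _, by simp⟩
    obtain ⟨h, hh, y, hy, rfl⟩ := R.canon g hg
    refine ⟨h * h₀⁻¹ * (y₀⁻¹ * y), mul_mem (mul_mem hh (inv_mem hh₀))
      (R.le (mul_mem (inv_mem hy₀) hy)), (y₀⁻¹ * y)⁻¹ * n * (y₀⁻¹ * y)⁻¹⁻¹,
      hN.conj_mem n hn _, ?_⟩
    rw [e]
    group
  have hinf : ∀ x ∈ F, x ∈ H → x ∈ (⊥ : Subgroup G) := by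
    intro x hx hxH
    rw [← hcore]
    intro g
    obtain ⟨h, hh, n, hn, rfl⟩ := hdec g
    have : h * n * x * (h * n)⁻¹ = h * x * h⁻¹ := by
      rw [mul_assoc h, hab' n hn x hx]
      group
    rw [this]
    exact mul_mem (mul_mem hh hxH) (inv_mem hh)
  have hcard : Nat.card F = Nat.card Q + 1 := by
    rw [← R.index_H]
    refine Nat.card_congr (Equiv.ofBijective (fun x => ((x : G) : G ⧸ H)) ⟨fun a b e => ?_,
      fun c => ?_⟩)
    · have := hinf _ (mul_mem (inv_mem a.2) b.2) (QuotientGroup.eq.1 e)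
      exact Subtype.ext (inv_mul_eq_one.1 (mem_bot.1 this))
    · induction c using QuotientGroup.induction_on with
      | H g =>
        obtain ⟨h, hh, n, hn, e⟩ := hdec g⁻¹
        refine ⟨⟨n⁻¹, inv_mem hn⟩, QuotientGroup.eq.2 ?_⟩
        have : g = n⁻¹ * h⁻¹ := by rw [← mul_inv_rev, ← e, inv_inv]
        rw [this]
        simpa using hh
  have hst : s * t ∈ F := by
    obtain ⟨g, e⟩ := R.invol_conj_s hs R.t_ne R.tt
    obtain ⟨h, hh, n, hn, rfl⟩ := hdec g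
    have h3 : h⁻¹ * s * h = s := by
      refine (eq_of_not_rank2 h1 hs.s_mem hs.s_ne hs.ss (R.norm h hh s hs.s_mem) ?_).resolve_left
        fun e => hs.s_ne (by simpa [mul_assoc, inv_mul_eq_one] using e)
      calc h⁻¹ * s * h * (h⁻¹ * s * h) = h⁻¹ * (s * s) * h := by group
        _ = 1 := by rw [hs.ss]; group
    have : s * t = s * n⁻¹ * s⁻¹ * n := by
      rw [inv_eq_of_mul_self hs.ss, e]
      calc s * ((h * n)⁻¹ * s * (h * n)) = s * n⁻¹ * (h⁻¹ * s * h) * n := by group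
        _ = _ := by rw [h3]
    rw [this]
    exact mul_mem (hN.conj_mem _ (inv_mem hn) _) hn
  have hinj : ∀ y ∈ Q, ∀ y' ∈ Q, y⁻¹ * (s * t) * y = y'⁻¹ * (s * t) * y' → y = y' := by
    intro y hy y' hy' e
    by_contra hne
    refine R.st_notMem hs (R.mem_H_of_comm (mul_mem hy (inv_mem hy'))
      (fun e => hne (mul_inv_eq_one.1 e)) ?_)
    calc y * y'⁻¹ * (s * t) = y * (y'⁻¹ * (s * t) * y') * y'⁻¹ := by group
      _ = _ := by rw [← e]; group
  have htrans : ∀ x ∈ F, x ≠ 1 → ∃ y ∈ Q, x = y⁻¹ * (s * t) * y := by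
    intro x hx hx1
    let f : Option Q → F := fun o => o.elim 1 fun y => ⟨(y : G)⁻¹ * (s * t) * y, hN.conj_mem' _ hst _⟩
    have hne : ∀ y : G, y⁻¹ * (s * t) * y ≠ 1 := fun y e => R.st_notMem hs (by
      have : s * t = 1 := by
        calc s * t = y * (y⁻¹ * (s * t) * y) * y⁻¹ := by group
          _ = 1 := by rw [e]; group
      rw [this]; exact one_mem _)
    have hf : Function.Injective f := by
      rintro (_ | a) (_ | b) e
      · rfl
      · exact absurd (congrArg Subtype.val e).symm (hne _)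
      · exact absurd (congrArg Subtype.val e) (hne _)
      · exact congrArg some (Subtype.ext (hinj _ a.2 _ b.2 (congrArg Subtype.val e)))
    obtain ⟨_ | y, e⟩ := (hf.bijective_of_nat_card_le (by
      rw [hcard, Finite.card_option])).2 ⟨x, hx⟩
    · exact absurd (congrArg Subtype.val e).symm hx1
    · exact ⟨y, y.2, (congrArg Subtype.val e).symm⟩
  haveI := Fact.mk hl
  refine ⟨F, l, hl, le_top, bot_le, fun c _ x hx => hN.conj_mem' x hx c, hinf,
    fun x hx => he x hx, fun x hx y hy => mem_bot.2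
      (commutatorElement_eq_one_iff_mul_comm.2 (hab' x hx y hy)), fun g _ => hdec g, hst,
    fun x hx hx1 => ?_, by rw [inf_top_eq, card_bot, mul_one, hcard], ?_, fun w hw _ hwl => ?_⟩
  · obtain ⟨y, hy, e⟩ := htrans x hx hx1
    exact ⟨y, ⟨hy, mem_top _⟩, 1, one_mem _, by rw [e, mul_one]⟩
  · rw [inf_top_eq, ← hcard]
    exact IsPGroup.iff_card.1 fun x => ⟨1, Subtype.ext (by simpa using he x x.2)⟩
  · rw [inf_top_eq, ← hcard]
    refine (card_le_pow_cent hl hab' he (fun x hx => hN.conj_mem' x hx w) hwl).trans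
      (Nat.pow_le_pow_left ?_ l)
    have hwst : w⁻¹ * (s * t) * w = s * t := by
      rw [mul_assoc, mul_assoc, (mem_Vg_iff.1 hw).2, ← mul_assoc s, R.V_comm_s hs hw]
      group
    let f : Option ↥(Q ⊓ centralizer {w}) → ↥(F ⊓ centralizer {w}) := fun o =>
      o.elim 1 fun y => ⟨(y : G)⁻¹ * (s * t) * y, mem_inf.2 ⟨hN.conj_mem' _ hst _,
        mul_mem (mul_mem (inv_mem (mem_inf.1 y.2).2) (mem_centralizer_singleton_iff.2 (by
          calc s * t * w = w * (w⁻¹ * (s * t) * w) := by group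
            _ = _ := by rw [hwst]))) (mem_inf.1 y.2).2⟩⟩
    rw [← Finite.card_option]
    refine Nat.card_le_card_of_surjective f fun x => ?_
    by_cases hx1 : (x : G) = 1
    · exact ⟨none, Subtype.ext hx1.symm⟩
    obtain ⟨y, hy, e⟩ := htrans x (mem_inf.1 x.2).1 hx1
    have h3 := mem_centralizer_singleton_iff.1 (mem_inf.1 x.2).2
    have h4 : w⁻¹ * y * w = y := hinj _ (R.norm w (Dg_le (Vg_le_Dg hw)) y hy) _ hy (by
      calc (w⁻¹ * y * w)⁻¹ * (s * t) * (w⁻¹ * y * w)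
          = (w⁻¹ * y * w)⁻¹ * (w⁻¹ * (s * t) * w) * (w⁻¹ * y * w) := by rw [hwst]
        _ = w⁻¹ * (y⁻¹ * (s * t) * y * w) := by group
        _ = _ := by rw [← e, h3]; group)
    refine ⟨some ⟨y, mem_inf.2 ⟨hy, mem_centralizer_singleton_iff.2 ?_⟩⟩, Subtype.ext e.symm⟩
    calc y * w = w * (w⁻¹ * y * w) := by group
      _ = _ := by rw [h4]

theorem RO.aff (R : RO H Q t) (hs : Dist Q t s r) (h1 : ¬ Rank2 Q) :
    ∃ F l, Aff H Q t s ⊤ H.normalCore F l := by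
  let φ := QuotientGroup.mk' H.normalCore
  have hker : φ.ker = H.normalCore := QuotientGroup.ker_mk' _
  have hφ : φ.ker ≤ H := by rw [hker]; exact normalCore_le H
  have hsurj : Function.Surjective φ := QuotientGroup.mk'_surjective _
  have R' := R.map φ hφ hsurj
  have hcore : (H.map φ).normalCore = ⊥ := eq_bot_iff.2 fun x hx => by
    obtain ⟨x, rfl⟩ := hsurj x
    rw [mem_bot, ← MonoidHom.mem_ker, hker]
    intro g
    rw [← RO.mem_map_H φ hφ, map_mul, map_mul, map_inv]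
    exact hx (φ g)
  obtain ⟨F, l, A⟩ := R'.aff_of_core (R.dist_map φ hφ hs)
    (fun h => h1 ((R.rank2_map φ hφ).1 h)) hcore
  have hm : ∀ x, x ∈ H.normalCore ↔ φ x ∈ (⊥ : Subgroup _) := fun x => by
    rw [mem_bot, ← MonoidHom.mem_ker, hker]
  have hQ : Nat.card ↥(Q.map φ ⊓ ⊤) = Nat.card ↥(Q ⊓ ⊤) := by
    rw [inf_top_eq, inf_top_eq, R.card_map_Q φ hφ]
  refine ⟨F.comap φ, l, A.prime, le_top, fun x hx => A.N_le ((hm x).1 hx), fun c _ x hx => ?_,
    fun x hx hxH => (hm x).2 (A.inf _ hx ⟨x, hxH, rfl⟩), fun x hx => (hm _).2 ?_,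
    fun x hx y hy => (hm _).2 ?_, fun g _ => ?_, ?_, fun x hx hxN => ?_, ?_, hQ ▸ A.ppow,
    fun w hw _ hwl => ?_⟩
  · rw [mem_comap, map_mul, map_mul, map_inv]
    exact A.norm _ (mem_top _) _ hx
  · rw [map_pow]
    exact A.pow _ hx
  · rw [map_commutatorElement]
    exact A.comm _ hx _ hy
  · obtain ⟨_, ⟨h, hh, rfl⟩, n, hn, e⟩ := A.dec (φ g) (mem_top _)
    refine ⟨h, hh, h⁻¹ * g, ?_, by group⟩
    rw [mem_comap, map_mul, map_inv, e, inv_mul_cancel_left]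
    exact hn
  · rw [mem_comap, map_mul]
    exact A.st_mem
  · obtain ⟨_, ⟨⟨y, hy, rfl⟩, -⟩, n, hn, e⟩ := A.trans _ hx fun h => hxN ((hm x).2 h)
    refine ⟨y, ⟨hy, mem_top _⟩, (y⁻¹ * (s * t) * y)⁻¹ * x, (hm _).2 ?_, by group⟩
    simp only [map_mul, map_inv]
    rw [e, inv_mul_cancel_left]
    exact hn
  · have h2 := A.card
    rw [card_bot, mul_one] at h2
    rw [← hQ, ← h2]
    have h3 : H.normalCore ≤ F.comap φ := fun x hx => A.N_le ((hm x).1 hx)
    rw [← (H.normalCore.subgroupOf (F.comap φ)).index_mul_card,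
      Nat.card_congr (subgroupOfEquivOfLe h3).toEquiv]
    congr 1
    change H.normalCore.relIndex (F.comap φ) = _
    have h4 := relIndex_ker (F.comap φ) φ
    rwa [hker, map_comap_eq_self_of_surjective hsurj] at h4
  · have hw' : φ w ∈ Vg (H.map φ) (φ t) := mem_Vg_iff.2 ⟨by
      rw [RO.Dg_map φ hφ]; exact ⟨w, Vg_le_Dg hw, rfl⟩, by
      rw [← map_mul, ← map_mul, (mem_Vg_iff.1 hw).2]⟩
    have h3 := A.bound (φ w) hw' (mem_top _) (by rw [← map_pow, hwl, map_one])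
    have h4 : Q.map φ ⊓ ⊤ ⊓ centralizer {φ w} = (Q ⊓ ⊤ ⊓ centralizer {w}).map φ := by
      refine le_antisymm ?_ ?_
      · rintro _ ⟨⟨⟨y, hy, rfl⟩, -⟩, h5⟩
        refine ⟨y, ⟨⟨hy, mem_top _⟩, mem_centralizer_singleton_iff.2 ?_⟩, rfl⟩
        have h6 := mem_centralizer_singleton_iff.1 h5
        have h7 : w⁻¹ * y * w = y := R.map_injOn_Q φ hφ
          (R.norm w (Dg_le (Vg_le_Dg hw)) y hy) hy (by
            rw [map_mul, map_mul, mul_assoc, h6, map_inv, inv_mul_cancel_left])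
        calc y * w = w * (w⁻¹ * y * w) := by group
          _ = _ := by rw [h7]
      · rintro _ ⟨y, ⟨⟨hy, -⟩, h5⟩, rfl⟩
        exact ⟨⟨⟨y, hy, rfl⟩, mem_top _⟩, mem_centralizer_singleton_iff.2 (by
          rw [← map_mul, ← map_mul, mem_centralizer_singleton_iff.1 h5])⟩
    rwa [hQ, h4, card_map_of_injOn φ fun x hx e =>
      R.map_injOn_Q φ hφ (mem_inf.1 (mem_inf.1 hx).1).1 Q.one_mem (e.trans (map_one φ).symm)] at h3

theorem Aff.of_subgroupOf {C : Subgroup G} {t s : C} {N F : Subgroup C} {l : ℕ}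
    (A : Aff (H.subgroupOf C) (Q.subgroupOf C) t s ⊤ N F l) :
    Aff H Q (t : G) (s : G) C (N.map C.subtype) (F.map C.subtype) l := by
  have hc : ∀ B : Subgroup C, Nat.card (B.map C.subtype) = Nat.card B := fun B =>
    card_map_of_injective C.subtype_injective
  have hQ : Nat.card ↥(Q.subgroupOf C ⊓ ⊤) = Nat.card ↥(Q ⊓ C) := by
    rw [inf_top_eq, card_subgroupOf_eq]
  refine ⟨A.prime, map_subtype_le _, map_mono A.N_le, ?_, ?_, ?_, ?_, fun g hg => ?_,
    ⟨_, A.st_mem, rfl⟩, ?_, by rw [hc, hc, A.card, hQ], hQ ▸ A.ppow, fun w hw hwC hwl => ?_⟩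
  · rintro c hc _ ⟨x, hx, rfl⟩
    exact ⟨_, A.norm ⟨c, hc⟩ (mem_top _) x hx, rfl⟩
  · rintro _ ⟨x, hx, rfl⟩ h
    exact ⟨x, A.inf x hx h, rfl⟩
  · rintro _ ⟨x, hx, rfl⟩
    exact ⟨_, A.pow x hx, rfl⟩
  · rintro _ ⟨x, hx, rfl⟩ _ ⟨y, hy, rfl⟩
    exact ⟨_, A.comm x hx y hy, rfl⟩
  · obtain ⟨h, hh, n, hn, e⟩ := A.dec ⟨g, hg⟩ (mem_top _)
    exact ⟨h, hh, n, ⟨n, hn, rfl⟩, congrArg Subtype.val e⟩
  · rintro _ ⟨x, hx, rfl⟩ h
    obtain ⟨y, hy, n, hn, e⟩ := A.trans x hx fun h' => h ⟨x, h', rfl⟩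
    exact ⟨y, ⟨hy.1, y.2⟩, n, ⟨n, hn, rfl⟩, congrArg Subtype.val e⟩
  · have h3 := A.bound ⟨w, hwC⟩ (by rw [Vg_subgroupOf]; exact hw) (mem_top _) (Subtype.ext hwl)
    have h4 : (Q.subgroupOf C ⊓ ⊤ ⊓ centralizer {(⟨w, hwC⟩ : C)}).map C.subtype =
        Q ⊓ C ⊓ centralizer {w} := by
      refine le_antisymm ?_ ?_
      · rintro _ ⟨y, ⟨⟨hy, -⟩, h5⟩, rfl⟩
        exact ⟨⟨hy, y.2⟩, mem_centralizer_singleton_iff.2
          (congrArg Subtype.val (mem_centralizer_singleton_iff.1 h5))⟩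
      · rintro y ⟨⟨hy, hyC⟩, h5⟩
        exact ⟨⟨y, hyC⟩, ⟨⟨hy, mem_top _⟩, mem_centralizer_singleton_iff.2
          (Subtype.ext (mem_centralizer_singleton_iff.1 h5))⟩, rfl⟩
    rwa [hQ, ← hc, h4] at h3

/-- The affine structure of the centralizer of `v ∈ V` of 2-rank one. -/
theorem RO.aff_cent (R : RO H Q t) (hs : Dist Q t s r) {v : G} (hv : v ∈ Vg H t)
    (h1 : ¬ Rank2 (Q ⊓ centralizer {v})) :
    ∃ N F l, Aff H Q t s (centralizer {v}) N F l ∧ ∀ d, d ∈ N ↔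
      d ∈ Dg H t ∧ d * v = v * d ∧ ∀ x ∈ Q, x * v = v * x → x * d = d * x := by
  have hX : ({v} : Set G) ⊆ Vg H t := by simpa using hv
  have R' := R.sub_cent hX
  obtain ⟨F, l, A⟩ := R'.aff (s := ⟨s, R.s_mem_cent hs hX⟩) (r := ⟨r, R.r_mem_cent hs hX⟩)
    (Dist.subgroupOf hs) fun h => h1 (rank2_subgroupOf.1 h)
  refine ⟨_, _, l, A.of_subgroupOf, fun d => ⟨?_, fun ⟨h2, h3, h4⟩ => ?_⟩⟩
  · rintro ⟨d, hd, rfl⟩
    obtain ⟨h2, h3⟩ := R'.mem_normalCore_iff.1 hd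
    rw [Dg_subgroupOf] at h2
    exact ⟨h2, mem_centralizer_singleton_iff.1 d.2, fun x hx e => congrArg Subtype.val
      (h3 ⟨x, mem_centralizer_singleton_iff.2 e⟩ hx)⟩
  · refine ⟨⟨d, mem_centralizer_singleton_iff.2 h3⟩, R'.mem_normalCore_iff.2 ⟨?_, fun x hx =>
      Subtype.ext (h4 x hx (mem_centralizer_singleton_iff.1 x.2))⟩, rfl⟩
    rw [Dg_subgroupOf]
    exact h2

end CfsgLib.Suz
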