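import Mathlib
import Cfsg.Agent.Lib.Suz.Rank1
import Cfsg.Agent.Lib.HallWielandt

/-! Suzuki's theorem, the first case: basic structure. -/

set_option autoImplicit false
set_option linter.unusedSectionVars false
set_option linter.style.haveILetI false

namespace CfsgLib.Suz
open Subgroup Cfsg
open scoped commutatorElement IsMulCommutative

universe u

theorem transfer_pow_mem {G : Type u} [Group G] [Finite G] {B L : Subgroup G} (hL : ⁅B, B⁆ ≤ L)
    {v : G} (hv : v ∈ B) (τ : G ⧸ B → G) (hτ : ∀ ω, (τ ω : G ⧸ B) = ω)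
    (hc : ∀ ω, (τ (v • ω))⁻¹ * v * τ ω * v⁻¹ ∈ L)
    (hf : ∀ (A : Type u) [CommGroup A] (f : G →* A), (∀ g, f g ^ Nat.card B = 1) → f v = 1) :
    v ^ B.index ∈ L := by
  classical
  obtain ⟨A, _, φ, hφ, h0⟩ := HallWielandt.exists_phi_of_commutator_le B L hL
  have h1 : φ 1 = 0 := (h0 1 (one_mem _)).2 (one_mem _)
  have hinv : ∀ x ∈ B, φ x⁻¹ = -φ x := fun x hx => by
    have := hφ x hx _ (inv_mem hx)
    rw [mul_inv_cancel, h1] at this
    exact (neg_eq_of_add_eq_zero_right this.symm).symm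
  let S : PreTransfer.Setup B ⊤ A := ⟨φ, τ, fun _ => mem_top _, hτ,
    fun x hx _ y hy _ => hφ x hx y hy, fun h hh x hx _ => by
      rw [hφ _ (mul_mem hh hx) _ (inv_mem hh), hφ _ hh _ hx, hinv h hh]
      abel⟩
  haveI := Fintype.ofFinite (G ⧸ B)
  let f : G →* Multiplicative A := S.hom.comp (topEquiv.symm : G ≃* (⊤ : Subgroup G)).toMonoidHom
  have hf' : ∀ g, f g = Multiplicative.ofAdd (∑ ω, φ (S.c g ω)) := fun g => rfl
  have h2 := hf (Multiplicative A) f fun g => by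
    rw [hf', ← ofAdd_nsmul, Finset.smul_sum, Finset.sum_eq_zero, ofAdd_zero]
    intro ω _
    have := S.φ_pow (S.c_mem_H g ω) (mem_top _) (Nat.card B)
    rw [pow_card_of_mem (S.c_mem_H g ω)] at this
    exact this.symm.trans h1
  have h3 : ∀ ω, φ (S.c v ω) = φ v := fun ω => by
    have h4 : S.c v ω * v⁻¹ ∈ B := mul_mem (S.c_mem_H v ω) (inv_mem hv)
    have h5 := hφ _ h4 _ hv
    rw [inv_mul_cancel_right, (h0 _ h4).2 (hc ω), zero_add] at h5
    exact h5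
  rw [hf', Finset.sum_congr rfl fun ω _ => h3 ω, Finset.sum_const, Finset.card_univ,
    ← Nat.card_eq_fintype_card] at h2
  refine (h0 _ (pow_mem hv _)).1 ?_
  exact (S.φ_pow hv (mem_top _) _).trans (Multiplicative.ofAdd.injective h2)

variable {G : Type*} [Group G] [Finite G]

theorem card_dvd_ncard_of_free {A : Subgroup G} (S : Set G)
    (hS : ∀ a ∈ A, ∀ x ∈ S, a * x * a⁻¹ ∈ S) (hf : ∀ a ∈ A, ∀ x ∈ S, a * x = x * a → a = 1) :
    Nat.card A ∣ S.ncard := by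
  letI : MulAction A S :=
    { smul := fun g x => ⟨g * x * (g : G)⁻¹, hS g g.2 x x.2⟩
      one_smul := fun x => Subtype.ext (by
        change ((1 : A) : G) * x * ((1 : A) : G)⁻¹ = x; simp)
      mul_smul := fun a b x => Subtype.ext (by
        change ((a * b : A) : G) * x * ((a * b : A) : G)⁻¹ = a * (b * x * (b : G)⁻¹) * (a : G)⁻¹
        simp [mul_assoc]) }
  have h := Nat.card_congr (MulAction.selfEquivOrbitsQuotientProd (G := A) (X := S) fun x =>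
    eq_bot_iff.2 fun a ha => Subtype.ext (hf a a.2 x x.2
      (mul_inv_eq_iff_eq_mul.1 (congrArg Subtype.val ha))))
  rw [Nat.card_prod, Nat.card_coe_set_eq] at h
  exact h ▸ dvd_mul_left _ _

theorem card_modEq_one_of_fpf {K Y : Subgroup G} (hn : ∀ k ∈ K, ∀ y ∈ Y, k * y * k⁻¹ ∈ Y)
    (hf : ∀ k ∈ K, k ≠ 1 → ∀ y ∈ Y, k * y = y * k → y = 1) :
    Nat.card Y ≡ 1 [MOD Nat.card K] := by
  have h := card_dvd_ncard_of_free (A := K) ((Y : Set G) \ {1})
    (fun a ha x hx => ⟨hn a ha x hx.1, fun e => hx.2 (by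
      simpa [mul_inv_eq_iff_eq_mul] using e)⟩)
    (fun a ha x hx e => by_contra fun h => hx.2 (hf a ha h x hx.1 e))
  rw [Set.ncard_sdiff_singleton_of_mem (one_mem Y), ← Nat.card_coe_set_eq] at h
  exact ((Nat.modEq_iff_dvd' Nat.card_pos).2 h).symm

theorem mem_of_pow_mem' {L : Subgroup G} {x : G} {n : ℕ} (h : x ^ n ∈ L)
    (hc : n.Coprime (orderOf x)) : x ∈ L := by
  have : x ∈ zpowers (x ^ n) := mem_zpowers_pow_iff.2 hc
  exact zpowers_le.2 h this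

/-- The first case. -/
structure FC (H Q : Subgroup G) (t s r v : G) (p : ℕ) : Prop extends RO H Q t where
  rank2 : Rank2 Q
  dist : Dist Q t s r
  v_mem : v ∈ Vg H t
  ord : orderOf v = p
  prime : p.Prime
  rank1 : ¬ Rank2 (Q ⊓ centralizer {v})
  core : H.normalCore = ⊥
  perfect : commutator G = ⊤

namespace FC
variable {H Q : Subgroup G} {t s r v : G} {p : ℕ} (C : FC H Q t s r v p)
include C

theorem prime' : (orderOf v).Prime := C.ord ▸ C.prime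
theorem v_D : v ∈ Dg H t := Vg_le_Dg C.v_mem
theorem v_H : v ∈ H := Dg_le C.v_D
theorem odd_p : Odd p := C.ord ▸ C.toRO.odd_orderOf C.v_D
theorem p_ne : p ≠ 2 := fun h => absurd (h ▸ C.odd_p) (by decide)
theorem three_le : 3 ≤ p := lt_of_le_of_ne C.prime.two_le C.p_ne.symm
theorem v_pow : v ^ p = 1 := C.ord ▸ pow_orderOf_eq_one v
theorem v_ne : v ≠ 1 := fun e => C.prime.ne_one (by rw [← C.ord, e, orderOf_one])
theorem sv : s * v = v * s := C.toRO.V_comm_s C.dist C.v_mem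
theorem tv : t * v = v * t := (mem_Vg_iff.1 C.v_mem).2
theorem card_P : Nat.card (zpowers v) = p := by rw [Nat.card_zpowers, C.ord]

theorem P_pow {x : G} (hx : x ∈ zpowers v) : x ^ p = 1 := C.card_P ▸ pow_card_of_mem hx

theorem inv_eq {u : G} (hu : u ∈ Q) (huu : u * u = 1) (h : u * v = v * u) : u = 1 ∨ u = s :=
  eq_of_not_rank2 C.rank1 ⟨C.dist.s_mem, mem_centralizer_singleton_iff.2 C.sv⟩ C.dist.s_ne
    C.dist.ss ⟨hu, mem_centralizer_singleton_iff.2 h⟩ huu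

theorem V_dec {w : G} (hw : w ∈ Vg H t) : ∃ j : ℕ, ∃ w' ∈ Wg H Q t, w = v ^ j * w' := by
  refine C.toRO.mem_zpowers_sup_W C.rank2 C.v_mem hw fun u hu h => ?_
  obtain ⟨h1, h2⟩ := (C.toRO.mem_Q0 C.rank2).1 hu
  rcases C.inv_eq h1 h2 h with rfl | rfl
  · simp
  · exact C.toRO.V_comm_s C.dist hw

theorem v_notMem_W : v ∉ Wg H Q t := fun h => by
  obtain ⟨x, hx, y, hy, h1, h2, h3, h4, h5⟩ := C.rank2
  exact C.rank1 ⟨x, ⟨hx, mem_centralizer_singleton_iff.2 (h.2 x (mem_Q0g_of hx h4))⟩, y,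
    ⟨hy, mem_centralizer_singleton_iff.2 (h.2 y (mem_Q0g_of hy h5))⟩, h1, h2, h3, h4, h5⟩

theorem P_inf_W {x : G} (hx : x ∈ zpowers v) (hW : x ∈ Wg H Q t) : x = 1 := by
  by_contra h
  exact C.v_notMem_W (zpowers_le.2 hW (by
    rw [zpowers_eq_of_prime C.prime' hx h]; exact mem_zpowers v))

theorem conj_s {h : G} (hh : h ∈ H) (e : h * v = v * h) : s * h = h * s := by
  have h1 := C.inv_eq (C.toRO.norm h hh s C.dist.s_mem) (by
    calc h⁻¹ * s * h * (h⁻¹ * s * h) = h⁻¹ * (s * s) * h := by group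
      _ = 1 := by rw [C.dist.ss]; group) (by
    have e' : h⁻¹ * v = v * h⁻¹ := (Commute.inv_left e).eq
    calc h⁻¹ * s * h * v = h⁻¹ * (s * v) * h := by rw [mul_assoc _ h, e]; group
      _ = _ := by rw [C.sv, ← mul_assoc, e']; group)
  rcases h1 with h1 | h1
  · exact absurd (by simpa [mul_assoc, inv_mul_eq_one] using h1) C.dist.s_ne
  · calc s * h = h * (h⁻¹ * s * h) := by group
      _ = _ := by rw [h1]

theorem D_cent {d : G} (hd : d ∈ Dg H t) (e : d * v = v * d) : d ∈ Vg H t :=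
  C.toRO.mem_V_of_comm_s C.dist hd (C.conj_s (Dg_le hd) e)

theorem K_cent {k : G} (hk : k ∈ Kset H t) (e : k * v = v * k) : k = 1 :=
  C.toRO.eq_one_of_K_of_V hk (C.D_cent hk.1 e)

theorem W_conj {d w : G} (hd : d ∈ Dg H t) (hw : w ∈ Wg H Q t) : d⁻¹ * w * d ∈ Wg H Q t := by
  refine mem_inf.2 ⟨mul_mem (mul_mem (inv_mem hd) (Wg_le_Dg hw)) hd, fun u hu => ?_⟩
  have h1 := hw.2 _ (C.toRO.Q0_norm C.rank2 (inv_mem (Dg_le hd)) hu)
  calc u * (d⁻¹ * w * d) = d⁻¹ * (d⁻¹⁻¹ * u * d⁻¹ * w) * d := by group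
    _ = _ := by rw [h1]; group

theorem norm_eq {g : G} (h : g⁻¹ * v * g ∈ zpowers v) : g * v = v * g := by
  have hg : g ∈ normalizer (zpowers v : Set G) := by
    rw [← inv_mem_iff]
    refine mem_normalizer_fintype fun x hx => ?_
    obtain ⟨n, rfl⟩ := mem_zpowers_iff.1 hx
    rw [← conj_zpow]
    exact zpow_mem (by simpa using h) n
  obtain ⟨c, hc, w, hw, rfl⟩ := C.toRO.normalizer_eq (zpowers_le.2 C.v_mem) hg
  have hcv : v * c = c * v := hc v (mem_zpowers v)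
  obtain ⟨j, w', hw', rfl⟩ := C.V_dec hw
  have e : (c * (v ^ j * w'))⁻¹ * v * (c * (v ^ j * w')) = w'⁻¹ * v * w' := by
    calc _ = w'⁻¹ * (v ^ j)⁻¹ * c⁻¹ * (v * c) * v ^ j * w' := by group
      _ = _ := by rw [hcv]; group
  rw [e] at h
  have h1 := C.P_inf_W (mul_mem (inv_mem (mem_zpowers v)) h) (by
    have := mul_mem (C.W_conj C.v_D (inv_mem hw')) hw'
    simpa [mul_assoc] using this)
  have h2 : w' * v = v * w' := by
    calc w' * v = w' * (v * (v⁻¹ * (w'⁻¹ * v * w'))) := by rw [h1, mul_one]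
      _ = _ := by group
  calc c * (v ^ j * w') * v = c * v ^ j * (w' * v) := by group
    _ = c * v * v ^ j * w' := by rw [h2]; group
    _ = _ := by rw [← hcv]; group

theorem card_K_modEq : Nat.card (Kg H t) ≡ 1 [MOD p] := by
  have h := card_modEq_cent C.prime C.v_pow (Kg H t) fun k hk =>
    (C.toRO.mem_Kg C.rank2).2 (C.toRO.K_conj_V ((C.toRO.mem_Kg C.rank2).1 hk) C.v_mem)
  have e : Kg H t ⊓ centralizer {v} = ⊥ := eq_bot_iff.2 fun k hk =>
    C.K_cent ((C.toRO.mem_Kg C.rank2).1 hk.1) (mem_centralizer_singleton_iff.1 hk.2)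
  rwa [e, card_bot] at h

/-- The elements of `H` acting on `Q₀` like an element of `K`. -/
def Lin : Subgroup G where
  carrier := {h | h ∈ H ∧ ∃ k ∈ Kset H t, ∀ u ∈ Q0g Q, h⁻¹ * u * h = k⁻¹ * u * k}
  one_mem' := ⟨one_mem _, 1, C.toRO.K_one, fun _ _ => rfl⟩
  mul_mem' := by
    rintro a b ⟨ha, k, hk, h1⟩ ⟨hb, l, hl, h2⟩
    refine ⟨mul_mem ha hb, k * l, C.toRO.K_mul C.rank2 hk hl, fun u hu => ?_⟩
    calc (a * b)⁻¹ * u * (a * b) = b⁻¹ * (a⁻¹ * u * a) * b := by group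
      _ = _ := by rw [h1 u hu, h2 _ (C.toRO.Q0_norm C.rank2 (Dg_le hk.1) hu)]; group
  inv_mem' := by
    rintro a ⟨ha, k, hk, h1⟩
    refine ⟨inv_mem ha, k⁻¹, C.toRO.K_inv hk, fun u hu => ?_⟩
    have := h1 _ (C.toRO.Q0_norm C.rank2 (Dg_le (C.toRO.K_inv hk).1) hu)
    calc a⁻¹⁻¹ * u * a⁻¹ = a * (k⁻¹ * (k⁻¹⁻¹ * u * k⁻¹) * k) * a⁻¹ := by group
      _ = _ := by rw [← this]; group

theorem Q_le_Lin {x : G} (hx : x ∈ Q) : x ∈ C.Lin :=
  ⟨C.le hx, 1, C.toRO.K_one, fun u hu => by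
    rw [mul_assoc, C.toRO.Q0_central C.rank2 hu hx]; simp⟩

theorem K_le_Lin {x : G} (hx : x ∈ Kset H t) : x ∈ C.Lin :=
  ⟨Dg_le hx.1, x, hx, fun _ _ => rfl⟩

theorem W_le_Lin {x : G} (hx : x ∈ Wg H Q t) : x ∈ C.Lin :=
  ⟨Dg_le hx.1, 1, C.toRO.K_one, fun u hu => by rw [mul_assoc, hx.2 u hu]; simp⟩

theorem v_notMem_Lin : v ∉ C.Lin := by
  rintro ⟨-, k, hk, h⟩
  have h1 := h s (mem_Q0g_of C.dist.s_mem C.dist.ss)
  have hk1 : k = 1 := C.toRO.K_inj C.dist hk C.toRO.K_one (by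
    rw [← h1, mul_assoc, C.sv]; simp)
  refine C.v_notMem_W ⟨C.v_D, fun u hu => ?_⟩
  have := h u hu
  rw [hk1] at this
  calc u * v = v * (v⁻¹ * u * v) := by group
    _ = _ := by rw [this]; group

theorem Lin_conj_v {x : G} (hx : x ∈ C.Lin) : v⁻¹ * x * v ∈ C.Lin := by
  obtain ⟨hx, k, hk, h⟩ := hx
  refine ⟨mul_mem (mul_mem (inv_mem C.v_H) hx) C.v_H, v⁻¹ * k * v,
    C.toRO.K_conj_V hk C.v_mem, fun u hu => ?_⟩
  have := h _ (C.toRO.Q0_norm C.rank2 (inv_mem C.v_H) hu)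
  calc (v⁻¹ * x * v)⁻¹ * u * (v⁻¹ * x * v) = v⁻¹ * (x⁻¹ * (v⁻¹⁻¹ * u * v⁻¹) * x) * v := by group
    _ = _ := by rw [this]; group

theorem H_dec {h : G} (hh : h ∈ H) : ∃ l ∈ C.Lin, ∃ j : ℕ, h = v ^ j * l := by
  obtain ⟨x, hx, d, hd, rfl⟩ := C.dec h hh
  obtain ⟨w, hw, k, hk, rfl⟩ := C.toRO.D_eq_V_mul_K hd
  obtain ⟨j, w', hw', rfl⟩ := C.V_dec hw
  refine ⟨(v ^ j)⁻¹ * x * v ^ j * w' * k, mul_mem (mul_mem (C.Q_le_Lin (C.norm _
    (pow_mem C.v_H j) x hx)) (C.W_le_Lin hw')) (C.K_le_Lin hk), j, by group⟩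

theorem commutator_le_Lin : ⁅H, H⁆ ≤ C.Lin := by
  have hv : zpowers v ≤ normalizer (C.Lin : Set G) :=
    zpowers_le_normalizer fun x hx => C.Lin_conj_v hx
  have hn : ∀ j : ℕ, ∀ x ∈ C.Lin, v ^ j * x * (v ^ j)⁻¹ ∈ C.Lin := fun j x hx =>
    (mem_normalizer_iff.1 (hv (pow_mem (mem_zpowers v) j)) x).1 hx
  rw [commutator_le]
  intro a ha b hb
  obtain ⟨l, hl, i, rfl⟩ := C.H_dec ha
  obtain ⟨m, hm, j, rfl⟩ := C.H_dec hb
  have : ⁅v ^ i * l, v ^ j * m⁆ = (v ^ i * l * (v ^ i)⁻¹) *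
      (v ^ (i + j) * (m * l⁻¹) * (v ^ (i + j))⁻¹) * (v ^ j * m⁻¹ * (v ^ j)⁻¹) := by
    rw [commutatorElement_def]
    group
  rw [this]
  exact mul_mem (mul_mem (hn i l hl) (hn _ _ (mul_mem hm (inv_mem hl)))) (hn j _ (inv_mem hm))

theorem dvd_card_Q : p ∣ Nat.card Q + 1 := by
  have R := C.toRO
  let τ₀ : Option Q → G := fun o => o.elim 1 fun y => (y : G) * t
  have h0 : ∀ o, R.points o = (τ₀ o : G ⧸ H) := by rintro (_ | y) <;> rfl
  have h := transfer_pow_mem C.commutator_le_Lin C.v_H (fun ω => τ₀ (R.points.symm ω))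
    (fun ω => by rw [← h0, Equiv.apply_symm_apply]) (fun ω => ?_) fun A _ f _ => ?_
  · rw [R.index_H] at h
    by_contra hc
    exact C.v_notMem_Lin (mem_of_pow_mem' h (by
      rw [C.ord]; exact ((Nat.Prime.coprime_iff_not_dvd C.prime).2 hc).symm))
  · obtain ⟨o, rfl⟩ := R.points.surjective ω
    rcases o with _ | y
    · have : v • R.points none = R.points none := by
        rw [h0]
        exact QuotientGroup.eq.2 (by simpa [τ₀] using C.v_H)
      rw [this, Equiv.symm_apply_apply]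
      simp [τ₀]
    · have : v • R.points (some y) = R.points (some ⟨v * y * v⁻¹, R.norm' C.v_H y.2⟩) := by
        rw [h0, h0]
        refine QuotientGroup.eq.2 ?_
        change (v * (y * t))⁻¹ * (v * y * v⁻¹ * t) ∈ H
        have : (v * (y * t))⁻¹ * (v * y * v⁻¹ * t) = (v * t)⁻¹ * t := by
          rw [← C.tv]
          calc _ = t⁻¹ * v⁻¹ * t := by group
            _ = (v * t)⁻¹ * t := by group
            _ = _ := by rw [← C.tv]
        rw [this, ← C.tv]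
        simpa using C.v_H
      rw [this, Equiv.symm_apply_apply, Equiv.symm_apply_apply]
      change (v * y * v⁻¹ * t)⁻¹ * v * (y * t) * v⁻¹ ∈ C.Lin
      have : (v * y * v⁻¹ * t)⁻¹ * v * (y * t) * v⁻¹ = t⁻¹ * (v * t) * v⁻¹ := by group
      rw [this, ← C.tv]
      simp
  · have : v ∈ commutator G := C.perfect ▸ mem_top v
    exact Abelianization.commutator_subset_ker f this

theorem not_dvd_Q : ¬ p ∣ Nat.card Q := fun h =>
  C.prime.ne_one (Nat.dvd_one.1 ((Nat.dvd_add_right h).1 C.dvd_card_Q))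

theorem card_eq {Y : Subgroup G} (hY : Y ≤ Q) (hK : ∀ k ∈ Kset H t, ∀ y ∈ Y, k⁻¹ * y * k ∈ Y)
    (hv : ∀ y ∈ Y, v⁻¹ * y * v ∈ Y) :
    Nat.card Y = Nat.card ↥(Y ⊓ centralizer {v}) ^ p := by
  have R := C.toRO
  rw [← C.ord]
  refine R.card_eq_pow C.rank2 C.prime' le_rfl (fun e => ?_) (zpowers_le_normalizer fun k hk =>
    (R.mem_Kg C.rank2).2 (R.K_conj_V ((R.mem_Kg C.rank2).1 hk) C.v_mem))
    (eq_bot_iff.2 fun k hk => C.K_cent ((R.mem_Kg C.rank2).1 hk.1)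
      (mem_centralizer_singleton_iff.1 hk.2)) hY
    (fun k hk => hK k ((R.mem_Kg C.rank2).1 hk)) hv fun h =>
      C.not_dvd_Q (C.ord ▸ h.trans (card_dvd_of_le hY))
  obtain ⟨k, hk, hk1⟩ := R.exists_K_ne_one C.rank2
  exact hk1 (by simpa [e] using (R.mem_Kg C.rank2).2 hk)

theorem card_Q : Nat.card Q = Nat.card ↥(Q ⊓ centralizer {v}) ^ p :=
  C.card_eq le_rfl (fun k hk y hy => C.norm k (Dg_le hk.1) y hy) fun y hy => C.norm v C.v_H y hy

theorem card_Q0 : Nat.card (Q0g Q) = 2 ^ p := by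
  rw [C.card_eq Q0g_le (fun k hk y hy => C.toRO.Q0_norm C.rank2 (Dg_le hk.1) hy)
    fun y hy => C.toRO.Q0_norm C.rank2 C.v_H hy]
  have e : Q0g Q ⊓ centralizer {v} = zpowers s := by
    refine le_antisymm (fun u hu => ?_) (zpowers_le.2 ⟨mem_Q0g_of C.dist.s_mem C.dist.ss,
      mem_centralizer_singleton_iff.2 C.sv⟩)
    obtain ⟨h1, h2⟩ := (C.toRO.mem_Q0 C.rank2).1 hu.1
    rcases C.inv_eq h1 h2 (mem_centralizer_singleton_iff.1 hu.2) with rfl | rfl
    · exact one_mem _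
    · exact mem_zpowers _
  haveI : Fact (Nat.Prime 2) := Nat.fact_prime_two
  rw [e, Nat.card_zpowers, orderOf_eq_prime (by rw [pow_two, C.dist.ss]) C.dist.s_ne]

theorem card_K : Nat.card (Kg H t) + 1 = 2 ^ p := by rw [C.toRO.card_Kg C.rank2, C.card_Q0]

theorem modEq_K {Y : Subgroup G} (hY : Y ≤ Q) (hK : ∀ k ∈ Kset H t, ∀ y ∈ Y, k⁻¹ * y * k ∈ Y) :
    Nat.card Y ≡ 1 [MOD 2 ^ p - 1] := by
  rw [← C.card_K, Nat.add_sub_cancel]
  exact card_modEq_one_of_fpf (fun k hk y hy => by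
    simpa using hK _ (C.toRO.K_inv ((C.toRO.mem_Kg C.rank2).1 hk)) y hy)
    fun k hk hk1 y hy e => C.toRO.K_fpf ((C.toRO.mem_Kg C.rank2).1 hk) hk1 (hY hy) e

theorem dvd_card_QP : p ∣ Nat.card ↥(Q ⊓ centralizer {v}) + 1 := by
  have h := C.dvd_card_Q
  rw [C.card_Q] at h
  haveI := Fact.mk C.prime
  rw [← ZMod.natCast_eq_zero_iff] at h ⊢
  push_cast at h ⊢
  rwa [ZMod.pow_card] at h

theorem card_cent_W {w : G} (hw : w ∈ Wg H Q t) (hwv : w * v = v * w) :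
    Nat.card ↥(Q ⊓ centralizer {w}) =
      Nat.card ↥(Q ⊓ centralizer {v} ⊓ centralizer {w}) ^ p := by
  rw [inf_right_comm]
  refine C.card_eq inf_le_left (fun k hk y hy => mem_inf.2 ⟨C.norm k (Dg_le hk.1) y hy.1, ?_⟩)
    fun y hy => mem_inf.2 ⟨C.norm v C.v_H y hy.1, ?_⟩
  · have : k ∈ centralizer ({w} : Set G) :=
      mem_centralizer_singleton_iff.2 ((C.toRO.mem_W_iff.1 hw).2 k hk)
    exact mul_mem (mul_mem (inv_mem this) (mem_inf.1 hy).2) this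
  · have : v ∈ centralizer ({w} : Set G) := mem_centralizer_singleton_iff.2 hwv.symm
    exact mul_mem (mul_mem (inv_mem this) (mem_inf.1 hy).2) this

theorem W_faithful {w : G} (hw : w ∈ Wg H Q t) (hwv : w * v = v * w)
    (h : ∀ x ∈ Q, x * v = v * x → x * w = w * x) : w = 1 := by
  have h1 := C.card_cent_W hw hwv
  have e : Q ⊓ centralizer {v} ⊓ centralizer {w} = Q ⊓ centralizer {v} :=
    inf_eq_left.2 fun x hx => mem_centralizer_singleton_iff.2
      (h x hx.1 (mem_centralizer_singleton_iff.1 hx.2))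
  rw [e, ← C.card_Q] at h1
  have h2 := eq_of_le_of_card_ge (inf_le_left : Q ⊓ centralizer {w} ≤ Q) h1.ge
  have : w ∈ H.normalCore := C.toRO.mem_normalCore_iff.2 ⟨hw.1, fun x hx =>
    mem_centralizer_singleton_iff.1 (h2.ge hx).2⟩
  rwa [C.core, mem_bot] at this

theorem D_dec {d : G} (hd : d ∈ Dg H t) (e : d * v = v * d) :
    ∃ j : ℕ, ∃ w ∈ Wg H Q t, w * v = v * w ∧ d = v ^ j * w := by
  obtain ⟨j, w, hw, rfl⟩ := C.V_dec (C.D_cent hd e)
  refine ⟨j, w, hw, ?_, rfl⟩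
  calc w * v = (v ^ j)⁻¹ * (v ^ j * w * v) := by group
    _ = _ := by rw [e]; group

theorem D_faithful {d : G} (hd : d ∈ Dg H t) (e : d * v = v * d)
    (h : ∀ x ∈ Q, x * v = v * x → x * d = d * x) : d ∈ zpowers v := by
  obtain ⟨j, w, hw, hwv, rfl⟩ := C.D_dec hd e
  rw [C.W_faithful hw hwv fun x hx hxv => ?_, mul_one]
  · exact pow_mem (mem_zpowers v) j
  · have h1 : x * v ^ j = v ^ j * x := (Commute.pow_right hxv j).eq
    calc x * w = (v ^ j)⁻¹ * (v ^ j * x) * w := by group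
      _ = (v ^ j)⁻¹ * (x * (v ^ j * w)) := by rw [← h1]; group
      _ = _ := by rw [h x hx hxv]; group

theorem exists_aff : ∃ F, Aff H Q t s (centralizer {v}) (zpowers v) F p := by
  obtain ⟨N, F, l, A, hN⟩ := C.toRO.aff_cent C.dist C.v_mem C.rank1
  have e : N = zpowers v := by
    ext d
    rw [hN]
    exact ⟨fun h => C.D_faithful h.1 h.2.1 h.2.2, fun h => ⟨zpowers_le.2 C.v_D h,
      (comm_of_mem_zpowers h rfl).symm, fun x _ e => comm_of_mem_zpowers h e⟩⟩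
  obtain ⟨m, hm⟩ := A.ppow
  have : p = l := (Nat.prime_dvd_prime_iff_eq C.prime A.prime).1
    (C.prime.dvd_of_dvd_pow (hm ▸ C.dvd_card_QP))
  subst this e
  exact ⟨F, A⟩

theorem st_pow : (s * t) ^ p = 1 := by
  obtain ⟨F, A⟩ := C.exists_aff
  have h1 := A.pow _ A.st_mem
  have h2 : t * (s * t) * t = (s * t)⁻¹ := by
    rw [mul_inv_rev, C.toRO.t_inv, inv_eq_of_mul_self C.dist.ss, mul_assoc, C.toRO.tt'']
  have h3 := conj_pow_of_inv C.tt h2 p
  rw [comm_of_mem_zpowers h1 C.tv, C.toRO.tt''] at h3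
  exact eq_of_sq_eq_of_odd C.odd_p (C.P_pow h1) (one_pow _) (by
    rw [mul_one]; exact mul_eq_one_iff_eq_inv.2 h3)

theorem eq_of_st_pow {n : ℕ} (hn : n.Prime) (h : (s * t) ^ n = 1) : p = n := by
  have h1 : s * t ≠ 1 := fun e => C.toRO.st_notMem C.dist (e ▸ one_mem _)
  haveI := Fact.mk hn
  haveI := Fact.mk C.prime
  rw [← orderOf_eq_prime C.st_pow h1, orderOf_eq_prime h h1]

theorem eq_three (h : r = s) : p = 3 := by
  refine C.eq_of_st_pow Nat.prime_three ?_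
  have h1 := C.dist.eq
  rw [h, inv_eq_of_mul_self C.dist.ss] at h1
  calc (s * t) ^ 3 = s * (t * s * t) * s * t := by simp only [pow_succ, pow_zero, one_mul, mul_assoc]
    _ = (s * s) * t * (s * s) * t := by rw [h1]; group
    _ = 1 := by rw [C.dist.ss, one_mul, mul_one, C.tt]

theorem eq_five (h : r * r = s) : p = 5 :=
  C.eq_of_st_pow Nat.prime_five (C.toRO.order_four C.rank2 C.dist
    (h ▸ mem_Q0g_of C.dist.s_mem C.dist.ss) fun e => C.dist.s_ne (by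
      rw [← h, e, C.dist.ss])).2

end FC

end CfsgLib.Suz
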