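import Mathlib
import Cfsg.Agent.Lib.Suz.FirstA
import Cfsg.Agent.Lib.CoprimePGroup

/-! Suzuki's theorem, the first case: `p` divides `|C_W(v)|`. -/

set_option autoImplicit false
set_option linter.unusedSectionVars false
set_option linter.style.haveILetI false

namespace CfsgLib.Suz
open Subgroup Cfsg
open scoped commutatorElement IsMulCommutative

variable {G : Type*} [Group G] [Finite G] {H Q : Subgroup G} {t s r v : G} {p : ℕ}

theorem RO.exists_sylow_inv (R : RO H Q t) (h2 : Rank2 Q) {l : ℕ} (hl : l.Prime)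
    (h : l ∣ Nat.card Q) : ∃ Y : Subgroup G, Y ≤ Q ∧ (∀ h ∈ H, ∀ y ∈ Y, h⁻¹ * y * h ∈ Y) ∧
      ∃ j, 1 ≤ j ∧ Nat.card Y = l ^ j := by
  haveI := Fact.mk hl
  haveI := R.Q_nilpotent h2
  obtain ⟨P⟩ : Nonempty (Sylow l Q) := inferInstance
  haveI : (P : Subgroup Q).Normal := Sylow.normal_of_normalizerCondition
    Group.normalizerCondition_of_isNilpotent P
  refine ⟨(pCore l Q).map Q.subtype, map_subtype_le _, fun h hh y hy => ?_, ?_⟩
  · have := normalizer_le_normalizer_map_pCore l Q (R.le_normalizer (inv_mem hh))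
    simpa using (mem_normalizer_iff.1 this y).1 hy
  · obtain ⟨j, hj⟩ := IsPGroup.iff_card.1 (map_pCore_isPGroup l Q)
    refine ⟨j, Nat.one_le_iff_ne_zero.2 fun e => ?_, hj⟩
    rw [e, pow_zero, card_map_of_injective Q.subtype_injective,
      ← sylow_eq_pCore_of_normal P] at hj
    exact hl.ne_one (Nat.dvd_one.1 (hj ▸ P.dvd_card_of_dvd_card h))

theorem FC.typ_of_W (C : FC H Q t s r v p) (ih : IH H Q t s r) {w : G} (hw : w ∈ Wg H Q t)
    (hwv : w * v = v * w) (hwp : orderOf w = p) : Typ (Dg H t) Q s r := by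
  have R := C.toRO
  have hw1 : w ≠ 1 := fun e => C.prime.ne_one (by rw [← hwp, e, orderOf_one])
  have hwV := R.W_le_V hw
  have h0 : Q0g Q ≤ centralizer {w} := fun u hu => mem_centralizer_singleton_iff.2 (hw.2 u hu)
  have hT := (ih w hwV hw1 (by
    obtain ⟨x, hx, y, hy, h1, h2, h3, h4, h5⟩ := C.rank2
    exact ⟨x, ⟨hx, h0 (mem_Q0g_of hx h4)⟩, y, ⟨hy, h0 (mem_Q0g_of hy h5)⟩, h1, h2, h3, h4,
      h5⟩)).2
  rw [R.Q0_inf C.rank2, inf_eq_left.2 h0, C.card_Q0, C.card_cent_W hw hwv] at hT
  obtain ⟨F, A⟩ := C.exists_aff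
  obtain ⟨m, hm⟩ := A.ppow
  have hb := A.bound w hwV (mem_centralizer_singleton_iff.2 hwv) (hwp ▸ pow_orderOf_eq_one w)
  have hK := C.modEq_K le_rfl fun k hk y hy => R.norm k (Dg_le hk.1) y hy
  have hQ := C.card_Q
  have hd := card_dvd_of_le
    (inf_le_left : Q ⊓ centralizer {v} ⊓ centralizer {w} ≤ Q ⊓ centralizer {v})
  have hne : Nat.card ↥(Q ⊓ centralizer {v} ⊓ centralizer {w}) ≠
      Nat.card ↥(Q ⊓ centralizer {v}) := fun e => by
    have := eq_of_le_of_card_ge
      (inf_le_left : Q ⊓ centralizer {v} ⊓ centralizer {w} ≤ Q ⊓ centralizer {v}) e.ge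
    exact hw1 (C.W_faithful hw hwv fun x hx hxv => mem_centralizer_singleton_iff.1
      (this.ge ⟨hx, mem_centralizer_singleton_iff.2 hxv⟩).2)
  have hcw := C.card_cent_W hw hwv
  have hp0 := C.prime.ne_zero
  rw [hQ] at hK
  generalize Nat.card ↥(Q ⊓ centralizer {v} ⊓ centralizer {w}) = b at *
  generalize Nat.card ↥(Q ⊓ centralizer {v}) = a at *
  obtain rfl : a = p ^ m - 1 := by omega
  rw [hm] at hb
  rcases hT with h | ⟨-, h, hr⟩ | ⟨-, h, hr, -⟩
  · have hr : r = s := R.r_eq_s C.dist
      (h r ⟨C.dist.r_mem, mem_centralizer_singleton_iff.2 (R.V_comm_r C.dist hwV)⟩)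
    have e : Q ⊓ centralizer {w} = Q0g Q :=
      le_antisymm (fun x hx => mem_Q0g_of hx.1 (h x hx)) (le_inf Q0g_le h0)
    rw [e, C.card_Q0] at hcw
    obtain rfl := Nat.pow_left_injective hp0 hcw
    have hq := C.card_Q0
    obtain rfl := C.eq_three hr
    have hm3 := (Nat.pow_le_pow_iff_right (by norm_num)).1 hb
    interval_cases m
    · exact absurd hK (by decide)
    · exact absurd rfl hne
    swap
    · exact absurd hK (by decide)
    have hp : IsPGroup 2 Q := IsPGroup.of_card (n := 9) hQ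
    have hnc : ∃ x ∈ Q, x * w ≠ w * x := by
      by_contra hc
      push Not at hc
      exact hw1 (C.W_faithful hw hwv fun x hx _ => hc x hx)
    refine ⟨hp, Or.inr (Or.inr ⟨fun hab => ?_, by rw [hQ, hq]; norm_num, hr, w, hw.1,
      fun u hu huu => hw.2 u (mem_Q0g_of hu huu), hnc⟩)⟩
    obtain ⟨x, hx, hne⟩ := hnc
    have := Cop.commutator_eq_bot_of_centralizes_omega_abelian (p := 2) (A := zpowers w) hp hab
      (zpowers_le.2 (R.le_normalizer (Dg_le hw.1))) (by rw [Nat.card_zpowers, hwp]; norm_num)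
      fun x hx hxx => by
        rw [centralizer_zpowers']
        exact h0 (mem_Q0g_of hx (by rw [← pow_two, hxx]))
    exact hne (Cop.commutator_eq_bot_iff_le_centralizer'.1 this (mem_zpowers w) x hx)
  · exfalso
    rw [← pow_mul, mul_comm, pow_mul] at h
    obtain rfl := Nat.pow_left_injective hp0 h
    obtain rfl := C.eq_five hr
    have hm5 := (Nat.pow_le_pow_iff_right (by norm_num)).1 hb
    interval_cases m
    · exact absurd hK (by decide)
    · exact absurd rfl hne
    · exact absurd hK (by decide)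
    · exact absurd hK (by decide)
    swap
    · exact absurd hK (by decide)
    obtain ⟨Y, hY, hn, j, hj, hc⟩ := R.exists_sylow_inv C.rank2 Nat.prime_three
      (by rw [hQ]; norm_num)
    have h1 := C.modEq_K hY fun k hk y hy => hn k (Dg_le hk.1) y hy
    have h2 := card_dvd_of_le hY
    rw [hc] at h1 h2
    rw [hQ] at h2
    have h3 : j < 6 := by
      by_contra h3
      exact absurd ((pow_dvd_pow 3 (not_lt.1 h3)).trans h2) (by norm_num)
    interval_cases j <;> exact absurd h1 (by decide)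
  · exfalso
    rw [← pow_mul, mul_comm, pow_mul] at h
    obtain rfl := Nat.pow_left_injective hp0 h
    obtain rfl := C.eq_three hr
    have hm6 : m ≤ 6 := (Nat.pow_le_pow_iff_right (by norm_num : 1 < 3)).1 (hb.trans (by norm_num))
    interval_cases m
    · exact absurd hK (by decide)
    · exact absurd hd (by decide)
    · exact absurd rfl hne
    · exact absurd hK (by decide)
    · exact absurd hK (by decide)
    · exact absurd hd (by decide)
    · exact absurd hK (by decide)

end CfsgLib.Suz
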