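import Mathlib
import Cfsg.Agent.Lib.Suz.FirstA
import Cfsg.Agent.Lib.H1Misc
import Cfsg.Agent.Lib.ClassSize2

/-! Suzuki's theorem, the first case: `p` does not divide `|C_W(v)|`; the subgroup `F`. -/

set_option autoImplicit false
set_option linter.unusedSectionVars false
set_option linter.style.haveILetI false

namespace CfsgLib.Suz
open Subgroup Cfsg
open scoped commutatorElement IsMulCommutative

variable {G : Type*} [Group G] [Finite G] {H Q : Subgroup G} {t s r v : G} {p : ℕ}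

theorem card_eq_mul_of_dec {A B M : Subgroup G} (hA : A ≤ M) (hB : B ≤ M)
    (dec : ∀ m ∈ M, ∃ a ∈ A, ∃ b ∈ B, m = a * b) (inf : ∀ x ∈ A, x ∈ B → x = 1) :
    Nat.card M = Nat.card A * Nat.card B := by
  rw [← Nat.card_prod]
  refine (Nat.card_congr (Equiv.ofBijective
    (fun x : A × B => (⟨x.1 * x.2, mul_mem (hA x.1.2) (hB x.2.2)⟩ : M)) ⟨?_, fun m => ?_⟩)).symm
  · rintro ⟨a, b⟩ ⟨a', b'⟩ e
    have e' : (a : G) * b = a' * b' := congrArg Subtype.val e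
    have h1 : (a' : G)⁻¹ * a = b' * (b : G)⁻¹ := by
      calc (a' : G)⁻¹ * a = (a' : G)⁻¹ * (a * b) * (b : G)⁻¹ := by group
        _ = _ := by rw [e']; group
    have h2 := inf _ (mul_mem (inv_mem a'.2) a.2) (h1 ▸ mul_mem b'.2 (inv_mem b.2))
    have h3 : (a' : G) = a := inv_mul_eq_one.1 h2
    rw [← h3, mul_right_inj] at e'
    exact Prod.ext (Subtype.ext h3.symm) (Subtype.ext e')
  · obtain ⟨a, ha, b, hb, e⟩ := dec m m.2
    exact ⟨(⟨a, ha⟩, ⟨b, hb⟩), Subtype.ext e.symm⟩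

/-- The configuration in the case `p ∤ |C_W(v)|`. -/
structure FD (H Q : Subgroup G) (t s r v : G) (p : ℕ) (F S : Subgroup G) (g : G) (m : ℕ) : Prop
    extends FC H Q t s r v p where
  aff : Aff H Q t s (centralizer {v}) (zpowers v) F p
  hm : Nat.card ↥(Q ⊓ centralizer {v}) + 1 = p ^ m
  valG : ¬ p ^ (m + 3) ∣ Nat.card G
  valC : ¬ p ^ (m + 2) ∣ Nat.card (centralizer ({v} : Set G))
  cardS : Nat.card S = p ^ (m + 2)
  FS : F ≤ S
  g_mem : g ∈ S
  g_ne : g * v ≠ v * g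

theorem FC.exists_FD (C : FC H Q t s r v p)
    (hW : ∀ w ∈ Wg H Q t, w * v = v * w → orderOf w ≠ p) :
    ∃ F S g m, FD H Q t s r v p F S g m := by
  haveI := Fact.mk C.prime
  have R := C.toRO
  obtain ⟨F, A⟩ := C.exists_aff
  obtain ⟨m, hm⟩ := A.ppow
  have h1 : ¬ p ∣ Nat.card ↥(Wg H Q t ⊓ centralizer {v}) := fun h => by
    obtain ⟨w, hw⟩ := exists_prime_orderOf_dvd_card' p h
    exact hW w w.2.1 (mem_centralizer_singleton_iff.1 w.2.2) (by rw [orderOf_coe, hw])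
  have h2 : ¬ p ∣ Nat.card (Wg H Q t) := fun h => h1 (((card_modEq_cent C.prime C.v_pow _
    fun w hw => C.W_conj C.v_D hw).dvd_iff dvd_rfl).1 h)
  have h3 : ¬ p ∣ Nat.card (Kg H t) := fun h =>
    C.prime.ne_one (Nat.dvd_one.1 ((C.card_K_modEq.dvd_iff dvd_rfl).1 h))
  have cV : Nat.card (Vg H t) = p * Nat.card (Wg H Q t) := by
    rw [← C.card_P]
    refine card_eq_mul_of_dec (zpowers_le.2 C.v_mem) R.W_le_V (fun w hw => ?_)
      fun x hx hx' => C.P_inf_W hx hx'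
    obtain ⟨j, w', hw', e⟩ := C.V_dec hw
    exact ⟨_, pow_mem (mem_zpowers v) j, w', hw', e⟩
  have cD : Nat.card (Dg H t) = Nat.card (Vg H t) * Nat.card (Kg H t) := by
    refine card_eq_mul_of_dec Vg_le_Dg Kg_le_Dg (fun d hd => ?_)
      fun x hx hx' => R.eq_one_of_K_of_V ((R.mem_Kg C.rank2).1 hx') hx
    obtain ⟨w, hw, k, hk, e⟩ := R.D_eq_V_mul_K hd
    exact ⟨w, hw, k, (R.mem_Kg C.rank2).2 hk, e⟩
  have cDP : Nat.card ↥(Dg H t ⊓ centralizer {v}) =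
      p * Nat.card ↥(Wg H Q t ⊓ centralizer {v}) := by
    rw [← C.card_P]
    refine card_eq_mul_of_dec (zpowers_le.2 ⟨C.v_D, mem_centralizer_singleton_iff.2 rfl⟩)
      (inf_le_inf_right _ Wg_le_Dg) (fun d hd => ?_) fun x hx hx' => C.P_inf_W hx hx'.1
    obtain ⟨j, w, hw, hwv, e⟩ := C.D_dec hd.1 (mem_centralizer_singleton_iff.1 hd.2)
    exact ⟨_, pow_mem (mem_zpowers v) j, w, ⟨hw, mem_centralizer_singleton_iff.2 hwv⟩, e⟩
  have hQP : ¬ p ∣ Nat.card ↥(Q ⊓ centralizer {v}) := fun h =>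
    C.not_dvd_Q (h.trans (card_dvd_of_le inf_le_left))
  have vQ : padicValNat p (Nat.card Q + 1) = m + 1 := by
    have := padicValNat.pow_add_pow C.odd_p C.dvd_card_QP hQP C.odd_p
    rwa [one_pow, ← C.card_Q, hm, padicValNat.prime_pow, padicValNat.self C.prime.one_lt] at this
  have vG : padicValNat p (Nat.card G) = m + 2 := by
    have a0 := C.prime.pos
    have a1 := Nat.card_pos (α := Q)
    have a2 := Nat.card_pos (α := Wg H Q t)
    have a3 := Nat.card_pos (α := Kg H t)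
    rw [R.card_G, cD, cV, padicValNat.mul (by positivity) (by positivity),
      padicValNat.mul (by positivity) (by positivity),
      padicValNat.mul (by positivity) (by positivity),
      padicValNat.mul C.prime.ne_zero (by positivity), vQ, padicValNat.self C.prime.one_lt,
      padicValNat.eq_zero_of_not_dvd C.not_dvd_Q, padicValNat.eq_zero_of_not_dvd h2,
      padicValNat.eq_zero_of_not_dvd h3]
    omega
  have vC : padicValNat p (Nat.card (centralizer ({v} : Set G))) = m + 1 := by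
    have hX : ({v} : Set G) ⊆ Vg H t := by simpa using C.v_mem
    have hp0 := C.prime.pos
    have a1 := Nat.card_pos (α := ↥(Q ⊓ centralizer {v}))
    have a2 := Nat.card_pos (α := ↥(Wg H Q t ⊓ centralizer {v}))
    rw [(R.sub_cent hX).card_G, Dg_subgroupOf, card_subgroupOf_eq, card_subgroupOf_eq, cDP, hm,
      padicValNat.mul (by positivity) (by positivity),
      padicValNat.mul (by positivity) (by positivity),
      padicValNat.mul (by positivity) (by positivity), padicValNat.prime_pow,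
      padicValNat.self C.prime.one_lt, padicValNat.eq_zero_of_not_dvd hQP,
      padicValNat.eq_zero_of_not_dvd h1]
    omega
  have cF : Nat.card F = p ^ (m + 1) := by rw [A.card, hm, C.card_P, pow_succ]
  obtain ⟨S, hS, hFS⟩ := Sylow.exists_subgroup_card_pow_succ
    ((padicValNat_dvd_iff_le Nat.card_pos.ne').2 vG.ge) cF
  have valC : ¬ p ^ (m + 2) ∣ Nat.card (centralizer ({v} : Set G)) := by
    rw [padicValNat_dvd_iff_le Nat.card_pos.ne', vC]
    omega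
  obtain ⟨g, hg, hgv⟩ : ∃ g ∈ S, g * v ≠ v * g := by
    by_contra hc
    push Not at hc
    exact valC (hS ▸ card_dvd_of_le fun x hx => mem_centralizer_singleton_iff.2 (hc x hx))
  exact ⟨F, S, g, m, C, A, hm, by
    rw [padicValNat_dvd_iff_le Nat.card_pos.ne', vG]; omega, valC, hS, hFS, hg, hgv⟩

namespace FD
variable {F S : Subgroup G} {g : G} {m : ℕ} (C : FD H Q t s r v p F S g m)
include C

theorem card_F : Nat.card F = p ^ (m + 1) := by rw [C.aff.card, C.hm, C.card_P, pow_succ]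

theorem v_F : v ∈ F := C.aff.N_le (mem_zpowers v)

theorem F_v {x : G} (hx : x ∈ F) : x * v = v * x :=
  mem_centralizer_singleton_iff.1 (C.aff.le hx)

theorem relIndex_F : F.relIndex S = p := by
  have h := card_mul_relIndex C.FS
  rw [C.card_F, C.cardS, pow_succ p (m + 1)] at h
  exact Nat.eq_of_mul_eq_mul_left (pow_pos C.prime.pos _) h

theorem normal_F : (F.subgroupOf S).Normal := by
  refine normal_of_index_eq_minFac_card ?_
  rw [C.cardS, C.prime.pow_minFac (by omega)]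
  exact C.relIndex_F

theorem S_le_N : S ≤ normalizer (F : Set G) :=
  (normal_subgroupOf_iff_le_normalizer C.FS).1 C.normal_F

theorem C_le_N : centralizer {v} ≤ normalizer (F : Set G) :=
  le_normalizer_of_conj C.aff.norm

omit C in
theorem conj_mem {n x : G} (hn : n ∈ normalizer (F : Set G)) (hx : x ∈ F) : n⁻¹ * x * n ∈ F := by
  simpa using (mem_normalizer_iff.1 (inv_mem hn) x).1 hx

theorem z_notMem : g⁻¹ * v * g ∉ zpowers v := fun h => C.g_ne (C.norm_eq h)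

theorem comm : ∀ x ∈ F, ∀ y ∈ F, x * y = y * x := by
  have hg := C.S_le_N C.g_mem
  obtain ⟨y₀, hy₀, n₀, hn₀, e⟩ := C.aff.trans _ (conj_mem hg C.v_F) C.z_notMem
  have h1 : ∀ x ∈ F, x * (s * t) = s * t * x := by
    intro x hx
    have hx' := C.aff.norm y₀ hy₀.2 x hx
    have h2 := C.F_v (conj_mem (inv_mem hg) hx')
    have h3 := comm_of_mem_zpowers (inv_mem hn₀) (C.F_v hx')
    have h4 : s * t = y₀ * (g⁻¹ * v * g * n₀⁻¹) * y₀⁻¹ := by rw [e]; group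
    rw [h4]
    calc x * (y₀ * (g⁻¹ * v * g * n₀⁻¹) * y₀⁻¹)
        = y₀ * g⁻¹ * (g⁻¹⁻¹ * (y₀⁻¹ * x * y₀) * g⁻¹ * v) * g * n₀⁻¹ * y₀⁻¹ := by group
      _ = y₀ * g⁻¹ * v * g * (y₀⁻¹ * x * y₀ * n₀⁻¹) * y₀⁻¹ := by rw [h2]; group
      _ = _ := by rw [h3]; group
  intro x hx y hy
  by_cases hyP : y ∈ zpowers v
  · exact comm_of_mem_zpowers hyP (C.F_v hx)
  obtain ⟨u, hu, n, hn, rfl⟩ := C.aff.trans y hy hyP
  have h2 := h1 _ (C.aff.norm _ (inv_mem (mem_inf.1 hu).2) x hx)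
  have h3 := comm_of_mem_zpowers hn (C.F_v hx)
  calc x * (u⁻¹ * (s * t) * u * n) = u⁻¹ * (u⁻¹⁻¹ * x * u⁻¹ * (s * t)) * u * n := by group
    _ = u⁻¹ * (s * t) * u * (x * n) := by rw [h2]; group
    _ = _ := by rw [h3]; group

/-- The elements of `F` inverted by `s`. -/
def T : Subgroup G where
  carrier := {x | x ∈ F ∧ s * x * s = x⁻¹}
  one_mem' := ⟨one_mem _, by rw [mul_one, C.dist.ss, inv_one]⟩
  mul_mem' := by
    rintro a b ⟨ha, h1⟩ ⟨hb, h2⟩
    refine ⟨mul_mem ha hb, ?_⟩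
    calc s * (a * b) * s = s * a * (s * s) * b * s := by rw [C.dist.ss]; group
      _ = (s * a * s) * (s * b * s) := by group
      _ = _ := by rw [h1, h2, C.comm a ha b hb, mul_inv_rev]
  inv_mem' := by
    rintro a ⟨ha, h1⟩
    refine ⟨inv_mem ha, ?_⟩
    rw [← h1, mul_inv_rev, mul_inv_rev, inv_eq_of_mul_self C.dist.ss, h1, mul_assoc]

theorem T_le : C.T ≤ F := fun _ h => h.1

theorem conj_st_mem {y : G} (hy : y ∈ Q ⊓ centralizer {v}) : y⁻¹ * (s * t) * y ∈ C.T := by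
  refine ⟨C.aff.norm y hy.2 _ C.aff.st_mem, ?_⟩
  have h1 := C.toRO.invol_central C.rank2 C.dist.s_mem C.dist.ss hy.1
  have h2 := C.toRO.invol_central C.rank2 C.dist.s_mem C.dist.ss (inv_mem (mem_inf.1 hy).1)
  calc s * (y⁻¹ * (s * t) * y) * s = (s * y⁻¹) * s * t * (y * s) := by group
    _ = y⁻¹ * (s * s) * t * s * y := by rw [h2, ← h1]; group
    _ = y⁻¹ * (t⁻¹ * s⁻¹) * y := by
      rw [C.dist.ss, C.toRO.t_inv, inv_eq_of_mul_self C.dist.ss]; group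
    _ = _ := by group

theorem st_T : s * t ∈ C.T := by simpa using C.conj_st_mem (one_mem _)

theorem P_inf_T {x : G} (hx : x ∈ zpowers v) (hT : x ∈ C.T) : x = 1 := by
  have h1 := hT.2
  rw [comm_of_mem_zpowers hx C.sv, mul_assoc, C.dist.ss, mul_one] at h1
  exact eq_of_sq_eq_of_odd C.odd_p (C.P_pow hx) (one_pow _) (by
    rw [mul_one]; exact mul_eq_one_iff_eq_inv.2 h1)

theorem F_dec {x : G} (hx : x ∈ F) : ∃ n ∈ zpowers v, ∃ u ∈ C.T, x = n * u := by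
  by_cases hP : x ∈ zpowers v
  · exact ⟨x, hP, 1, one_mem _, (mul_one x).symm⟩
  obtain ⟨y, hy, n, hn, e⟩ := C.aff.trans x hx hP
  exact ⟨n, hn, _, C.conj_st_mem hy, by
    rw [e, C.comm _ (C.conj_st_mem hy).1 _ (C.aff.N_le hn)]⟩

theorem T_trans {x : G} (hx : x ∈ C.T) (h1 : x ≠ 1) :
    ∃ y ∈ Q ⊓ centralizer {v}, x = y⁻¹ * (s * t) * y := by
  obtain ⟨y, hy, n, hn, e⟩ := C.aff.trans x hx.1 fun h => h1 (C.P_inf_T h hx)
  have : n = (y⁻¹ * (s * t) * y)⁻¹ * x := by rw [e]; group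
  rw [C.P_inf_T hn (this ▸ mul_mem (inv_mem (C.conj_st_mem hy)) hx), mul_one] at e
  exact ⟨y, hy, e⟩

theorem card_T : Nat.card C.T = p ^ m := by
  have h := card_eq_mul_of_dec C.aff.N_le C.T_le (fun x hx => C.F_dec hx)
    fun x hx hT => C.P_inf_T hx hT
  rw [C.card_F, C.card_P, pow_succ'] at h
  exact (Nat.eq_of_mul_eq_mul_left C.prime.pos h).symm

theorem notConj {x n a : G} (hx : x ∈ C.T) (hn : n ∈ zpowers v) (e : x = a⁻¹ * n * a) :
    x = 1 := by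
  by_contra h1
  have h2 : x * x ≠ 1 := fun h => h1 (eq_one_of_odd_card (A := F)
    (by rw [C.card_F]; exact C.odd_p.pow) hx.1 h)
  have h3 := C.toRO.eq_one_of_comm_strongly_real C.rank2 C.dist.ss hx.2 h2 (z := a⁻¹ * s * a) (by
    calc a⁻¹ * s * a * (a⁻¹ * s * a) = a⁻¹ * (s * s) * a := by group
      _ = 1 := by rw [C.dist.ss]; group) (by
    rw [e]
    calc a⁻¹ * s * a * (a⁻¹ * n * a) = a⁻¹ * (s * n) * a := by group
      _ = _ := by rw [comm_of_mem_zpowers hn C.sv]; group)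
  exact C.dist.s_ne (by simpa [mul_assoc, inv_mul_eq_one] using h3)

theorem conj_P {n₀ u₀ : G} (hn₀ : n₀ ∈ zpowers v) (hu₀ : u₀ ∈ C.T) (e₀ : g⁻¹ * v * g = n₀ * u₀)
    {n u : G} (hn : n ∈ zpowers v) (hn1 : n ≠ 1) (hu : u ∈ C.T) (hu1 : u ≠ 1) :
    ∃ e : ℕ, ∃ a ∈ normalizer (F : Set G), n = n₀ ^ e ∧ n * u = a⁻¹ * v ^ e * a := by
  have h1 : n₀ ≠ 1 := fun h => by
    rw [h, one_mul] at e₀
    have := C.notConj hu₀ (mem_zpowers v) e₀.symm
    rw [this] at e₀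
    exact C.v_ne (by simpa [mul_assoc, inv_mul_eq_one] using e₀)
  have h2 : n ∈ zpowers n₀ := by rwa [zpowers_eq_of_prime C.prime' hn₀ h1]
  obtain ⟨e, rfl⟩ := mem_powers_iff_mem_zpowers.2 h2
  change n₀ ^ e ∈ zpowers v at hn
  change n₀ ^ e ≠ 1 at hn1
  change ∃ e' : ℕ, ∃ a ∈ normalizer (F : Set G), n₀ ^ e = n₀ ^ e' ∧ n₀ ^ e * u = a⁻¹ * v ^ e' * a
  have h3 : g⁻¹ * v ^ e * g = n₀ ^ e * u₀ ^ e := by
    rw [← inv_conj_pow, e₀, Commute.mul_pow (C.comm _ (C.aff.N_le hn₀) _ hu₀.1)]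
  have h4 : u₀ ^ e ≠ 1 := fun h => by
    rw [h, mul_one] at h3
    have h5 : v ^ e ≠ 1 := fun h => hn1 (by rw [← h3, h]; group)
    have h6 : v ∈ zpowers (v ^ e) := by
      rw [zpowers_eq_of_prime C.prime' (pow_mem (mem_zpowers v) e) h5]; exact mem_zpowers v
    obtain ⟨j, hj⟩ := mem_zpowers_iff.1 h6
    refine C.z_notMem ?_
    have : g⁻¹ * v * g = (g⁻¹ * v ^ e * g⁻¹⁻¹) ^ j := by rw [conj_zpow, hj, inv_inv]
    rw [this, inv_inv, h3]
    exact zpow_mem hn j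
  obtain ⟨y₁, hy₁, e₁⟩ := C.T_trans (pow_mem hu₀ e) h4
  obtain ⟨y₂, hy₂, e₂⟩ := C.T_trans hu hu1
  have hy : y₁⁻¹ * y₂ ∈ centralizer ({v} : Set G) :=
    mul_mem (inv_mem (mem_inf.1 hy₁).2) (mem_inf.1 hy₂).2
  refine ⟨e, g * (y₁⁻¹ * y₂), mul_mem (C.S_le_N C.g_mem) (C.C_le_N hy), rfl, ?_⟩
  have h5 := comm_of_mem_zpowers hn (mem_centralizer_singleton_iff.1 (inv_mem hy))
  calc n₀ ^ e * u = n₀ ^ e * (y₁⁻¹ * y₂)⁻¹ * (y₁⁻¹ * (s * t) * y₁) * (y₁⁻¹ * y₂) := by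
        rw [e₂]; group
    _ = (y₁⁻¹ * y₂)⁻¹ * (n₀ ^ e * u₀ ^ e) * (y₁⁻¹ * y₂) := by rw [← h5, e₁]; group
    _ = _ := by rw [← h3]; group

theorem T_conj {a x : G} (ha : a ∈ normalizer (F : Set G)) (hx : x ∈ C.T) :
    a⁻¹ * x * a ∈ C.T := by
  obtain ⟨n₀, hn₀, u₀, hu₀, e₀⟩ := C.F_dec (conj_mem (C.S_le_N C.g_mem) C.v_F)
  obtain ⟨n, hn, u, hu, e⟩ := C.F_dec (conj_mem ha hx.1)
  by_cases hn1 : n = 1
  · rwa [e, hn1, one_mul]
  have : x = 1 := by
    by_cases hu1 : u = 1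
    · refine C.notConj hx hn (a := a⁻¹) ?_
      rw [hu1, mul_one] at e
      rw [← e]; group
    obtain ⟨k, b, -, -, e'⟩ := C.conj_P hn₀ hu₀ e₀ hn hn1 hu hu1
    refine C.notConj hx (pow_mem (mem_zpowers v) k) (a := b * a⁻¹) ?_
    calc x = a * (a⁻¹ * x * a) * a⁻¹ := by group
      _ = _ := by rw [e, e']; group
  rw [this]
  simp

theorem exists_z : ∃ u₀ ∈ C.T, u₀ ≠ 1 ∧ g⁻¹ * v * g = v * u₀ := by
  have hg := C.S_le_N C.g_mem
  obtain ⟨n₀, hn₀, u₀, hu₀, e₀⟩ := C.F_dec (conj_mem hg C.v_F)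
  obtain ⟨i, hi⟩ := mem_powers_iff_mem_zpowers.2 hn₀
  obtain rfl : v ^ i = n₀ := hi
  have key : ∀ k : ℕ, ∃ u ∈ C.T, (g ^ k)⁻¹ * v * g ^ k = v ^ i ^ k * u := by
    intro k
    induction k with
    | zero => exact ⟨1, one_mem _, by simp⟩
    | succ k ih =>
      obtain ⟨u, hu, e⟩ := ih
      refine ⟨u₀ ^ i ^ k * (g⁻¹ * u * g), mul_mem (pow_mem hu₀ _) (C.T_conj hg hu), ?_⟩
      calc (g ^ (k + 1))⁻¹ * v * g ^ (k + 1) = g⁻¹ * ((g ^ k)⁻¹ * v * g ^ k) * g := by group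
        _ = (g⁻¹ * v * g) ^ i ^ k * (g⁻¹ * u * g) := by rw [e, inv_conj_pow]; group
        _ = _ := by
          rw [e₀, Commute.mul_pow (C.comm _ (C.aff.N_le hn₀) _ hu₀.1), ← pow_mul, ← pow_succ',
            mul_assoc]
  obtain ⟨u, hu, e⟩ := key p
  haveI := C.normal_F
  have h1 : g ^ p ∈ F := by
    have := (F.subgroupOf S).pow_index_mem ⟨g, C.g_mem⟩
    rw [show (F.subgroupOf S).index = p from C.relIndex_F] at this
    exact this
  haveI := Fact.mk C.prime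
  have h2 : v ^ i ^ p = v ^ i := by
    rw [pow_eq_pow_iff_modEq, C.ord, ← ZMod.natCast_eq_natCast_iff]
    push_cast
    exact ZMod.pow_card _
  rw [mul_assoc, ← C.F_v h1, inv_mul_cancel_left, h2] at e
  have h3 : u = 1 := C.P_inf_T (by
    rw [← inv_mul_eq_iff_eq_mul.2 e]
    exact mul_mem (inv_mem hn₀) (mem_zpowers v)) hu
  rw [h3, mul_one] at e
  rw [← e] at e₀
  exact ⟨u₀, hu₀, fun h => C.z_notMem (by rw [e₀, h, mul_one]; exact mem_zpowers v), e₀⟩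

theorem conj_v {a : G} (ha : a ∈ normalizer (F : Set G)) : ∃ u ∈ C.T, a⁻¹ * v * a = v * u := by
  obtain ⟨u₀, hu₀, -, e₀⟩ := C.exists_z
  obtain ⟨n, hn, u, hu, e⟩ := C.F_dec (conj_mem ha C.v_F)
  have hn1 : n ≠ 1 := fun h => by
    rw [h, one_mul] at e
    have := C.notConj hu (mem_zpowers v) e.symm
    rw [this] at e
    exact C.v_ne (by simpa [mul_assoc, inv_mul_eq_one] using e)
  by_cases hu1 : u = 1
  · rw [hu1, mul_one] at e
    exact ⟨1, one_mem _, by rw [mul_assoc, ← C.norm_eq (e ▸ hn)]; group⟩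
  obtain ⟨k, b, -, rfl, e'⟩ := C.conj_P (mem_zpowers v) hu₀ e₀ hn hn1 hu hu1
  have h1 : (a * b⁻¹)⁻¹ * v * (a * b⁻¹) = v ^ k := by
    calc _ = b * (a⁻¹ * v * a) * b⁻¹ := by group
      _ = _ := by rw [e, e']; group
  have h2 := C.norm_eq (h1 ▸ hn)
  rw [mul_assoc, ← h2, inv_mul_cancel_left] at h1
  exact ⟨u, hu, by rw [e, ← h1]⟩

theorem exists_conj_v {u : G} (hu : u ∈ C.T) :
    ∃ a ∈ normalizer (F : Set G), a⁻¹ * v * a = v * u := by
  by_cases hu1 : u = 1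
  · exact ⟨1, one_mem _, by simp [hu1]⟩
  obtain ⟨u₀, hu₀, -, e₀⟩ := C.exists_z
  obtain ⟨k, b, hb, h, e⟩ := C.conj_P (mem_zpowers v) hu₀ e₀ (mem_zpowers v) C.v_ne hu hu1
  exact ⟨b, hb, by rw [e, ← h]⟩

omit C in
theorem ncard_mul (A : Subgroup G) (x : G) : {y | ∃ u ∈ A, y = x * u}.ncard = Nat.card A := by
  have : {y | ∃ u ∈ A, y = x * u} = (fun u => x * u) '' (A : Set G) := by
    ext y
    exact ⟨fun ⟨u, hu, e⟩ => ⟨u, hu, e.symm⟩, fun ⟨u, hu, e⟩ => ⟨u, hu, e.symm⟩⟩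
  rw [this, Set.ncard_image_of_injective _ (mul_right_injective x), ← Nat.card_coe_set_eq]
  rfl

theorem m_eq : m = 1 := by
  have h1 : (centralizer {v}).relIndex (normalizer (F : Set G)) = p ^ m := by
    rw [← Frob.ncard_conj_subgroup, ← C.card_T, ← ncard_mul C.T v]
    congr 1
    ext y
    constructor
    · rintro ⟨a, ha, rfl⟩
      simpa using C.conj_v (inv_mem ha)
    · rintro ⟨u, hu, rfl⟩
      obtain ⟨a, ha, e⟩ := C.exists_conj_v hu
      exact ⟨a⁻¹, inv_mem ha, by simpa using e⟩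
  have h2 : p ^ (m + 1) * p ^ m ∣ Nat.card G := by
    refine Dvd.dvd.trans ?_ (card_subgroup_dvd_card (normalizer (F : Set G)))
    rw [← card_mul_relIndex C.C_le_N, h1, ← C.card_F]
    exact Nat.mul_dvd_mul_right (card_dvd_of_le C.aff.le) _
  have h3 : m ≠ 0 := fun h => by
    have h4 := C.hm
    rw [h, pow_zero] at h4
    have := Nat.card_pos (α := ↥(Q ⊓ centralizer {v}))
    omega
  by_contra h4
  rw [← pow_add] at h2
  exact C.valG ((pow_dvd_pow p (by omega)).trans h2)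

end FD

end CfsgLib.Suz
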