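import Mathlib
import Cfsg.Agent.Lib.Suz.FirstC
import Cfsg.Agent.Lib.PResidual

/-! Suzuki's theorem, the first case: the final contradiction when `p ∤ |C_W(v)|`. -/

set_option autoImplicit false
set_option linter.unusedSectionVars false
set_option linter.style.haveILetI false

namespace CfsgLib.Suz
open Subgroup Cfsg
open scoped commutatorElement IsMulCommutative

variable {G : Type*} [Group G] [Finite G] {H Q : Subgroup G} {t s r v : G} {p : ℕ}

theorem RO.conj_st_inj (R : RO H Q t) (hs : Dist Q t s r) {y y' : G} (hy : y ∈ Q) (hy' : y' ∈ Q)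
    (e : y⁻¹ * (s * t) * y = y'⁻¹ * (s * t) * y') : y = y' := by
  by_contra hne
  refine R.st_notMem hs (R.mem_H_of_comm (mul_mem hy (inv_mem hy'))
    (fun e => hne (mul_inv_eq_one.1 e)) ?_)
  calc y * y'⁻¹ * (s * t) = y * (y'⁻¹ * (s * t) * y') * y'⁻¹ := by group
    _ = _ := by rw [← e]; group

theorem orbit_numerics {p n : ℕ} (hp : p.Prime) (h3 : 3 ≤ p) (h1 : p ∣ n) (h2 : ¬ p ^ 2 ∣ n)
    (h4 : p - 1 ∣ n - p) (h5 : n * (p - 1) ≤ p ^ 3) : n = p := by
  obtain ⟨k, rfl⟩ := h1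
  obtain ⟨q, rfl⟩ := Nat.exists_eq_add_of_le' h3
  have hk : k ≠ 0 := fun e => h2 (by simp [e])
  obtain ⟨j, rfl⟩ := Nat.exists_eq_succ_of_ne_zero hk
  have e : (q + 3) * (j + 1) - (q + 3) = (q + 3) * j := by
    rw [mul_add, mul_one, Nat.add_sub_cancel]
  simp only [Nat.succ_eq_add_one, show q + 3 - 1 = q + 2 from rfl] at *
  rw [e] at h4
  have h6 : q + 2 ∣ j := (Nat.Coprime.dvd_mul_left (by
    rw [show q + 3 = q + 2 + 1 from rfl]; exact (Nat.coprime_self_add_right.2 (Nat.coprime_one_right _)))).1 h4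
  obtain ⟨c, rfl⟩ := h6
  rcases c with _ | _ | c
  · simp
  · exact absurd ⟨1, by ring⟩ h2
  · exfalso
    have : (q + 3) * (((q + 2) * (c + 1 + 1) + 1) * (q + 2)) ≤ (q + 3) * (q + 3) ^ 2 := by
      calc _ = (q + 3) * ((q + 2) * (c + 1 + 1) + 1) * (q + 2) := by ring
        _ ≤ _ := h5
        _ = _ := by ring
    have := Nat.le_of_mul_le_mul_left this (by omega)
    nlinarith [Nat.zero_le (c * q * q), Nat.zero_le (c * q), Nat.zero_le (q * q)]

namespace FD
variable {F S : Subgroup G} {g : G} (C : FD H Q t s r v p F S g 1)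
include C

theorem pS : IsPGroup p S := IsPGroup.of_card C.cardS

theorem S_T {x u : G} (hx : x ∈ S) (hu : u ∈ C.T) : u * x = x * u := by
  haveI := Fact.mk C.prime
  have h := H1.card_modEq_card_inf_centralizer C.pS (U := C.T)
    (le_normalizer_of_conj fun a ha y hy => C.T_conj (C.S_le_N ha) hy)
  rw [C.card_T, pow_one] at h
  have h1 := Nat.le_of_dvd Nat.card_pos ((h.dvd_iff dvd_rfl).1 dvd_rfl)
  have h2 := eq_of_le_of_card_ge (inf_le_left : C.T ⊓ centralizer (S : Set G) ≤ C.T)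
    (by rwa [C.card_T, pow_one])
  exact ((h2.ge hu).2 x hx).symm

theorem orbit_S {u : G} (hu : u ∈ C.T) : ∃ k : ℕ, (g ^ k)⁻¹ * v * g ^ k = v * u := by
  obtain ⟨u₀, hu₀, hu₁, e₀⟩ := C.exists_z
  have h1 : zpowers u₀ = C.T := by
    have hle := zpowers_le.2 hu₀
    have h := card_dvd_of_le hle
    rw [C.card_T, pow_one] at h
    refine eq_of_le_of_card_ge hle ?_
    rw [C.card_T, pow_one]
    rcases (Nat.dvd_prime C.prime).1 h with h | h
    · rw [Nat.card_zpowers] at h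
      exact absurd (orderOf_eq_one_iff.1 h) hu₁
    · exact h.ge
  obtain ⟨k, rfl⟩ := mem_powers_iff_mem_zpowers.2 (h1 ▸ hu)
  refine ⟨k, ?_⟩
  change _ = v * u₀ ^ k
  clear hu
  induction k with
  | zero => simp
  | succ k ih =>
    calc (g ^ (k + 1))⁻¹ * v * g ^ (k + 1) = g⁻¹ * ((g ^ k)⁻¹ * v * g ^ k) * g := by group
      _ = g⁻¹ * v * (u₀ ^ k * g) := by rw [ih]; group
      _ = g⁻¹ * v * g * u₀ ^ k := by rw [C.S_T C.g_mem (pow_mem hu₀ k)]; group
      _ = _ := by rw [e₀, pow_succ', mul_assoc]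

theorem mem_F_of_comm {c : G} (hc : c * v = v * c) (h : ∀ u ∈ C.T, u * c = c * u) : c ∈ F := by
  have R := C.toRO
  have hc' := mem_centralizer_singleton_iff.2 hc
  obtain ⟨a, ha, f, hf, rfl⟩ := C.aff.dec c hc'
  refine mul_mem (C.aff.N_le ?_) hf
  have h1 : ∀ u ∈ C.T, u * a = a * u := fun u hu => by
    have := h u hu
    rw [mul_assoc, ← C.comm u hu.1 f hf, ← mul_assoc, ← mul_assoc] at this
    exact mul_right_cancel this
  have h2 : a ∈ centralizer ({v} : Set G) := by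
    simpa using mul_mem hc' (inv_mem (C.aff.le hf))
  obtain ⟨x, hx, d, hd, rfl⟩ := R.dec a ha
  obtain ⟨hxv, hdv⟩ := R.cent_dec (X := {v}) (by simpa using C.v_D) hx hd h2
  have hdv' := mem_centralizer_singleton_iff.1 hdv
  have hdV := C.D_cent hd hdv'
  have h3 : s * t * d = d * (s * t) := by
    rw [mul_assoc, (mem_Vg_iff.1 hdV).2, ← mul_assoc, R.V_comm_s C.dist hdV, mul_assoc]
  have h4 : x = 1 := R.conj_st_inj C.dist hx (one_mem _) (by
    have := h1 _ C.st_T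
    rw [mul_assoc x, ← h3, ← mul_assoc, ← mul_assoc x] at this
    rw [mul_assoc, mul_right_cancel this]
    group)
  rw [h4, one_mul] at h1 ⊢
  refine C.D_faithful hd hdv' fun y hy hyv => ?_
  have h5 := h1 _ (C.conj_st_mem ⟨hy, mem_centralizer_singleton_iff.2 hyv⟩)
  have h6 : d⁻¹ * y * d = y := R.conj_st_inj C.dist (R.norm d (Dg_le hd) y hy) hy (by
    calc (d⁻¹ * y * d)⁻¹ * (s * t) * (d⁻¹ * y * d)
        = d⁻¹ * y⁻¹ * (d * (s * t)) * d⁻¹ * y * d := by group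
      _ = d⁻¹ * (y⁻¹ * (s * t) * y * d) := by rw [← h3]; group
      _ = _ := by rw [h5]; group)
  calc y * d = d * (d⁻¹ * y * d) := by group
    _ = _ := by rw [h6]

theorem dec_of_T {n : G} (hn : n ∈ normalizer (F : Set G)) (h : ∀ u ∈ C.T, u * n = n * u) :
    ∃ f ∈ F, ∃ k : ℕ, n = f * g ^ k := by
  obtain ⟨u, hu, e⟩ := C.conj_v hn
  obtain ⟨k, e'⟩ := C.orbit_S hu
  refine ⟨n * (g ^ k)⁻¹, C.mem_F_of_comm ?_ fun w hw => ?_, k, by group⟩
  · calc n * (g ^ k)⁻¹ * v = n * ((g ^ k)⁻¹ * v * g ^ k) * (g ^ k)⁻¹ := by group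
      _ = _ := by rw [e', ← e]; group
  · rw [← mul_assoc, h w hw, mul_assoc, C.S_T (inv_mem (pow_mem C.g_mem k)) hw, mul_assoc]

theorem N_le_M : normalizer (F : Set G) ≤ normalizer (S : Set G) := by
  refine le_normalizer_of_conj fun a ha x hx => ?_
  obtain ⟨f, hf, k, e⟩ := C.dec_of_T (mul_mem (mul_mem (inv_mem ha) (C.S_le_N hx)) ha)
    fun u hu => by
      have := C.S_T hx (C.T_conj (inv_mem ha) hu)
      calc u * (a⁻¹ * x * a) = a⁻¹ * (a⁻¹⁻¹ * u * a⁻¹ * x) * a := by group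
        _ = _ := by rw [this]; group
  rw [e]
  exact mul_mem (C.FS hf) (pow_mem C.g_mem k)

theorem mem_T_of_central {x : G} (hx : x ∈ S) (h : ∀ y ∈ S, x * y = y * x) : x ∈ C.T := by
  obtain ⟨n, hn, u, hu, rfl⟩ := C.F_dec (C.mem_F_of_comm (h v (C.FS C.v_F))
    fun u hu => C.S_T hx hu)
  by_cases hn1 : n = 1
  · rwa [hn1, one_mul]
  refine absurd (comm_of_prime C.prime' hn hn1 ?_) C.g_ne
  have := h g C.g_mem
  rw [mul_assoc, C.S_T C.g_mem hu, ← mul_assoc, ← mul_assoc] at this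
  exact (mul_right_cancel this).symm

theorem M_T {a u : G} (ha : a ∈ normalizer (S : Set G)) (hu : u ∈ C.T) : a⁻¹ * u * a ∈ C.T := by
  refine C.mem_T_of_central (conj_mem ha (C.FS hu.1)) fun y hy => ?_
  have := C.S_T (conj_mem (inv_mem ha) hy) hu
  calc a⁻¹ * u * a * y = a⁻¹ * (u * (a⁻¹⁻¹ * y * a⁻¹)) * a := by group
    _ = _ := by rw [this]; group

theorem comm_F {f x : G} (hf : f ∈ F) (hx : x ∈ S) : ∃ u ∈ C.T, x⁻¹ * f * x = f * u := by
  obtain ⟨n, hn, u, hu, rfl⟩ := C.F_dec hf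
  obtain ⟨w, hw, e⟩ := C.conj_v (C.S_le_N hx)
  obtain ⟨j, hj⟩ := mem_powers_iff_mem_zpowers.2 hn
  obtain rfl : v ^ j = n := hj
  refine ⟨w ^ j, pow_mem hw j, ?_⟩
  calc x⁻¹ * (v ^ j * u) * x = x⁻¹ * v ^ j * (u * x) := by group
    _ = (x⁻¹ * v * x) ^ j * u := by rw [C.S_T hx hu, inv_conj_pow]; group
    _ = _ := by
      rw [e, Commute.mul_pow (C.comm _ C.v_F _ hw.1), mul_assoc, mul_assoc,
        C.comm _ (pow_mem hw j).1 _ hu.1]

theorem commutator_S : ⁅S, S⁆ ≤ C.T := by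
  rw [commutator_le]
  intro x hx y hy
  obtain ⟨f, hf, a, rfl⟩ := C.dec_of_T (C.S_le_N hx) fun u hu => C.S_T hx hu
  obtain ⟨f', hf', b, rfl⟩ := C.dec_of_T (C.S_le_N hy) fun u hu => C.S_T hy hu
  obtain ⟨u, hu, e⟩ := C.comm_F hf' (inv_mem (pow_mem C.g_mem a))
  obtain ⟨u', hu', e'⟩ := C.comm_F (inv_mem hf) (inv_mem (pow_mem C.g_mem b))
  have : ⁅f * g ^ a, f' * g ^ b⁆ =
      f * ((g ^ a)⁻¹⁻¹ * f' * (g ^ a)⁻¹) * ((g ^ b)⁻¹⁻¹ * f⁻¹ * (g ^ b)⁻¹) * f'⁻¹ := by
    rw [commutatorElement_def]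
    group
  rw [this, e, e']
  have : f * (f' * u) * (f⁻¹ * u') * f'⁻¹ = u * u' := by
    rw [C.comm f hf _ (mul_mem hf' hu.1), mul_assoc (f' * u), mul_inv_cancel_left, mul_assoc f',
      C.comm f' hf' _ (mul_mem hu.1 hu'.1), mul_inv_cancel_right]
  rw [this]
  exact mul_mem hu hu'

theorem lcs_S : S.lowerCentralSeries (p - 1) = ⊥ := by
  have h : S.lowerCentralSeries 2 = ⊥ := eq_bot_iff.2 (commutator_le.2 fun x hx y hy =>
    mem_bot.2 (commutatorElement_eq_one_iff_mul_comm.2 (C.S_T hy (C.commutator_S hx))))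
  have := C.three_le
  exact eq_bot_iff.2 (h ▸ S.lowerCentralSeries_antitone (by omega))

theorem relIndex_M : (centralizer {v}).relIndex (normalizer (S : Set G)) = p := by
  have R := C.toRO
  have hCM : centralizer {v} ≤ normalizer (S : Set G) := C.C_le_N.trans C.N_le_M
  have hc := card_mul_relIndex hCM
  have hX := Frob.ncard_conj_subgroup (normalizer (S : Set G)) v
  set X := {y : G | ∃ x ∈ normalizer (S : Set G), x * v * x⁻¹ = y} with hXdef
  have hsub : {y | ∃ u ∈ C.T, y = v * u} ⊆ X := by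
    rintro _ ⟨u, hu, rfl⟩
    obtain ⟨a, ha, e⟩ := C.exists_conj_v hu
    exact ⟨a⁻¹, inv_mem (C.N_le_M ha), by simpa using e⟩
  have hT : {y | ∃ u ∈ C.T, y = v * u}.ncard = p := by rw [ncard_mul, C.card_T, pow_one]
  refine orbit_numerics C.prime C.three_le ?_ (fun h => C.valG ?_) ?_ ?_
  · by_contra h
    refine C.valC (((Nat.Coprime.pow_left _ ((Nat.Prime.coprime_iff_not_dvd C.prime).2
      h)).dvd_mul_right).1 ?_)
    rw [hc, ← C.cardS]
    exact card_dvd_of_le le_normalizer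
  · refine Dvd.dvd.trans ?_ (card_subgroup_dvd_card (normalizer (S : Set G)))
    rw [← hc, show p ^ (1 + 3) = p ^ (1 + 1) * p ^ 2 by ring]
    exact Nat.mul_dvd_mul (C.card_F ▸ card_dvd_of_le C.aff.le) h
  · have h1 : Nat.card ↥(Q ⊓ centralizer {v}) = p - 1 := by
      have := C.hm
      rw [pow_one] at this
      omega
    rw [← hX, ← h1]
    conv_rhs => rw [← hT]
    rw [← Set.ncard_sdiff hsub]
    refine card_dvd_ncard_of_free _ ?_ ?_
    · rintro y hy _ ⟨⟨a, ha, rfl⟩, h2⟩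
      refine ⟨⟨y * a, mul_mem (hCM hy.2) ha, by group⟩, ?_⟩
      rintro ⟨u, hu, e⟩
      refine h2 ⟨y⁻¹ * u * y, C.T_conj (C.C_le_N hy.2) hu, ?_⟩
      calc a * v * a⁻¹ = y⁻¹ * (y * (a * v * a⁻¹) * y⁻¹) * y := by group
        _ = y⁻¹ * v * u * y := by rw [e]; group
        _ = _ := by
          rw [mem_centralizer_singleton_iff.1 (inv_mem (mem_inf.1 hy).2)]; group
    · rintro y hy _ ⟨⟨a, ha, rfl⟩, h2⟩ e
      by_contra hy1
      have hz : a * v * a⁻¹ ∈ S := by simpa using conj_mem (inv_mem ha) (C.FS C.v_F)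
      have h3 : ¬ (a * v * a⁻¹) * v = v * (a * v * a⁻¹) := fun h => by
        have hF := C.mem_F_of_comm h fun u hu => C.S_T hz hu
        obtain ⟨n, hn, u, hu, e₁⟩ := C.F_dec hF
        have hn1 : n ≠ 1 := fun h => by
          rw [h, one_mul] at e₁
          have := C.notConj hu (mem_zpowers v) (a := a⁻¹) (by rw [← e₁, inv_inv])
          rw [this] at e₁
          exact C.v_ne (by simpa [mul_inv_eq_iff_eq_mul] using e₁)
        by_cases hu1 : u = 1
        · rw [hu1, mul_one] at e₁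
          have := C.norm_eq (g := a⁻¹) (by rw [inv_inv, e₁]; exact hn)
          exact h2 ⟨1, one_mem _, by rw [mul_assoc, ← this]; group⟩
        obtain ⟨u₀, hu₀, -, e₀⟩ := C.exists_z
        obtain ⟨k, b, -, rfl, e'⟩ := C.conj_P (mem_zpowers v) hu₀ e₀ hn hn1 hu hu1
        have h4 : (b * a)⁻¹⁻¹ * v * (b * a)⁻¹ = v ^ k := by
          calc _ = b * (a * v * a⁻¹) * b⁻¹ := by group
            _ = _ := by rw [e₁, e']; group
        have h5 := C.norm_eq (h4 ▸ hn)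
        rw [mul_assoc, ← h5, inv_mul_cancel_left] at h4
        exact h2 ⟨u, hu, by rw [e₁, ← h4]⟩
      have h4 := C.commutator_S (commutator_mem_commutator hz (C.FS C.v_F))
      obtain ⟨w, hw, e₂⟩ := C.T_trans h4 fun h => h3 (commutatorElement_eq_one_iff_mul_comm.1 h)
      have h5 : y * ⁅a * v * a⁻¹, v⁆ = ⁅a * v * a⁻¹, v⁆ * y := by
        have c1 : Commute y (a * v * a⁻¹) := e
        have c2 : Commute y v := mem_centralizer_singleton_iff.1 hy.2
        exact (((c1.mul_right c2).mul_right c1.inv_right).mul_right c2.inv_right).eq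
      have h6 := R.mem_H_of_comm hy.1 hy1 h5
      rw [e₂] at h6
      exact R.st_notMem C.dist (by
        simpa [mul_assoc] using mul_mem (mul_mem (R.le hw.1) h6) (inv_mem (R.le hw.1)))
  · rw [← hX, ← Nat.card_coe_set_eq, show p ^ 3 = p ^ (1 + 2) from rfl, ← C.cardS,
      ← Nat.card_Ico 1 p, ← Nat.card_eq_finsetCard, ← Nat.card_prod]
    refine Nat.card_le_card_of_injective (fun x : X × Finset.Ico 1 p =>
      (⟨x.1.1 ^ x.2.1, pow_mem (by
        obtain ⟨a, ha, e⟩ := x.1.2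
        rw [← e]
        simpa using conj_mem (inv_mem ha) (C.FS C.v_F)) _⟩ : S)) ?_
    rintro ⟨⟨_, a, ha, rfl⟩, ⟨i, hi⟩⟩ ⟨⟨_, b, hb, rfl⟩, ⟨j, hj⟩⟩ e
    have e' : (a * v * a⁻¹) ^ i = (b * v * b⁻¹) ^ j := congrArg Subtype.val e
    rw [conj_pow, conj_pow] at e'
    obtain ⟨hi1, hi2⟩ := Finset.mem_Ico.1 hi
    obtain ⟨hj1, hj2⟩ := Finset.mem_Ico.1 hj
    have h1 : v ^ i ≠ 1 := pow_ne_one_of_lt_orderOf (by omega) (by rwa [C.ord])
    have h2 : v ∈ zpowers (v ^ i) := by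
      rw [zpowers_eq_of_prime C.prime' (pow_mem (mem_zpowers v) i) h1]; exact mem_zpowers v
    obtain ⟨k, hk⟩ := mem_zpowers_iff.1 h2
    have h3 : (a⁻¹ * b)⁻¹ * v ^ i * (a⁻¹ * b) = v ^ j := by
      calc _ = b⁻¹ * (a * v ^ i * a⁻¹) * b := by group
        _ = _ := by rw [e']; group
    have h4 := C.norm_eq (g := a⁻¹ * b) (by
      have : (a⁻¹ * b)⁻¹ * v * (a⁻¹ * b) = ((a⁻¹ * b)⁻¹ * v ^ i * (a⁻¹ * b)⁻¹⁻¹) ^ k := by
        rw [conj_zpow, hk, inv_inv]
      rw [this, inv_inv, h3]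
      exact zpow_mem (pow_mem (mem_zpowers v) j) k)
    have h5 : a * v * a⁻¹ = b * v * b⁻¹ := by
      calc a * v * a⁻¹ = a * (v * (a⁻¹ * b)) * b⁻¹ := by group
        _ = _ := by rw [← h4]; group
    rw [mul_assoc, ← (Commute.pow_right h4 i).eq, inv_mul_cancel_left] at h3
    have h6 : i = j := pow_injOn_Iio_orderOf (by rwa [Set.mem_Iio, C.ord])
      (by rwa [Set.mem_Iio, C.ord]) h3
    exact Prod.ext (Subtype.ext h5) (Subtype.ext h6)

theorem conj_v_M {a : G} (ha : a ∈ normalizer (S : Set G)) : ∃ u ∈ C.T, a⁻¹ * v * a = v * u := by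
  have hsub : {y | ∃ u ∈ C.T, y = v * u} ⊆
      {y : G | ∃ x ∈ normalizer (S : Set G), x * v * x⁻¹ = y} := by
    rintro _ ⟨u, hu, rfl⟩
    obtain ⟨a, ha, e⟩ := C.exists_conj_v hu
    exact ⟨a⁻¹, inv_mem (C.N_le_M ha), by simpa using e⟩
  have := Set.eq_of_subset_of_ncard_le hsub (by
    rw [Frob.ncard_conj_subgroup, C.relIndex_M, ncard_mul, C.card_T, pow_one])
  exact this.ge ⟨a⁻¹, inv_mem ha, by rw [inv_inv]⟩

theorem false (hG : pResidual p G = ⊤) : False := by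
  haveI := Fact.mk C.prime
  have h1 : ¬ p ∣ S.index := fun h => C.valG (by
    rw [← S.card_mul_index, C.cardS, show p ^ (1 + 3) = p ^ (1 + 2) * p from rfl]
    exact Nat.mul_dvd_mul_left _ h)
  have h2 := HallWielandt.pResidualOf_normalizer_of_class_lt (C.pS.toSylow h1) C.lcs_S
  rw [hG, top_inf_eq, IsPGroup.toSylow_coe] at h2
  set M := normalizer (S : Set G) with hM
  have hSM : S ≤ M := le_normalizer
  have hv : v ∈ M := hSM (C.FS C.v_F)
  obtain ⟨v', hv', e⟩ := h2.ge hv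
  obtain rfl : v' = ⟨v, hv⟩ := Subtype.ext e
  have h3 := transfer_pow_mem (G := M) (B := S.subgroupOf M) (L := C.T.subgroupOf M)
    (commutator_le.2 fun x hx y hy => C.commutator_S (commutator_mem_commutator hx hy))
    (v := ⟨v, hv⟩) (C.FS C.v_F) Quotient.out Quotient.out_eq' (fun ω => ?_) fun A _ f hf => ?_
  · have h4 : v ^ S.relIndex M ∈ C.T := h3
    refine C.v_ne (C.P_inf_T (mem_zpowers v) (mem_of_pow_mem' h4 ?_))
    rw [C.ord]
    exact ((Nat.Prime.coprime_iff_not_dvd C.prime).2 fun h =>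
      h1 (h.trans (relIndex_dvd_index_of_le hSM))).symm
  · have : (⟨v, hv⟩ : M) • ω = ω := by
      induction ω using QuotientGroup.induction_on with
      | H a =>
        refine QuotientGroup.eq.2 ?_
        change (v * a)⁻¹ * a ∈ S
        simpa [mul_assoc] using conj_mem a.2 (inv_mem (C.FS C.v_F))
    rw [this]
    obtain ⟨u, hu, e⟩ := C.conj_v_M ω.out.2
    change (ω.out : G)⁻¹ * v * ω.out * v⁻¹ ∈ C.T
    rw [e, C.comm _ C.v_F _ hu.1, mul_inv_cancel_right]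
    exact hu
  · refine (PRes.pResidual_le_iff (N := f.ker)).2 (fun x hx => ?_) hv'
    have h4 := hf x
    rw [card_subgroupOf_of_le hSM, C.cardS] at h4
    have h5 : f x ^ orderOf x = 1 := by rw [← map_pow, pow_orderOf_eq_one, map_one]
    exact orderOf_eq_one_iff.1 (Nat.eq_one_of_dvd_coprimes (hx.pow_right _)
      (orderOf_dvd_of_pow_eq_one h5) (orderOf_dvd_of_pow_eq_one h4))

end FD

end CfsgLib.Suz
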