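import Mathlib
import Cfsg.Agent.Lib.Suz.FirstB
import Cfsg.Agent.Lib.Suz.FirstD

/-! Suzuki's theorem, the first case: some prime order element of `V` has a centralizer of
2-rank 1. -/

set_option autoImplicit false
set_option linter.unusedSectionVars false
set_option linter.style.haveILetI false

namespace CfsgLib.Suz
open Subgroup Cfsg
open scoped commutatorElement IsMulCommutative

variable {G : Type*} [Group G] [Finite G] {H Q : Subgroup G} {t s r : G}

theorem RO.first_case [IsSimpleGroup G] (R : RO H Q t) (h2 : Rank2 Q) (hs : Dist Q t s r)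
    (ih : IH H Q t s r) {v : G} (hv : v ∈ Vg H t) (hp : (orderOf v).Prime)
    (h1 : ¬ Rank2 (Q ⊓ centralizer {v})) : Typ (Dg H t) Q s r := by
  have hcore : H.normalCore = ⊥ := (normalCore_normal H).eq_bot_or_eq_top.resolve_right fun e =>
    R.H_ne_top (eq_top_iff.2 (e ▸ normalCore_le H))
  have hperf : commutator G = ⊤ :=
    (inferInstance : (commutator G).Normal).eq_bot_or_eq_top.resolve_left fun e =>
      R.t_notMem (R.mem_H_of_comm hs.s_mem hs.s_ne (commutatorElement_eq_one_iff_mul_comm.1
        (mem_bot.1 (e ▸ commutator_mem_commutator (mem_top s) (mem_top t)))))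
  have C : FC H Q t s r v (orderOf v) := ⟨R, h2, hs, hv, rfl, hp, h1, hcore, hperf⟩
  by_cases hW : ∃ w ∈ Wg H Q t, w * v = v * w ∧ orderOf w = orderOf v
  · obtain ⟨w, hw, hwv, ho⟩ := hW
    exact C.typ_of_W ih hw hwv ho
  exfalso
  obtain ⟨F, S, g, m, D⟩ := C.exists_FD fun w hw hwv ho => hW ⟨w, hw, hwv, ho⟩
  obtain rfl := D.m_eq
  haveI := PRes.pResidual_normal (G := G) (p := orderOf v)
  refine D.false (this.eq_bot_or_eq_top.resolve_left fun e => R.t_ne (mem_bot.1 (e ▸ ?_)))
  haveI : Fact (Nat.Prime 2) := Nat.fact_prime_two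
  refine PRes.mem_pResidual_of_coprime ?_
  rw [orderOf_eq_prime (by rw [pow_two, R.tt]) R.t_ne]
  exact Nat.coprime_two_left.2 C.odd_p

end CfsgLib.Suz
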