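import Mathlib
import Cfsg.Agent.Lib.Suz.First
import Cfsg.Agent.Lib.Suz.ZT

/-! Suzuki's theorem on doubly transitive groups (hypothesis `RO`, 2-rank at least 2), weak
form: `Q` is a 2-group of one of three types; for simple `G` the first two types give
`SL₂(2ⁿ)` and `Sz(q)`. -/

set_option autoImplicit false
set_option linter.unusedSectionVars false
set_option linter.style.haveILetI false

namespace CfsgLib.Suz
open Subgroup
open scoped commutatorElement IsMulCommutative MatrixGroups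

universe u

theorem RO.typ_of_ZT {G : Type*} [Group G] [Finite G] {H Q : Subgroup G} {t s r : G}
    (R : RO H Q t) (h2 : Rank2 Q) (hs : Dist Q t s r) (hV : Vg H t = ⊥) :
    Typ (Dg H t) Q s r := by
  have hD : ∀ d ∈ Dg H t, t * d * t = d⁻¹ := fun d hd => by
    obtain ⟨v, hv, k, hk, rfl⟩ := R.D_eq_V_mul_K hd
    rw [hV, mem_bot] at hv
    rw [hv, one_mul]
    exact hk.2
  have hD1 : Dg H t ≠ ⊥ := fun h => by
    obtain ⟨k, hk, hk1⟩ := R.exists_K_ne_one h2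
    exact hk1 (by simpa [h] using hk.1)
  have Z : ZT H Q t := { R with inv := hD, ne := hD1 }
  rcases R.ZT_theorem hD hD1 with ⟨n, -, h, -⟩ | ⟨hp, hna, hc, hr, -⟩
  · exact ⟨Z.isPGroup, Or.inl h⟩
  · exact ⟨hp, Or.inr (Or.inl ⟨hna, by rw [hc, Z.card_D], hr s r hs⟩)⟩

theorem suzuki_aux (n : ℕ) : ∀ (G : Type u) [Group G] [Finite G] (H Q : Subgroup G) (t s r : G),
    Nat.card G = n → RO H Q t → Rank2 Q → Dist Q t s r → Typ (Dg H t) Q s r := by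
  induction n using Nat.strong_induction_on with | _ n ih
  intro G _ _ H Q t s r hn R h2 hs
  -- reduce to trivial core
  by_cases hcore : H.normalCore = ⊥
  swap
  · let φ := QuotientGroup.mk' H.normalCore
    have hφ : φ.ker ≤ H := by rw [QuotientGroup.ker_mk']; exact normalCore_le H
    have hlt : Nat.card (G ⧸ H.normalCore) < n := by
      rw [← hn, card_eq_card_quotient_mul_card_subgroup H.normalCore]
      exact lt_mul_of_one_lt_right Nat.card_pos ((one_lt_card_iff_ne_bot _).2 hcore)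
    have h := ih _ hlt (G ⧸ H.normalCore) (H.map φ) (Q.map φ) (φ t) (φ s) (φ r) rfl
      (R.map φ hφ (QuotientGroup.mk'_surjective _)) ((R.rank2_map φ hφ).2 h2)
      (R.dist_map φ hφ hs)
    rw [RO.Dg_map φ hφ] at h
    exact Typ.of_map φ (fun x hx e => R.map_injOn_Q φ hφ hx Q.one_mem (e.trans (map_one φ).symm))
      (fun d hd x hx => R.norm d (Dg_le hd) x hx) hs.s_mem hs.r_mem h
  have sub : ∀ (L : Subgroup G) (ht : t ∈ L) (hsL : s ∈ L) (hrL : r ∈ L), L ≠ ⊤ →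
      RO (H.subgroupOf L) (Q.subgroupOf L) ⟨t, ht⟩ → Rank2 (Q ⊓ L) →
      Typ (Dg H t ⊓ L) (Q ⊓ L) s r := by
    intro L ht hsL hrL hL RL h2L
    have hlt : Nat.card L < n := by
      rw [← hn]
      exact (card_le_card_group L).lt_of_ne fun e => hL ((card_eq_iff_eq_top L).1 e)
    have h := ih _ hlt L (H.subgroupOf L) (Q.subgroupOf L) ⟨t, ht⟩ ⟨s, hsL⟩ ⟨r, hrL⟩ rfl RL
      (rank2_subgroupOf.2 h2L) (Dist.subgroupOf hs)
    rw [Dg_subgroupOf] at h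
    exact h.of_subgroupOf
  by_cases hsimp : IsSimpleGroup G
  swap
  · have : Nontrivial G := ⟨⟨t, 1, R.t_ne⟩⟩
    obtain ⟨M, hM, h1, h3⟩ : ∃ M : Subgroup G, M.Normal ∧ M ≠ ⊥ ∧ M ≠ ⊤ := by
      by_contra hc
      refine hsimp ⟨fun M hM => ?_⟩
      by_contra hc'
      exact hc ⟨M, hM, fun e => hc' (Or.inl e), fun e => hc' (Or.inr e)⟩
    rcases Nat.even_or_odd (Nat.card M) with hev | hodd
    · obtain ⟨ht, -, hQ⟩ := R.le_normal_of_even h2 hev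
      have h := sub M ht (hQ hs.s_mem) (hQ hs.r_mem) h3 (R.sub_of_le ht hQ)
        (by rwa [inf_eq_left.2 hQ])
      rw [inf_eq_left.2 hQ] at h
      exact h.mono inf_le_left
    · exact absurd (eq_bot_iff.2 (hcore ▸ (normal_le_normalCore.2 (R.normal_le_of_odd h2 hodd))))
        h1
  by_cases hV : Vg H t = ⊥
  · exact R.typ_of_ZT h2 hs hV
  have hIH : IH H Q t s r := by
    intro v hv hv1 h2v
    have hX : ({v} : Set G) ⊆ Vg H t := by simpa using hv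
    refine sub _ (R.t_mem_cent hX) (R.s_mem_cent hs hX) (R.r_mem_cent hs hX) (fun e => ?_)
      (R.sub_cent hX) h2v
    have hz : v ∈ H.normalCore := (R.mem_normalCore_iff).2 ⟨Vg_le_Dg hv, fun x _ => by
      have : x ∈ centralizer ({v} : Set G) := e ▸ mem_top x
      exact mem_centralizer_singleton_iff.1 this⟩
    rw [hcore, mem_bot] at hz
    exact hv1 hz
  by_cases hC : ∀ v ∈ Vg H t, (orderOf v).Prime → Rank2 (Q ⊓ centralizer {v})
  · exact R.c1_case h2 hs hcore hIH hV hC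
  · push Not at hC
    obtain ⟨v, hv, hp, h1⟩ := hC
    exact R.first_case h2 hs hIH hv hp h1

variable {G : Type*} [Group G] [Finite G] {H Q : Subgroup G} {t s r : G}

/-- Suzuki's theorem, weak form. -/
theorem RO.suzuki (R : RO H Q t) (h2 : Rank2 Q) (hs : Dist Q t s r) : Typ (Dg H t) Q s r :=
  suzuki_aux _ G H Q t s r rfl R h2 hs

theorem RO.isPGroup_two (R : RO H Q t) (h2 : Rank2 Q) : IsPGroup 2 Q := by
  obtain ⟨s, r, hs⟩ := R.exists_dist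
  exact (R.suzuki h2 hs).1

/-- If `Q K ∪ Q K t Q` is closed and `G` is simple then `D = K`. -/
theorem RO.inv_of_closed [IsSimpleGroup G] (R : RO H Q t) (h2 : Rank2 Q)
    (hf : ∀ x ∈ Q, x ≠ 1 → ∃ a ∈ Q, ∃ d ∈ Kset H t, ∃ y ∈ Q, t * x * t = a * d * t * y) :
    ∀ d ∈ Dg H t, t * d * t = d⁻¹ := by
  obtain ⟨L, htL, hQL, hDL, hmin, -⟩ := R.exists_ZT h2 (Q' := Q) le_rfl
    (fun d hd x hx => R.norm d (Dg_le hd.1) x hx) hf R.even
  have hQ : Q ≤ L := inf_eq_left.1 hQL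
  have hK : Kg H t ≤ L := hDL ▸ inf_le_right
  have hD : ∀ d ∈ Dg H t, ∀ x ∈ L, d * x * d⁻¹ ∈ L := by
    intro d hd
    refine hmin (L.comap (MulAut.conj d).toMonoidHom) (fun x hx => hQ (R.norm' (Dg_le hd) hx))
      (fun k hk => hK ?_) ?_
    · have := R.K_conj_D h2 ((R.mem_Kg h2).1 hk) (inv_mem hd)
      rw [inv_inv] at this
      exact (R.mem_Kg h2).2 this
    · change d * t * d⁻¹ ∈ L
      have h1 := hK ((R.mem_Kg h2).2 (R.K_of_D (inv_mem hd)))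
      have : d * t * d⁻¹ = t * (t * d⁻¹⁻¹ * t * d⁻¹) := by
        rw [inv_inv, ← mul_assoc, ← mul_assoc, ← mul_assoc, R.tt, one_mul]
      rw [this]
      exact mul_mem htL h1
  have hH : ∀ h ∈ H, ∀ x ∈ L, h * x * h⁻¹ ∈ L := by
    intro h hh x hx
    obtain ⟨y, hy, d, hd, rfl⟩ := R.dec h hh
    have := mul_mem (mul_mem (hQ hy) (hD d hd x hx)) (inv_mem (hQ hy))
    simpa [mul_assoc] using this
  have hN : L.Normal := ⟨fun x hx g => by
    by_cases hg : g ∈ H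
    · exact hH g hg x hx
    · obtain ⟨h, hh, y, hy, rfl⟩ := R.canon g hg
      have h1 : t * y ∈ L := mul_mem htL (hQ hy)
      have := hH h hh _ (mul_mem (mul_mem h1 hx) (inv_mem h1))
      simpa [mul_assoc] using this⟩
  have hL : L = ⊤ := (hN.eq_bot_or_eq_top).resolve_left fun e => R.t_ne (by simpa [e] using htL)
  intro d hd
  have : d ∈ Kg H t := by rw [← hDL, hL]; simpa using hd
  exact ((R.mem_Kg h2).1 this).2

theorem RO.D_ne_bot (R : RO H Q t) (h2 : Rank2 Q) : Dg H t ≠ ⊥ := fun h => by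
  obtain ⟨k, hk, hk1⟩ := R.exists_K_ne_one h2
  exact hk1 (by simpa [h] using hk.1)

/-- Simple `G`, elementary abelian `Q`: `G ≅ SL₂(2ⁿ)`. -/
theorem RO.simple_of_sq [IsSimpleGroup G] (R : RO H Q t) (h2 : Rank2 Q)
    (hQ : ∀ x ∈ Q, x * x = 1) :
    (∀ d ∈ Dg H t, t * d * t = d⁻¹) ∧
    ∃ n : ℕ, 2 ≤ n ∧ Nat.card Q = 2 ^ n ∧ Nat.card (Dg H t) + 1 = 2 ^ n ∧
      Nonempty (G ≃* SL(2, GaloisField 2 n)) ∧
      Nonempty (G ≃* Matrix.ProjectiveSpecialLinearGroup (Fin 2) (GaloisField 2 n)) := by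
  obtain ⟨s, r, hs⟩ := R.exists_dist
  obtain rfl := R.r_eq_s hs (hQ r hs.r_mem)
  have hD := R.inv_of_closed h2 fun x hx hx1 => by
    obtain ⟨a, ha, d, hd, y, hy, e⟩ := R.Q0_closed h2 hs x (mem_Q0g_of hx (hQ x hx)) hx1
    exact ⟨a, Q0g_le ha, d, hd, y, Q0g_le hy, e⟩
  have Z : ZT H Q t := { R with inv := hD, ne := R.D_ne_bot h2 }
  exact ⟨hD, Z.sl2 hQ⟩

/-- If `Q` is abelian then it is elementary abelian. -/
theorem RO.sq_eq_one_of_comm (R : RO H Q t) (h2 : Rank2 Q)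
    (hc : ∀ x ∈ Q, ∀ y ∈ Q, x * y = y * x) : ∀ x ∈ Q, x * x = 1 := by
  obtain ⟨s, r, hs⟩ := R.exists_dist
  rcases (R.suzuki h2 hs).2 with h | h | h
  · exact h
  · exact absurd (isMulCommutative_iff'.2 hc) h.1
  · exact absurd (isMulCommutative_iff'.2 hc) h.1

/-- Simple `G`, abelian `Q`: `G ≅ SL₂(2ⁿ)`. -/
theorem RO.simple_of_comm [IsSimpleGroup G] (R : RO H Q t) (h2 : Rank2 Q)
    (hc : ∀ x ∈ Q, ∀ y ∈ Q, x * y = y * x) :
    ∃ n : ℕ, 2 ≤ n ∧ Nat.card Q = 2 ^ n ∧ Nat.card (Dg H t) + 1 = 2 ^ n ∧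
      Nonempty (G ≃* SL(2, GaloisField 2 n)) ∧
      Nonempty (G ≃* Matrix.ProjectiveSpecialLinearGroup (Fin 2) (GaloisField 2 n)) :=
  (R.simple_of_sq h2 (R.sq_eq_one_of_comm h2 hc)).2

/-- Suzuki's theorem for simple groups: `SL₂(2ⁿ)`, `Sz(q)`, or the unitary type. -/
theorem RO.simple_trichotomy [IsSimpleGroup G] (R : RO H Q t) (h2 : Rank2 Q) :
    IsPGroup 2 Q ∧
    ((∃ n : ℕ, 2 ≤ n ∧ (∀ x ∈ Q, x * x = 1) ∧ Nat.card Q = 2 ^ n ∧
        Nat.card (Dg H t) + 1 = 2 ^ n ∧ Nonempty (G ≃* SL(2, GaloisField 2 n)) ∧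
        Nonempty (G ≃* Matrix.ProjectiveSpecialLinearGroup (Fin 2) (GaloisField 2 n))) ∨
      (¬ IsMulCommutative Q ∧ Nat.card Q = (Nat.card (Dg H t) + 1) ^ 2 ∧
        ∃ (F : Type) (_ : Field F) (_ : Fintype F) (m : ℕ), 1 ≤ m ∧
          Fintype.card F = 2 ^ (2 * m + 1) ∧ Nat.card (Dg H t) + 1 = 2 ^ (2 * m + 1) ∧
          Nonempty (G ≃* Cfsg.Lie.Sz F (2 ^ (m + 1)))) ∨
      (¬ IsMulCommutative Q ∧ Nat.card Q = Nat.card (Q0g Q) ^ 3 ∧
        (∀ s r, Dist Q t s r → r = s) ∧ Wg H Q t ≠ ⊥)) := by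
  obtain ⟨s, r, hs⟩ := R.exists_dist
  obtain ⟨hp, h | ⟨hna, hc, hr⟩ | ⟨hna, hc, hr, w, hw, h3, x, hx, h4⟩⟩ := R.suzuki h2 hs
  · obtain ⟨-, n, h1, h3⟩ := R.simple_of_sq h2 h
    exact ⟨hp, Or.inl ⟨n, h1, h, h3⟩⟩
  · have hD := R.inv_of_closed h2 (R.typeA_K h2 hp hna hc hs hr)
    rcases R.ZT_theorem hD (R.D_ne_bot h2) with ⟨n, -, h, -⟩ | ⟨-, -, h1, -, h3⟩
    · exact absurd (hr ▸ h r hs.r_mem) hs.s_ne
    · exact ⟨hp, Or.inr (Or.inl ⟨hna, h1, h3⟩)⟩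
  · refine ⟨hp, Or.inr (Or.inr ⟨hna, hc, fun s' r' hs' => ?_, fun e => h4 ?_⟩)⟩
    · obtain ⟨rfl, rfl⟩ := R.dist_unique hs hs'
      exact hr
    · have : w ∈ Wg H Q t := ⟨hw, fun u hu => by
        obtain ⟨hu1, hu2⟩ := (R.mem_Q0 h2).1 hu
        exact h3 u hu1 hu2⟩
      rw [e, mem_bot] at this
      simp [this]

end CfsgLib.Suz
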